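import Cfsg.Agent.Lib.SUMult.SUTwo
import Cfsg.Agent.Lib.ChevMult.SplitMult

/-!
The Schur multipliers of `PSU_n(q)`.
-/

set_option autoImplicit false
set_option linter.unusedSectionVars false

namespace CfsgLib.SUMult

open Subgroup Cfsg CfsgLib.Phan CfsgLib.ClassicalGroups

universe u

variable {F : Type u} [Field F] [Fintype F] {q n : ℕ}

/-- The centre of `SU_n(q)` is cyclic of order `gcd (n, q + 1)`. -/
theorem center_su_equiv (hF : Fintype.card F = q ^ 2) (hn : 1 ≤ n) :
    Nonempty (center (Cfsg.SU n F q) ≃* Multiplicative (ZMod (Nat.gcd n (q + 1)))) := by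
  classical
  let o : Fin n := ⟨0, hn⟩
  have hdiag : ∀ z : center (Cfsg.SU n F q), z.1.1.1 = Matrix.diagonal fun _ => z.1.1.1 o o := fun z => by
    ext i j
    by_cases hij : i = j
    · subst hij; rw [Matrix.diagonal_apply_eq]; exact (center_SU_scalar hF z i o).2
    · rw [Matrix.diagonal_apply_ne _ hij]; exact (center_SU_scalar hF z i j).1 hij
  let f : center (Cfsg.SU n F q) →* F :=
    { toFun := fun z => z.1.1.1 o o
      map_one' := Matrix.one_apply_eq o
      map_mul' := fun x y => by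
        show (x.1.1.1 * y.1.1.1) o o = x.1.1.1 o o * y.1.1.1 o o
        rw [hdiag x, hdiag y, Matrix.diagonal_mul_diagonal]
        simp }
  have hf : Function.Injective f := fun x y h => by
    have h' : x.1.1.1 o o = y.1.1.1 o o := h
    exact Subtype.ext (su_ext (by rw [hdiag x, hdiag y, h']))
  have : IsCyclic (center (Cfsg.SU n F q)) := isCyclic_of_subgroup_isDomain f hf
  exact ⟨mulEquivOfCyclicCardEq (by
    rw [card_center_SU hF hn, Nat.card_eq_of_bijective _ Multiplicative.toAdd.bijective, Nat.card_zmod])⟩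

/-- Central extensions of `SU_n(q)` split outside the exceptional cases. -/
theorem splitsAll_su (hF : Fintype.card F = q ^ 2) (hn : 3 ≤ n) (h32 : ¬(n = 3 ∧ q = 2))
    (h42 : ¬(n = 4 ∧ q = 2)) (h43 : ¬(n = 4 ∧ q = 3)) (h62 : ¬(n = 6 ∧ q = 2)) :
    CfsgLib.ChevMult.SplitsAll (Cfsg.SU n F q) := by
  have hq := herm_two_le hF
  rcases (show q = 2 ∨ q = 3 ∨ 4 ≤ q by omega) with rfl | rfl | hq4
  · exact fun E _ _ P => exists_section_two hF P.p P.surj P.central (by omega) (by omega)
  · by_cases h3 : n = 3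
    · subst h3; exact splits_three hF le_rfl
    · exact fun E _ _ P => exists_section hF le_rfl P.p P.surj P.central hn (Or.inr (by omega))
        fun _ i h => exists_lift_four hF (Or.inr rfl) (by omega) P.p P.surj P.central (seg i h)
          (seg_injective i h)
  · exact splitsAll_su_of_four_le hF hq4 hn

/-- The Schur multiplier of `PSU_n(q)`. -/
theorem hasCyclicSchurMultiplier_psu (hF : Fintype.card F = q ^ 2) (hn : 3 ≤ n) (h32 : ¬(n = 3 ∧ q = 2))
    (h42 : ¬(n = 4 ∧ q = 2)) (h43 : ¬(n = 4 ∧ q = 3)) (h62 : ¬(n = 6 ∧ q = 2)) :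
    Cfsg.HasCyclicSchurMultiplier (Cfsg.PSU n F q) (Nat.gcd n (q + 1)) := by
  obtain ⟨e⟩ := center_su_equiv hF (show 1 ≤ n by omega)
  exact CfsgLib.ChevMult.hasSchurMultiplier_of_split (QuotientGroup.mk' _) (QuotientGroup.mk'_surjective _)
    (QuotientGroup.ker_mk' _).le (SU_perfect hF hn h32) (splitsAll_su hF hn h32 h42 h43 h62)
    ((MulEquiv.subgroupCongr (QuotientGroup.ker_mk' _)).trans e)

end CfsgLib.SUMult
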