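import Mathlib.FieldTheory.Finite.Extension
import Mathlib.FieldTheory.Finite.GaloisField
import Mathlib.FieldTheory.Normal.Basic
import Mathlib.Tactic.Ring
import Mathlib.Tactic.Linarith
import Mathlib.Tactic.IntervalCases
import Mathlib.Tactic.NormNum.GCD
import Mathlib.Tactic.Linarith
import Mathlib.Tactic.NormNum.Prime

/-!
Biadditive forms on a finite field that are invariant under multiplication by an element not
conjugate to its inverse.
-/

set_option autoImplicit false

namespace CfsgLib.SUMult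

open Polynomial

universe u v

theorem mul_form_trivial {F : Type u} [Field F] [Finite F] {p : ℕ} [Fact p.Prime] [CharP F p]
    {M : Type v} [CommGroup M] (B : F → F → M)
    (hl : ∀ x y z, B (x + y) z = B x z * B y z) (hr : ∀ x y z, B z (x + y) = B z x * B z y)
    (c : F) (hc0 : c ≠ 0) (hc : ∀ j : ℕ, c ^ p ^ j ≠ c⁻¹)
    (hinv : ∀ x y, B (c * x) (c * y) = B x y) (x y : F) : B x y = 1 := by
  classical
  let _ : Algebra (ZMod p) F := ZMod.algebra F p
  let L : F → F →+ Additive M := fun z =>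
    AddMonoidHom.mk' (fun w => Additive.ofMul (B w z)) (fun a b => congrArg Additive.ofMul (hl a b z))
  let R : F → F →+ Additive M := fun z =>
    AddMonoidHom.mk' (fun w => Additive.ofMul (B z w)) (fun a b => congrArg Additive.ofMul (hr a b z))
  have hinvk : ∀ (k : ℕ) (x y : F), B (c ^ k * x) (c ^ k * y) = B x y := by
    intro k
    induction k with
    | zero => simp
    | succ k ih => intro x y; rw [pow_succ', mul_assoc, mul_assoc, hinv, ih]
  have hinv' : ∀ (k : ℕ) (x y : F), B (c ^ k * x) y = B x (c⁻¹ ^ k * y) := by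
    intro k x y
    have h := hinvk k x (c⁻¹ ^ k * y)
    rw [inv_pow, ← mul_assoc (c ^ k), mul_inv_cancel₀ (pow_ne_zero _ hc0), one_mul] at h
    rw [inv_pow]; exact h
  have hpoly : ∀ (P : (ZMod p)[X]) (x y : F),
      B (aeval c P * x) y = B x (aeval c⁻¹ P * y) := by
    intro P
    induction P using Polynomial.induction_on' with
    | add P Q hP hQ =>
      intro x y
      rw [map_add, map_add, add_mul, add_mul, hl, hr, hP, hQ]
    | monomial k a =>
      intro x y
      obtain ⟨i, rfl⟩ := ZMod.natCast_zmod_surjective a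
      rw [aeval_monomial, aeval_monomial, map_natCast]
      apply Additive.ofMul.injective
      have h1 := (L y).map_nsmul i (c ^ k * x)
      have h2 := (R x).map_nsmul i (c⁻¹ ^ k * y)
      simp only [L, R, AddMonoidHom.mk'_apply, nsmul_eq_mul] at h1 h2
      rw [mul_assoc, mul_assoc, h1, h2, hinv']
  by_cases hroot : aeval c⁻¹ (minpoly (ZMod p) c) = 0
  swap
  · have h := hpoly (minpoly (ZMod p) c) x ((aeval c⁻¹ (minpoly (ZMod p) c))⁻¹ * y)
    rw [minpoly.aeval, zero_mul, ← mul_assoc, mul_inv_cancel₀ hroot, one_mul] at h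
    rw [← h]
    have := (L ((aeval c⁻¹ (minpoly (ZMod p) c))⁻¹ * y)).map_zero
    simpa [L] using this
  exfalso
  obtain ⟨s, hs⟩ := minpoly.exists_algEquiv_of_root
    (Algebra.IsAlgebraic.isAlgebraic c) hroot
  obtain ⟨i, hi⟩ := FiniteField.exists_forall_apply_eq_pow (ZMod p) p F s
  rw [hi, Nat.card_zmod, inv_pow] at hs
  exact hc i (inv_eq_iff_eq_inv.1 hs)

/-- The exponent of the torus on the root group is never inverted by Frobenius. -/
theorem torus_exponent {p k j : ℕ} (hp : p.Prime) (hq : 3 ≤ p ^ k) (hj : j < 2 * k) :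
    ¬ (p ^ k) ^ 2 - 1 ∣ ((p ^ k) ^ 2 - p ^ k + 1) * (p ^ j + 1) := by
  intro hdvd
  obtain ⟨q, hqdef⟩ : ∃ q, q = p ^ k := ⟨_, rfl⟩
  rw [← hqdef] at hdvd hq
  have hq2 : q ≤ q ^ 2 := Nat.le_self_pow two_ne_zero q
  have h1 : 1 ≤ q ^ 2 := by omega
  have h3 : q ^ 2 - 1 ∣ 3 * (p ^ j + 1) := by
    have e : (q + 2) * ((q ^ 2 - q + 1) * (p ^ j + 1)) =
        (q + 1) * (p ^ j + 1) * (q ^ 2 - 1) + 3 * (p ^ j + 1) := by
      zify [hq2, h1]; ring
    exact (Nat.dvd_add_right (dvd_mul_left _ _)).1 (e ▸ hdvd.mul_left (q + 2))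
  have hpj : p * p ^ j ≤ q ^ 2 := by
    rw [hqdef, ← pow_succ', ← pow_mul]
    exact Nat.pow_le_pow_right hp.pos (by omega)
  have hq9 : 9 ≤ q ^ 2 := by
    have := Nat.pow_le_pow_left hq 2
    omega
  obtain ⟨m, hm⟩ := h3
  have hm0 : m ≠ 0 := by rintro rfl; simp at hm
  rcases (show p = 2 ∨ p = 3 ∨ 5 ≤ p by
      have := hp.two_le
      rcases eq_or_ne p 4 with rfl | h
      · exact absurd hp (by norm_num)
      · omega) with rfl | rfl | hp5
  · have hm1 : m = 1 := by
      by_contra hne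
      have hm2 : (q ^ 2 - 1) * 2 ≤ (q ^ 2 - 1) * m := Nat.mul_le_mul_left _ (by omega)
      rw [← hm] at hm2
      have hqe : 4 ≤ q := by
        rcases Nat.lt_or_ge k 2 with hk | hk
        · interval_cases k <;> simp at hqdef <;> omega
        · rw [hqdef]; exact le_trans (by norm_num) (Nat.pow_le_pow_right (by norm_num : 1 ≤ 2) hk)
      have := Nat.pow_le_pow_left hqe 2
      omega
    rw [hm1, mul_one] at hm
    have hk2 : 2 ≤ k := by
      by_contra hk
      interval_cases k <;> simp at hqdef <;> omega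
    have h4 : 8 ∣ q ^ 2 := by
      rw [hqdef, ← pow_mul]; exact pow_dvd_pow 2 (show 3 ≤ k * 2 by omega)
    rcases (show j ≤ 1 ∨ j = 2 ∨ 3 ≤ j by omega) with hj1 | rfl | hj3
    · interval_cases j <;> omega
    · have : q ^ 2 = 4 ^ 2 := by norm_num at hm ⊢; omega
      obtain rfl : q = 4 := Nat.pow_left_injective two_ne_zero this
      norm_num at hdvd
    · have h8 : 8 ∣ 2 ^ j := pow_dvd_pow 2 hj3
      omega
  · have hcop : Nat.Coprime (q ^ 2 - 1) 3 := by
      rw [Nat.coprime_comm, Nat.Prime.coprime_iff_not_dvd Nat.prime_three]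
      intro h
      have h9 : 3 ∣ q ^ 2 := by
        rw [hqdef, ← pow_mul]; exact dvd_pow_self 3 (show k * 2 ≠ 0 by omega)
      have := Nat.dvd_sub h9 h
      rw [show q ^ 2 - (q ^ 2 - 1) = 1 by omega] at this
      norm_num at this
    have := Nat.le_of_dvd (by omega) (hcop.dvd_of_dvd_mul_left ⟨m, hm⟩)
    omega
  · have hm1 : (q ^ 2 - 1) * 1 ≤ (q ^ 2 - 1) * m := Nat.mul_le_mul_left _ (by omega)
    rw [← hm] at hm1
    have : 5 * p ^ j ≤ p * p ^ j := Nat.mul_le_mul_right _ hp5
    have hq5 : 5 ≤ q := by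
      rw [hqdef]; exact hp5.trans (Nat.le_self_pow (by rintro rfl; omega) p)
    have := Nat.pow_le_pow_left hq5 2
    omega

end CfsgLib.SUMult
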