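import Cfsg.Agent.Lib.SUMult.PointStab
import Cfsg.Agent.Lib.SUMult.FormLemma
import Cfsg.Agent.Lib.ClassicalGroups.UnitarySimple

/-!
`SU₃(q)`, `q ≥ 3`, has no multiplier at the characteristic.
-/

set_option autoImplicit false

namespace CfsgLib.SUMult

open Subgroup Cfsg CfsgLib.Schur CfsgLib.ClassicalGroups
open scoped commutatorElement

universe u

variable {F : Type u} [Field F] [Fintype F] {q : ℕ}

/-- An isotropic basis. -/
theorem exists_iso_basis (hF : Fintype.card F = q ^ 2) :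
    ∃ M : Matrix (Fin 3) (Fin 3) F, IsUnit M ∧ ∀ u w : Fin 3 → F,
      Cfsg.hermForm 3 F q (M.mulVec u) (M.mulVec w) =
        u 0 * w 2 ^ q + u 1 * w 1 ^ q + u 2 * w 0 ^ q := by
  classical
  have hq := herm_two_le hF
  obtain ⟨x, hx0, hx⟩ := exists_isotropic_ne_zero (n := 3) hF (by omega)
  obtain ⟨y, hy, hxy⟩ := exists_partner hF hx0 hx
  obtain ⟨e, he, hex, hey⟩ := exists_norm_one_perp_pair hF le_rfl hx hy hxy
  have hyx : Cfsg.hermForm 3 F q y x = 1 := by rw [hermForm_symm hF 3 x y, hxy, one_pow]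
  have hxe : Cfsg.hermForm 3 F q x e = 0 := by rw [hermForm_symm hF 3 e x, hex, herm_conj_zero hF]
  have hye : Cfsg.hermForm 3 F q y e = 0 := by rw [hermForm_symm hF 3 e y, hey, herm_conj_zero hF]
  let M : Matrix (Fin 3) (Fin 3) F := Matrix.of fun i j => ![x, e, y] j i
  have hM : ∀ u : Fin 3 → F, M.mulVec u = u 0 • x + u 1 • e + u 2 • y := fun u => by
    funext i
    simp [M, Matrix.mulVec, dotProduct, Fin.sum_univ_three, mul_comm]
  have hform : ∀ u w : Fin 3 → F,
      Cfsg.hermForm 3 F q (M.mulVec u) (M.mulVec w) =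
        u 0 * w 2 ^ q + u 1 * w 1 ^ q + u 2 * w 0 ^ q := fun u w => by
    simp only [hM, hermForm_add_left, hermForm_add_right hF, hermForm_smul_left,
      hermForm_smul_right, hx, hy, hxy, hyx, he, hex, hey, hxe, hye]
    ring
  refine ⟨M, Matrix.mulVec_injective_iff_isUnit.1 fun u v huv => ?_, hform⟩
  have h : ∀ w : Fin 3 → F, u 0 * w 2 ^ q + u 1 * w 1 ^ q + u 2 * w 0 ^ q =
      v 0 * w 2 ^ q + v 1 * w 1 ^ q + v 2 * w 0 ^ q := fun w => by rw [← hform, ← hform, huv]
  have h0 := h ![0, 0, 1]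
  have h1 := h ![0, 1, 0]
  have h2 := h ![1, 0, 0]
  simp [zero_pow (show q ≠ 0 by omega)] at h0 h1 h2
  funext i
  fin_cases i <;> assumption

/-- Elements of `SU₃` written in the isotropic basis. -/
theorem exists_su_of_iso (M : Matrix (Fin 3) (Fin 3) F) (hM : IsUnit M)
    (hform : ∀ u w : Fin 3 → F, Cfsg.hermForm 3 F q (M.mulVec u) (M.mulVec w) =
      u 0 * w 2 ^ q + u 1 * w 1 ^ q + u 2 * w 0 ^ q)
    (g : Matrix (Fin 3) (Fin 3) F) (hd : g.det = 1)
    (hg : ∀ u w : Fin 3 → F, (g.mulVec u) 0 * (g.mulVec w) 2 ^ q + (g.mulVec u) 1 * (g.mulVec w) 1 ^ q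
      + (g.mulVec u) 2 * (g.mulVec w) 0 ^ q = u 0 * w 2 ^ q + u 1 * w 1 ^ q + u 2 * w 0 ^ q) :
    ∃ s : Cfsg.SU 3 F q, s.1.1 = M * g * M⁻¹ := by
  have hMd : IsUnit M.det := (Matrix.isUnit_iff_isUnit_det M).1 hM
  refine ⟨⟨⟨M * g * M⁻¹, by
    rw [Matrix.det_conj hM, hd]⟩, mem_SU_iff.2 fun u w => ?_⟩, rfl⟩
  show Cfsg.hermForm 3 F q ((M * g * M⁻¹).mulVec u) ((M * g * M⁻¹).mulVec w) = _
  rw [← Matrix.mulVec_mulVec, ← Matrix.mulVec_mulVec, ← Matrix.mulVec_mulVec, ← Matrix.mulVec_mulVec,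
    hform, hg, ← hform, Matrix.mulVec_mulVec, Matrix.mulVec_mulVec, Matrix.mul_nonsing_inv M hMd,
    Matrix.one_mulVec, Matrix.one_mulVec]

theorem noMultiplierAt_su_three_char (hF : Fintype.card F = q ^ 2) (hq : 3 ≤ q) {p : ℕ}
    [Fact p.Prime] (hp : p ∣ q) : NoMultiplierAt p (Cfsg.SU 3 F q) := by
  classical
  have hpp : p.Prime := Fact.out
  -- characteristic and `q = p ^ k`
  obtain ⟨p', hchar⟩ := CharP.exists F
  obtain ⟨n, hp', hn⟩ := FiniteField.card F p'
  have : p = p' := (Nat.prime_dvd_prime_iff_eq hpp hp').1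
    (hpp.dvd_of_dvd_pow (n := (n : ℕ)) (by rw [← hn, hF]; exact dvd_pow hp two_ne_zero))
  subst this
  obtain ⟨k, -, hk⟩ := (Nat.dvd_prime_pow hp').1 (show q ∣ p ^ (n : ℕ) by
    rw [← hn, hF]; exact dvd_pow_self q two_ne_zero)
  have hnk : (n : ℕ) = 2 * k := by
    apply Nat.pow_right_injective hp'.two_le
    show p ^ (n : ℕ) = p ^ (2 * k)
    rw [← hn, hF, hk, ← pow_mul, mul_comm]
  obtain ⟨M, hM, hform⟩ := exists_iso_basis hF
  have hMd : IsUnit M.det := (Matrix.isUnit_iff_isUnit_det M).1 hM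
  have hqq : ∀ x : F, (x ^ q) ^ q = x := fun x => by rw [← pow_mul, ← pow_two, ← hF, FiniteField.pow_card]
  let E : Cfsg.SU 3 F q → Matrix (Fin 3) (Fin 3) F := fun s => M⁻¹ * s.1.1 * M
  have hE : ∀ {s : Cfsg.SU 3 F q} {g}, s.1.1 = M * g * M⁻¹ → E s = g := fun {s g} h => by
    show M⁻¹ * s.1.1 * M = g
    rw [h, ← mul_assoc, ← mul_assoc, Matrix.nonsing_inv_mul M hMd, one_mul, mul_assoc,
      Matrix.nonsing_inv_mul M hMd, mul_one]
  have hEinj : Function.Injective E := fun a b h => by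
    refine Subtype.ext (Subtype.ext ?_)
    have h' := congrArg (fun g => M * g * M⁻¹) h
    simp only [E, ← mul_assoc, Matrix.mul_nonsing_inv M hMd, one_mul] at h'
    simpa only [mul_assoc, Matrix.mul_nonsing_inv M hMd, mul_one] using h'
  have hEmul : ∀ a b, E (a * b) = E a * E b := fun a b => by
    show M⁻¹ * (a.1.1 * b.1.1) * M = (M⁻¹ * a.1.1 * M) * (M⁻¹ * b.1.1 * M)
    simp only [mul_assoc]
    rw [← mul_assoc M M⁻¹, Matrix.mul_nonsing_inv M hMd, one_mul]
  -- unipotent elements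
  let ok : F → F → Prop := fun a b => b + b ^ q + a * a ^ q = 0
  have hu : ∀ a b, ok a b → ∃ s : Cfsg.SU 3 F q, E s = !![1, a, b; 0, 1, -a ^ q; 0, 0, 1] := by
    intro a b hab
    obtain ⟨s, hs⟩ := exists_su_of_iso M hM hform !![1, a, b; 0, 1, -a ^ q; 0, 0, 1]
      (by simp [Matrix.det_fin_three]) (fun u w => by
        simp [Matrix.mulVec, dotProduct, Fin.sum_univ_three, herm_conj_add hF, herm_conj_neg hF,
          mul_pow, hqq]
        linear_combination (u 2 * w 2 ^ q) * hab)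
    exact ⟨s, hE hs⟩
  choose! u hu using hu
  have hu_eq : ∀ {a b} (s : Cfsg.SU 3 F q), ok a b → E s = !![1, a, b; 0, 1, -a ^ q; 0, 0, 1] → s = u a b :=
    fun {a b} s h hs => hEinj (hs.trans (hu a b h).symm)
  have hok_mul : ∀ {a b a' b'}, ok a b → ok a' b' → ok (a + a') (b + b' - a * a' ^ q) := by
    intro a b a' b' h h'
    show _ = _
    rw [herm_conj_sub hF, herm_conj_add hF, herm_conj_add hF, mul_pow, hqq]
    linear_combination h + h'
  have hu_mul : ∀ {a b a' b'}, ok a b → ok a' b' → u a b * u a' b' = u (a + a') (b + b' - a * a' ^ q) := by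
    intro a b a' b' h h'
    refine hu_eq _ (hok_mul h h') ?_
    rw [hEmul, hu a b h, hu a' b' h', herm_conj_add hF]
    ext i j
    fin_cases i <;> fin_cases j <;> simp [Matrix.mul_apply, Fin.sum_univ_three] <;> ring
  have hok0 : ok 0 0 := by simp [ok, zero_pow (show q ≠ 0 by omega)]
  have hu0 : u 0 0 = 1 := (hu_eq 1 hok0 (by
    show M⁻¹ * (1 : Matrix (Fin 3) (Fin 3) F) * M = _
    rw [mul_one, Matrix.nonsing_inv_mul M hMd]
    ext i j; fin_cases i <;> fin_cases j <;> simp [zero_pow (show q ≠ 0 by omega)])).symm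
  have hok_inv : ∀ {a b}, ok a b → ok (-a) (b ^ q) := by
    intro a b h
    show _ = _
    rw [hqq, herm_conj_neg hF]
    linear_combination h
  let U : Subgroup (Cfsg.SU 3 F q) :=
    { carrier := {s | ∃ a b, ok a b ∧ s = u a b}
      mul_mem' := by
        rintro _ _ ⟨a, b, h, rfl⟩ ⟨a', b', h', rfl⟩
        exact ⟨_, _, hok_mul h h', hu_mul h h'⟩
      one_mem' := ⟨0, 0, hok0, hu0.symm⟩
      inv_mem' := by
        rintro _ ⟨a, b, h, rfl⟩
        refine ⟨-a, b ^ q, hok_inv h, inv_eq_of_mul_eq_one_right ?_⟩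
        rw [hu_mul h (hok_inv h), ← hu0]
        congr 1
        · ring
        · rw [herm_conj_neg hF]; linear_combination h }
  have hU : ∀ {a b}, ok a b → u a b ∈ U := fun {a b} h => ⟨a, b, h, rfl⟩
  -- the order of `U`
  obtain ⟨d₁, hd₁⟩ := exists_trace hF (b := (1 : F)) (one_pow q)
  have hsec : ∀ a : F, ∃ b, ok a b := fun a => by
    obtain ⟨d, hd⟩ := exists_trace hF (b := -(a * a ^ q)) (by
      rw [herm_conj_neg hF, mul_pow, hqq, mul_comm])
    exact ⟨d, show d + d ^ q + a * a ^ q = 0 by rw [hd]; ring⟩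
  choose β hβ using hsec
  let tr : F →+ F := AddMonoidHom.mk' (fun b => b + b ^ q) fun a b => by
    rw [herm_conj_add hF]; ring
  have htrker : Nat.card tr.ker = q := by
    obtain ⟨K, hK⟩ := exists_real_subfield hF
    have hr : tr.range = K.toAddSubgroup := by
      have hmem : ∀ x : F, x ∈ K → x ^ q = x := fun x hx => by
        have : Fintype K := Fintype.ofFinite _
        have h1 : (⟨x, hx⟩ : K) ^ Fintype.card K = ⟨x, hx⟩ := FiniteField.pow_card _
        rw [← Nat.card_eq_fintype_card, hK] at h1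
        exact congrArg Subtype.val h1
      refine le_antisymm ?_ fun x hx => (exists_trace hF (hmem x hx))
      intro x hx
      obtain ⟨b, rfl⟩ := hx
      have hfix : (b + b ^ q) ^ q = b + b ^ q := by rw [herm_conj_add hF, hqq, add_comm]
      -- the roots of `X ^ q - X`
      by_contra hnot
      obtain ⟨S, hS⟩ : ∃ S : Finset F, ∀ y, y ∈ S ↔ y ∈ K := ⟨Finset.univ.filter (· ∈ K), fun y => by simp⟩
      have hsub : (insert (b + b ^ q) S) ⊆
          (Polynomial.X ^ q - Polynomial.X : Polynomial F).roots.toFinset := fun y hy => by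
        rw [Multiset.mem_toFinset, Polynomial.mem_roots (FiniteField.X_pow_card_sub_X_ne_zero F (by omega))]
        simp only [Polynomial.IsRoot.def, Polynomial.eval_sub, Polynomial.eval_pow, Polynomial.eval_X]
        rcases Finset.mem_insert.1 hy with rfl | hy
        · rw [hfix, sub_self]
        · rw [hmem y ((hS y).1 hy), sub_self]
      replace hnot : b + b ^ q ∉ K := hnot
      have h1 := Finset.card_le_card hsub
      rw [Finset.card_insert_of_notMem (fun hh => hnot ((hS _).1 hh))] at h1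
      have h2 : S.card = q := by
        rw [← hK, ← Nat.card_eq_finsetCard]
        exact Nat.card_congr (Equiv.subtypeEquivRight hS)
      have h3 := (Multiset.toFinset_card_le _).trans
        (Polynomial.card_roots' (Polynomial.X ^ q - Polynomial.X : Polynomial F))
      rw [FiniteField.X_pow_card_sub_X_natDegree_eq F (by omega)] at h3
      omega
    have h := tr.ker.card_mul_index
    rw [AddSubgroup.index_ker, hr, Nat.card_eq_fintype_card (α := F), hF] at h
    rw [show Nat.card K.toAddSubgroup = q from hK, pow_two] at h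
    exact Nat.eq_of_mul_eq_mul_right (by omega) h
  have hUcard : Nat.card U = q ^ 3 := by
    have hok_shift : ∀ (a : F) (t : tr.ker), ok a (β a + t) := fun a t => by
      show _ = _
      rw [herm_conj_add hF]
      have h1 : ((t : F) + (t : F) ^ q) = 0 := t.2
      linear_combination (hβ a) + h1
    have hbij : Function.Bijective (fun x : F × tr.ker => (⟨u x.1 (β x.1 + x.2), hU (hok_shift x.1 x.2)⟩ : U)) := by
      refine ⟨?_, ?_⟩
      · rintro ⟨a, t⟩ ⟨a', t'⟩ h
        have h1 := congrArg (fun s : U => E s.1) h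
        simp only [hu _ _ (hok_shift a t), hu _ _ (hok_shift a' t')] at h1
        have ha : a = a' := congrFun (congrFun h1 0) 1
        subst ha
        have hb : β a + (t : F) = β a + (t' : F) := congrFun (congrFun h1 0) 2
        exact Prod.ext rfl (Subtype.ext (add_left_cancel hb))
      · rintro ⟨_, a, b, h, rfl⟩
        refine ⟨(a, ⟨b - β a, ?_⟩), Subtype.ext (congrArg (u a) ?_)⟩
        · show (b - β a) + (b - β a) ^ q = 0
          rw [herm_conj_sub hF]; linear_combination h - hβ a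
        · simp
    rw [← Nat.card_eq_of_bijective _ hbij, Nat.card_prod, htrker, Nat.card_eq_fintype_card, hF]
    ring
  have hcard : Nat.card U = p ^ (Nat.card (Cfsg.SU 3 F q)).factorization p := by
    have hd : ¬ p ∣ (q - 1) * (q + 1) ^ 2 * (q ^ 2 - q + 1) := by
      have hq2 : p ∣ q ^ 2 - q := Nat.dvd_sub (dvd_pow hp two_ne_zero) hp
      intro h
      rcases hp'.dvd_mul.1 h with h | h
      · rcases hp'.dvd_mul.1 h with h | h
        · have := Nat.dvd_sub hp h
          rw [show q - (q - 1) = 1 by omega] at this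
          exact hp'.not_dvd_one this
        · exact hp'.not_dvd_one ((Nat.dvd_add_right hp).1 (hp'.dvd_of_dvd_pow h))
      · exact hp'.not_dvd_one ((Nat.dvd_add_right hq2).1 h)
    rw [hUcard, (card_su_three hF).1,
      show q ^ 3 * (q - 1) * (q + 1) ^ 2 * (q ^ 2 - q + 1) =
        q ^ 3 * ((q - 1) * (q + 1) ^ 2 * (q ^ 2 - q + 1)) by ring,
      Nat.factorization_mul (pow_ne_zero _ (by omega)) (fun h0 => hd (by rw [h0]; exact dvd_zero p)),
      Finsupp.add_apply, Nat.factorization_eq_zero_of_not_dvd hd, add_zero, hk, ← pow_mul,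
      Nat.Prime.factorization_pow hp', Finsupp.single_eq_same]
  -- the torus
  have hpow1 : ∀ x : Fˣ, (x : F) ^ (q ^ 2) = x := fun x => by rw [← hF, FiniteField.pow_card]
  have ht : ∀ x : Fˣ, ∃ s : Cfsg.SU 3 F q,
      E s = Matrix.diagonal ![(x : F), (x : F) ^ (q - 1), ((x : F) ^ q)⁻¹] := by
    intro x
    have hx := x.ne_zero
    have e1 : (x : F) * (((x : F) ^ q)⁻¹) ^ q = 1 := by
      rw [inv_pow, hqq, mul_inv_cancel₀ hx]
    have e2 : (x : F) ^ (q - 1) * ((x : F) ^ (q - 1)) ^ q = 1 := by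
      rw [← pow_succ', ← pow_mul, show (q - 1) * (q + 1) = q ^ 2 - 1 by
        rw [mul_comm, ← Nat.sq_sub_sq, one_pow], ← hF]
      exact FiniteField.pow_card_sub_one_eq_one _ hx
    have e3 : ((x : F) ^ q)⁻¹ * (x : F) ^ q = 1 := inv_mul_cancel₀ (pow_ne_zero _ hx)
    obtain ⟨s, hs⟩ := exists_su_of_iso M hM hform
      (Matrix.diagonal ![(x : F), (x : F) ^ (q - 1), ((x : F) ^ q)⁻¹]) (by
        rw [Matrix.det_diagonal, Fin.prod_univ_three]
        simp only [Matrix.cons_val_zero, Matrix.cons_val_one, Matrix.cons_val]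
        rw [← pow_succ', Nat.sub_add_cancel (by omega), mul_inv_cancel₀ (pow_ne_zero _ hx)])
      (fun v w => by
        simp only [Matrix.mulVec_diagonal, Matrix.cons_val_zero, Matrix.cons_val_one, Matrix.cons_val,
          mul_pow]
        linear_combination (v 0 * w 2 ^ q) * e1 + (v 1 * w 1 ^ q) * e2 + (v 2 * w 0 ^ q) * e3)
    exact ⟨s, hE hs⟩
  choose t ht using ht
  let td : Fˣ →* Cfsg.SU 3 F q := MonoidHom.mk' t fun x y => hEinj (by
    rw [ht, hEmul, ht, ht, Matrix.diagonal_mul_diagonal]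
    congr 1
    funext i
    fin_cases i <;> simp [mul_pow, mul_comm])
  have htd : ∀ x, E (td x) = Matrix.diagonal ![(x : F), (x : F) ^ (q - 1), ((x : F) ^ q)⁻¹] := ht
  let lam : Fˣ → F := fun x => (x : F) * ((x : F) ^ (q - 1))⁻¹
  have hlam : ∀ (x : Fˣ) {a b}, ok a b → ok (lam x * a) ((x : F) * (x : F) ^ q * b) ∧
      td x * u a b * (td x)⁻¹ = u (lam x * a) ((x : F) * (x : F) ^ q * b) := by
    intro x a b h
    have hx := x.ne_zero
    have e2 : (x : F) ^ (q - 1) * ((x : F) ^ (q - 1)) ^ q = 1 := by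
      rw [← pow_succ', ← pow_mul, show (q - 1) * (q + 1) = q ^ 2 - 1 by
        rw [mul_comm, ← Nat.sq_sub_sq, one_pow], ← hF]
      exact FiniteField.pow_card_sub_one_eq_one _ hx
    have hl : lam x ^ q = (x : F) ^ q * (x : F) ^ (q - 1) := by
      show ((x : F) * ((x : F) ^ (q - 1))⁻¹) ^ q = _
      rw [mul_pow, inv_pow, inv_eq_of_mul_eq_one_left e2]
    have hl1 : (x : F) ^ (q - 1) * lam x = x := by
      show (x : F) ^ (q - 1) * ((x : F) * ((x : F) ^ (q - 1))⁻¹) = _
      field_simp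
    have hok' : ok (lam x * a) ((x : F) * (x : F) ^ q * b) := by
      show _ = _
      rw [mul_pow, mul_pow, hqq, mul_pow, hl]
      linear_combination ((x : F) * (x : F) ^ q) * h + (a * a ^ q * (x : F) ^ q) * hl1
    refine ⟨hok', ?_⟩
    rw [mul_inv_eq_iff_eq_mul]
    refine hEinj ?_
    rw [hEmul, hEmul, htd, hu _ _ h, hu _ _ hok', mul_pow (lam x), hl]
    ext i j
    fin_cases i <;> fin_cases j <;>
      simp [Matrix.mul_apply, Fin.sum_univ_three, Matrix.diagonal_apply] <;> field_simp <;>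
      first
        | linear_combination (a : F) * hl1
        | linear_combination (-(a : F)) * hl1
        | ring
  refine noMultiplierAt_of_derived (Sylow.ofCard U hcard) fun Γ _ _ σ hσ P hP z hz hzP hzp => ?_
  have hc := hσ.2.1
  obtain ⟨r, hr⟩ := hσ.1.hasRightInverse
  -- lifts of the centre of `U` commute with lifts of `U`
  obtain ⟨ζ, hζ, hζo, -⟩ := exists_norm_one_generator hF
  set x3 : F := lam ζ with hx3
  have hx31 : x3 - 1 ≠ 0 := by
    intro h
    have h1 : (ζ : F) ^ (q - 1) = ζ := by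
      have h0 : (ζ : F) * ((ζ : F) ^ (q - 1))⁻¹ = 1 := sub_eq_zero.1 h
      exact ((mul_inv_eq_one₀ (pow_ne_zero _ ζ.ne_zero)).1 h0).symm
    have h2 : ζ ^ (q - 2) = 1 := Units.ext (by
      rw [Units.val_pow_eq_pow_val, Units.val_one]
      rw [show q - 1 = q - 2 + 1 by omega, pow_succ, mul_eq_right₀ ζ.ne_zero] at h1
      exact h1)
    have h3 := Nat.le_of_dvd (by omega) (orderOf_dvd_of_pow_eq_one h2)
    omega
  have hnorm1 : (ζ : F) * (ζ : F) ^ q = 1 := by
    rw [← pow_succ', ← Units.val_pow_eq_pow_val, hζ, Units.val_one]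
  have hcentral : ∀ {a b t'}, ok a b → ok 0 t' → Commute (r (u a b)) (r (u 0 t')) := by
    intro a b t' hab ht'
    have hz0 : (0 : F) ^ q = 0 := herm_conj_zero hF
    have hcomm : ∀ {a b}, ok a b → u a b * u 0 t' = u 0 t' * u a b := fun {a b} h => by
      rw [hu_mul h ht', hu_mul ht' h, hz0]
      congr 1 <;> ring
    have hker : ∀ {a b}, ok a b → ⁅r (u a b), r (u 0 t')⁆ ∈ σ.ker := fun {a b} h => by
      rw [MonoidHom.mem_ker, map_commutatorElement, hr, hr, commutatorElement_eq_one_iff_mul_comm]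
      exact hcomm h
    let f : F → F → Γ := fun a b => ⁅r (u a b), r (u 0 t')⁆
    have hmul : ∀ {a b a' b'}, ok a b → ok a' b' →
        f (a + a') (b + b' - a * a' ^ q) = f a b * f a' b' := by
      intro a b a' b' h h'
      show ⁅r (u _ _), _⁆ = ⁅_, _⁆ * ⁅_, _⁆
      rw [← hu_mul h h', commutator_congr hc (x' := r (u a b) * r (u a' b')) (by simp [hr _]) rfl]
      calc ⁅r (u a b) * r (u a' b'), r (u 0 t')⁆
          = r (u a b) * ⁅r (u a' b'), r (u 0 t')⁆ * (r (u a b))⁻¹ * ⁅r (u a b), r (u 0 t')⁆ := by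
            simp only [commutatorElement_def]; group
        _ = ⁅r (u a' b'), r (u 0 t')⁆ * ⁅r (u a b), r (u 0 t')⁆ := by
            rw [← (ker_commute hc (hker h') _).eq, mul_inv_cancel_right]
        _ = _ := (ker_commute hc (hker h') _).eq
    have hinv : ∀ {a b}, ok a b → f (x3 * a) b = f a b := fun {a b} h => by
      obtain ⟨-, h2⟩ := hlam ζ h
      obtain ⟨-, h3⟩ := hlam ζ ht'
      rw [hnorm1, one_mul] at h2 h3
      rw [mul_zero] at h3
      show ⁅r (u _ _), r (u 0 t')⁆ = _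
      calc ⁅r (u (x3 * a) b), r (u 0 t')⁆
          = ⁅r (td ζ) * r (u a b) * (r (td ζ))⁻¹, r (td ζ) * r (u 0 t') * (r (td ζ))⁻¹⁆ :=
            commutator_congr hc (by simp [hr _, h2, hx3]) (by simp [hr _, h3])
        _ = r (td ζ) * f a b * (r (td ζ))⁻¹ := by simp only [f, commutatorElement_def]; group
        _ = f a b := by rw [← (ker_commute hc (hker h) _).eq, mul_inv_cancel_right]
    -- some element over each `a` is killed
    have hkill : ∀ a, ∃ b, ok a b ∧ f a b = 1 := fun a => by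
      set a₀ := a / (x3 - 1) with ha₀
      have h1 := hβ a₀
      have hlamok : ok (x3 * a₀) (β a₀) := by
        have := (hlam ζ h1).1
        rwa [hnorm1, one_mul] at this
      have h2 := hok_inv h1
      have h3 := hok_mul hlamok h2
      have ha : x3 * a₀ + -a₀ = a := by rw [ha₀]; field_simp; ring
      refine ⟨_, ha ▸ h3, ?_⟩
      have e := hmul hlamok h2
      rw [hinv h1, ← hmul h1 h2] at e
      rw [← ha, e, show a₀ + -a₀ = 0 by ring, show β a₀ + β a₀ ^ q - a₀ * (-a₀) ^ q = 0 by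
        rw [herm_conj_neg hF]; linear_combination h1]
      show ⁅r (u 0 0), _⁆ = 1
      rw [hu0, commutatorElement_eq_one_iff_commute]
      exact ker_commute hc (by rw [MonoidHom.mem_ker, hr]) _
    have hfc : ∀ {a b}, ok a b → ∀ g, Commute (f a b) g := fun h g => ker_commute hc (hker h) g
    have hcen0 : ∀ {w}, ok 0 w → f 0 w = 1 := fun {w} hw => by
      have hw' : w + w ^ q = 0 := by simpa [ok] using hw
      obtain ⟨b₁, h₁, k₁⟩ := hkill 1
      obtain ⟨b₂, h₂, k₂⟩ := hkill (w * d₁)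
      have e1 := hmul h₁ h₂
      have e2 := hmul h₂ h₁
      rw [k₁, k₂, mul_one] at e1 e2
      have h12 := hok_mul h₁ h₂
      have h21 := hok_mul h₂ h₁
      rw [one_mul, one_pow, mul_one] at *
      have e3 := hmul h12 (hok_inv h21)
      have e4 : f (-(w * d₁ + 1)) ((b₂ + b₁ - w * d₁) ^ q) = 1 := by
        have := hmul h21 (hok_inv h21)
        rw [e2, one_mul] at this
        rw [← this, show w * d₁ + 1 + -(w * d₁ + 1) = 0 by ring,
          show b₂ + b₁ - w * d₁ + (b₂ + b₁ - w * d₁) ^ q - (w * d₁ + 1) * (-(w * d₁ + 1)) ^ q = 0 by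
            have h0 : _ = _ := h21
            rw [herm_conj_neg hF]; linear_combination h0]
        show ⁅r (u 0 0), _⁆ = 1
        rw [hu0, commutatorElement_eq_one_iff_commute]
        exact ker_commute hc (by rw [MonoidHom.mem_ker, hr]) _
      rw [e1, e4, one_mul] at e3
      rw [← e3]
      refine congrArg₂ f ?_ ?_
      · ring
      · have hd : (w * d₁) ^ q = -(w * d₁ ^ q) := by
          rw [mul_pow, eq_neg_of_add_eq_zero_right hw']; ring
        have h0 : _ = _ := h21
        rw [herm_conj_neg hF]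
        linear_combination (-h0) - w * hd₁ + hd
    obtain ⟨b', hb', k'⟩ := hkill a
    have hd0 : ok 0 (b - b') := by
      show _ = _
      rw [herm_conj_sub hF, hz0, mul_zero, add_zero]
      linear_combination hab - hb'
    have e := hmul hd0 hb'
    rw [hcen0 hd0, k', mul_one, zero_add, zero_mul, sub_zero, sub_add_cancel] at e
    exact commutatorElement_eq_one_iff_commute.1 e
  -- the preimage of the centre
  let W : Subgroup Γ :=
    { carrier := {w | ∃ t', ok 0 t' ∧ σ w = u 0 t'}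
      mul_mem' := by
        rintro v w ⟨s, hs, hvs⟩ ⟨t', ht', hwt⟩
        have hz0 : (0 : F) ^ q = 0 := herm_conj_zero hF
        refine ⟨s + t', ?_, ?_⟩
        · have := hok_mul hs ht'
          rwa [add_zero, zero_mul, sub_zero] at this
        · rw [map_mul, hvs, hwt, hu_mul hs ht', add_zero, zero_mul, sub_zero]
      one_mem' := ⟨0, hok0, by rw [map_one, hu0]⟩
      inv_mem' := by
        rintro w ⟨t', ht', hwt⟩
        refine ⟨t' ^ q, by simpa using hok_inv ht', ?_⟩
        rw [map_inv, hwt]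
        refine inv_eq_of_mul_eq_one_right ?_
        have h' : ok 0 (t' ^ q) := by simpa using hok_inv ht'
        rw [hu_mul ht' h', ← hu0]
        congr 1
        · ring
        · have h0 : _ = _ := ht'
          linear_combination h0 }
  have hWcomm : ∀ w ∈ W, ∀ x : Γ, σ x ∈ U → Commute x w := by
    rintro w ⟨t', ht', hwt⟩ x ⟨a, b, hab, hxab⟩
    have h := commutatorElement_eq_one_iff_commute.2 (hcentral hab ht')
    rw [← commutatorElement_eq_one_iff_commute, ← h]
    exact commutator_congr hc (by rw [hr, hxab]) (by rw [hr, hwt])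
  have hWU : ∀ w ∈ W, σ w ∈ U := fun w ⟨t', ht', hwt⟩ => ⟨0, t', ht', hwt⟩
  letI : CommGroup W :=
    { (inferInstance : Group W) with
      mul_comm := fun v w => Subtype.ext (hWcomm w w.2 v (hWU v v.2)).eq }
  have hWconj : ∀ (x : Fˣ) (w : Γ), w ∈ W → r (td x) * w * (r (td x))⁻¹ ∈ W := by
    rintro x w ⟨t', ht', hwt⟩
    obtain ⟨h1, h2⟩ := hlam x ht'
    rw [mul_zero] at h1 h2
    exact ⟨_, h1, by rw [map_mul, map_mul, map_inv, hr, hwt, h2]⟩
  let cj : Fˣ → (W →* W) := fun x => MonoidHom.mk' (fun w => ⟨_, hWconj x w w.2⟩) fun v w => Subtype.ext (by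
    simp [mul_assoc])
  have hcj : ∀ x (w : W), (cj x w : Γ) = r (td x) * w * (r (td x))⁻¹ := fun _ _ => rfl
  let Nm : W →* W := ∏ x : Fˣ, cj x
  have hNm : ∀ y w, Nm (cj y w) = Nm w := fun y w => by
    simp only [Nm, MonoidHom.finsetProd_apply]
    refine Fintype.prod_equiv (Equiv.mulRight y) _ _ fun x => Subtype.ext ?_
    rw [hcj, hcj, hcj]
    have hk : (r (td (x * y)))⁻¹ * (r (td x) * r (td y)) ∈ σ.ker := by
      simp [MonoidHom.mem_ker, hr _]
    show _ = r (td (x * y)) * w * (r (td (x * y)))⁻¹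
    set e := (r (td (x * y)))⁻¹ * (r (td x) * r (td y)) with he
    rw [show r (td x) * (r (td y) * ↑w * (r (td y))⁻¹) * (r (td x))⁻¹ =
      r (td (x * y)) * (e * ↑w * e⁻¹) * (r (td (x * y)))⁻¹ by rw [he]; group,
      (ker_commute hc hk _).eq, mul_inv_cancel_right]
  -- the commutator pairing
  let R : F → Γ := fun a => r (u a (β a))
  have hCW : ∀ a a', ⁅R a, R a'⁆ ∈ W := fun a a' => by
    have hp1 := hok_mul (hβ a) (hβ a')
    have hp2 := hok_mul hp1 (hok_inv (hok_mul (hβ a') (hβ a)))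
    rw [show a + a' + -(a' + a) = 0 by ring] at hp2
    refine ⟨_, hp2, ?_⟩
    rw [map_commutatorElement, hr, hr, commutatorElement_def, mul_assoc, mul_assoc, ← mul_inv_rev, ← mul_assoc,
      hu_mul (hβ a) (hβ a'), hu_mul (hβ a') (hβ a)]
    rw [mul_inv_eq_iff_eq_mul, hu_mul hp2 (hok_mul (hβ a') (hβ a))]
    congr 1
    · ring
    · have h0 : _ = _ := hok_mul (hβ a') (hβ a)
      rw [herm_conj_neg hF] at *
      linear_combination (-h0)
  let C : F → F → W := fun a a' => ⟨⁅R a, R a'⁆, hCW a a'⟩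
  have hCval : ∀ {a b a' b'} {x y : Γ}, ok a b → ok a' b' → σ x = u a b → σ y = u a' b' →
      ⁅x, y⁆ = C a a' := by
    intro a b a' b' x y hab hab' hx hy
    have key : ∀ {a b} {x : Γ}, ok a b → σ x = u a b → ∃ w ∈ W, σ x = σ (R a * w) := by
      intro a b x hab hx
      refine ⟨(R a)⁻¹ * x, ⟨b - β a, ?_, ?_⟩, by simp⟩
      · show _ = _
        rw [herm_conj_sub hF, herm_conj_zero hF]
        linear_combination hab - hβ a
      · have hd0 : ok 0 (b - β a) := by
          show _ = _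
          rw [herm_conj_sub hF, herm_conj_zero hF]
          linear_combination hab - hβ a
        rw [map_mul, map_inv, hr, hx, inv_mul_eq_iff_eq_mul, hu_mul (hβ a) hd0]
        congr 1
        · ring
        · rw [herm_conj_zero hF]; ring
    obtain ⟨v, hv, hxv⟩ := key hab hx
    obtain ⟨w, hw, hyw⟩ := key hab' hy
    rw [commutator_congr hc hxv hyw]
    have hRU : ∀ a, σ (R a) ∈ U := fun a => by rw [hr]; exact hU (hβ a)
    have c1 : Commute (R a) w := hWcomm w hw _ (hRU a)
    have c2 : Commute (R a') v := hWcomm v hv _ (hRU a')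
    have c3 : Commute v w := hWcomm w hw v (hWU v hv)
    show _ = ⁅R a, R a'⁆
    simp only [commutatorElement_def, mul_inv_rev]
    calc R a * v * (R a' * w) * (v⁻¹ * (R a)⁻¹) * (w⁻¹ * (R a')⁻¹)
        = R a * (v * R a') * (w * v⁻¹) * (R a)⁻¹ * w⁻¹ * (R a')⁻¹ := by group
      _ = R a * R a' * (v * (v⁻¹ * w)) * (R a)⁻¹ * w⁻¹ * (R a')⁻¹ := by
          rw [← c2.eq, c3.symm.inv_right.eq]; group
      _ = R a * R a' * (w * (R a)⁻¹) * w⁻¹ * (R a')⁻¹ := by group
      _ = _ := by rw [← c1.inv_left.eq]; group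
  have hCl : ∀ a a' a'', C (a + a') a'' = C a a'' * C a' a'' := fun a a' a'' => Subtype.ext (by
    rw [← hCval (x := R a * R a') (hok_mul (hβ a) (hβ a')) (hβ a'') (by rw [map_mul, hr, hr, hu_mul (hβ a) (hβ a')]) (hr _)]
    show _ = ⁅R a, R a''⁆ * ⁅R a', R a''⁆
    calc ⁅R a * R a', R a''⁆ = R a * ⁅R a', R a''⁆ * (R a)⁻¹ * ⁅R a, R a''⁆ := by
          simp only [commutatorElement_def]; group
      _ = ⁅R a', R a''⁆ * ⁅R a, R a''⁆ := by
          rw [(hWcomm _ (hCW a' a'') _ (by rw [hr]; exact hU (hβ a))).eq, mul_inv_cancel_right]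
      _ = _ := (hWcomm _ (hCW a a'') _ (hWU _ (hCW a' a''))).eq)
  have hCswap : ∀ a a', C a' a = (C a a')⁻¹ := fun a a' => Subtype.ext (commutatorElement_inv (R a) (R a')).symm
  have hCr : ∀ a a' a'', C a'' (a + a') = C a'' a * C a'' a' := fun a a' a'' => by
    rw [hCswap (a + a') a'', hCl, mul_inv, ← hCswap a a'', ← hCswap a' a'']
  have hCinv : ∀ x a a', C (lam x * a) (lam x * a') = cj x (C a a') := fun x a a' => Subtype.ext (by
    rw [hcj]
    show _ = r (td x) * ⁅R a, R a'⁆ * (r (td x))⁻¹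
    obtain ⟨h1, h2⟩ := hlam x (hβ a)
    obtain ⟨h3, h4⟩ := hlam x (hβ a')
    rw [← hCval (x := r (td x) * R a * (r (td x))⁻¹) (y := r (td x) * R a' * (r (td x))⁻¹) h1 h3
      (by simp [R, hr _, h2]) (by simp [R, hr _, h4])]
    simp only [commutatorElement_def]; group)
  -- the invariant form
  obtain ⟨g, hg⟩ := IsCyclic.exists_generator (α := Fˣ)
  have hgo : orderOf g = q ^ 2 - 1 := by
    rw [orderOf_eq_card_of_forall_mem_zpowers hg, Nat.card_units, Nat.card_eq_fintype_card, hF]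
  have hform1 : ∀ a a', Nm (C a a') = 1 := by
    refine mul_form_trivial (p := p) (fun a a' => Nm (C a a'))
      (fun a a' a'' => by rw [hCl, map_mul]) (fun a a' a'' => by rw [hCr, map_mul]) (lam g)
      (mul_ne_zero g.ne_zero (inv_ne_zero (pow_ne_zero _ g.ne_zero))) ?_
      (fun a a' => by rw [hCinv, hNm])
    intro j hj
    have hlg : lam g = (g : F) ^ (q ^ 2 - q + 1) := by
      show (g : F) * ((g : F) ^ (q - 1))⁻¹ = _
      rw [eq_comm, ← mul_inv_eq_iff_eq_mul₀ (inv_ne_zero (pow_ne_zero _ g.ne_zero)), inv_inv, ← pow_add,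
        show q ^ 2 - q + 1 + (q - 1) = q ^ 2 by
          have : q ≤ q ^ 2 := Nat.le_self_pow two_ne_zero q
          omega]
      exact hpow1 g
    rw [hlg, ← mul_eq_one_iff_eq_inv₀ (pow_ne_zero _ g.ne_zero), ← pow_succ, ← pow_mul,
      ← Units.val_pow_eq_pow_val, Units.val_eq_one] at hj
    have hdvd := orderOf_dvd_of_pow_eq_one hj
    rw [hgo] at hdvd
    have hmod : (q ^ 2 - q + 1) * (p ^ j + 1) ≡ (q ^ 2 - q + 1) * (p ^ (j % (2 * k)) + 1) [MOD q ^ 2 - 1] := by
      refine (Nat.ModEq.mul_left _ (Nat.ModEq.add_right _ ?_))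
      conv_lhs => rw [← Nat.mod_add_div j (2 * k), pow_add, pow_mul]
      have h1 : p ^ (2 * k) ≡ 1 [MOD q ^ 2 - 1] := by
        rw [show p ^ (2 * k) = q ^ 2 by rw [hk, ← pow_mul, mul_comm]]
        exact Nat.modEq_sub (Nat.one_le_pow 2 q (by omega))
      simpa using (Nat.ModEq.refl (p ^ (j % (2 * k)))).mul (h1.pow (j / (2 * k)))
    have hk0 : 0 < 2 * k := by rw [← hnk]; exact n.pos
    exact torus_exponent hp' (hk ▸ hq) (Nat.mod_lt j hk0) (hk ▸ (Nat.ModEq.dvd_iff hmod dvd_rfl).1 hdvd)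
  have hder : ⁅P, P⁆ ≤ Nm.ker.map W.subtype := by
    rw [commutator_le]
    intro x hx y hy
    obtain ⟨a, b, hab, hxa⟩ : σ x ∈ U := by
      have := mem_map_of_mem σ hx
      rw [hP] at this
      exact this
    obtain ⟨a', b', hab', hya⟩ : σ y ∈ U := by
      have := mem_map_of_mem σ hy
      rw [hP] at this
      exact this
    exact ⟨C a a', hform1 a a', (hCval hab hab' hxa hya).symm⟩
  obtain ⟨⟨z', hzW⟩, hzN, rfl⟩ := hder hzP
  have hpow : (⟨z', hzW⟩ : W) ^ Fintype.card Fˣ = 1 := by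
    have h1 : Nm ⟨z', hzW⟩ = 1 := hzN
    rw [← h1]
    simp only [Nm, MonoidHom.finsetProd_apply]
    rw [← Finset.card_univ, ← Finset.prod_const]
    refine Finset.prod_congr rfl fun x _ => Subtype.ext ?_
    rw [hcj]
    exact (mul_inv_eq_iff_eq_mul.2 (ker_commute hc hz (r (td x))).eq.symm).symm
  have h2 : z' ^ Fintype.card Fˣ = 1 := by simpa using congrArg Subtype.val hpow
  have hcop : Nat.Coprime (Fintype.card Fˣ) p := by
    rw [Fintype.card_units, hF, Nat.coprime_comm, hp'.coprime_iff_not_dvd]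
    intro h
    have := Nat.dvd_sub (dvd_pow hp two_ne_zero) h
    rw [show q ^ 2 - (q ^ 2 - 1) = 1 by have := Nat.one_le_pow 2 q (by omega); omega] at this
    exact hp'.not_dvd_one this
  have h3 := pow_gcd_eq_one.2 ⟨h2, show z' ^ p = 1 from hzp⟩
  rw [hcop.gcd_eq_one, pow_one] at h3
  exact h3

end CfsgLib.SUMult
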