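import Mathlib.GroupTheory.Coset.Basic
import Mathlib.GroupTheory.Finiteness
import Mathlib.Algebra.Group.Commute.Basic
import Mathlib.Algebra.Group.Subgroup.Lattice
import Mathlib.Data.Nat.Factorial.Basic
import Mathlib.SetTheory.Cardinal.Finite
import Mathlib.Tactic.Group

/-!
A group generated by involutions satisfying the relations of adjacent transpositions of `k + 1`
points has order at most `(k + 1)!`.
-/

set_option autoImplicit false

namespace CfsgLib.SUMult

open Subgroup

variable {Q : Type*} [Group Q] (s : ℕ → Q)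

/-- The product `s k * s (k - 1) * ⋯` of `j` factors. -/
def descProd (k : ℕ) : ℕ → Q
  | 0 => 1
  | j + 1 => descProd k j * s (k - j)

/-- The subgroup generated by the first `k` generators. -/
def firstGen (k : ℕ) : Subgroup Q := closure {x | ∃ i, i < k ∧ s i = x}

theorem firstGen_le_succ (k : ℕ) : firstGen s k ≤ firstGen s (k + 1) :=
  closure_mono fun _ ⟨i, hi, h⟩ => ⟨i, by omega, h⟩

theorem mem_firstGen {k i : ℕ} (h : i < k) : s i ∈ firstGen s k :=
  Subgroup.subset_closure ⟨i, h, rfl⟩

variable {s} {N : ℕ} (hsq : ∀ i, i < N → s i * s i = 1)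
  (hfar : ∀ i j, i + 2 ≤ j → j < N → Commute (s i) (s j))
  (hbr : ∀ i, i + 1 < N → s i * s (i + 1) * s i = s (i + 1) * s i * s (i + 1))

include hfar in
theorem descProd_commute {k : ℕ} (hk : k < N) : ∀ (j m : ℕ), j ≤ k + 1 → m + 1 + j ≤ k →
    Commute (descProd s k j) (s m)
  | 0, m, _, _ => Commute.one_left _
  | j + 1, m, hj, hm => (descProd_commute hk j m (by omega) (by omega)).mul_left
      (hfar m (k - j) (by omega) (by omega)).symm

include hfar hbr in
theorem descProd_shift {k : ℕ} (hk : k < N) : ∀ (j m : ℕ), j ≤ k + 1 → k + 2 ≤ m + j → m ≤ k →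
    descProd s k j * s m = s (m - 1) * descProd s k j
  | 0, m, _, hm, hmk => by omega
  | j + 1, m, hj, hm, hmk => by
    rcases (show m + j = k + 1 ∨ k + 2 ≤ m + j by omega) with h | h
    · obtain ⟨i, rfl⟩ : ∃ i, j = i + 1 := ⟨j - 1, by omega⟩
      obtain ⟨m', rfl⟩ : ∃ m', m = m' + 1 := ⟨m - 1, by omega⟩
      have e1 : k - i = m' + 1 := by omega
      have e2 : k - (i + 1) = m' := by omega
      have hc := (descProd_commute hfar hk i m' (by omega) (by omega)).eq
      show descProd s k i * s (k - i) * s (k - (i + 1)) * s (m' + 1) = s (m' + 1 - 1) * _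
      rw [e1, e2, Nat.add_sub_cancel, mul_assoc, mul_assoc, ← mul_assoc (s (m' + 1)),
        ← hbr m' (by omega), mul_assoc (s m'), ← mul_assoc (descProd s k i), hc]
      show _ = s m' * (descProd s k i * s (k - i) * s (k - (i + 1)))
      rw [e1, e2]
      simp only [mul_assoc]
    · have hc := hfar (k - j) m (by omega) (by omega)
      show descProd s k j * s (k - j) * s m = s (m - 1) * (descProd s k j * s (k - j))
      rw [mul_assoc, hc.eq, ← mul_assoc, descProd_shift hk j m (by omega) (by omega) hmk, mul_assoc]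

include hsq hfar hbr in
theorem exists_descProd {k : ℕ} (hk : k < N) {x : Q} (hx : x ∈ firstGen s (k + 1)) :
    ∃ h ∈ firstGen s k, ∃ j, j ≤ k + 1 ∧ x = h * descProd s k j := by
  have step : ∀ x, (∃ h ∈ firstGen s k, ∃ j, j ≤ k + 1 ∧ x = h * descProd s k j) → ∀ m, m ≤ k →
      ∃ h ∈ firstGen s k, ∃ j, j ≤ k + 1 ∧ x * s m = h * descProd s k j := by
    rintro x ⟨h, hh, j, hj, rfl⟩ m hm
    rcases (show m + j + 1 ≤ k ∨ m + j = k ∨ m + j = k + 1 ∨ k + 2 ≤ m + j by omega) with h' | h' | h' | h'
    · exact ⟨h * s m, mul_mem hh (mem_firstGen s (by omega)), j, hj, by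
        rw [mul_assoc, (descProd_commute hfar hk j m hj (by omega)).eq, mul_assoc]⟩
    · refine ⟨h, hh, j + 1, by omega, ?_⟩
      show _ = h * (descProd s k j * s (k - j))
      rw [show k - j = m by omega, mul_assoc]
    · obtain ⟨i, rfl⟩ : ∃ i, j = i + 1 := ⟨j - 1, by omega⟩
      refine ⟨h, hh, i, by omega, ?_⟩
      show h * (descProd s k i * s (k - i)) * s m = _
      rw [show k - i = m by omega, mul_assoc, mul_assoc, hsq m (by omega), mul_one]
    · exact ⟨h * s (m - 1), mul_mem hh (mem_firstGen s (by omega)), j, hj, by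
        rw [mul_assoc, descProd_shift hfar hbr hk j m hj h' hm, mul_assoc]⟩
  induction hx using Subgroup.closure_induction_right with
  | one => exact ⟨1, one_mem _, 0, by omega, by simp [descProd]⟩
  | mul_right y hy z hz ih =>
    obtain ⟨m, hm, rfl⟩ := hz
    exact step y ih m (by omega)
  | mul_inv_cancel y hy z hz ih =>
    obtain ⟨m, hm, rfl⟩ := hz
    rw [show (s m)⁻¹ = s m from inv_eq_of_mul_eq_one_right (hsq m (by omega))]
    exact step y ih m (by omega)

include hsq hfar hbr in
theorem card_firstGen_le : ∀ k, k ≤ N →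
    Finite (firstGen s k) ∧ Nat.card (firstGen s k) ≤ (k + 1).factorial
  | 0, _ => by
    have h : firstGen s 0 = ⊥ := by
      rw [firstGen, closure_eq_bot_iff]
      rintro x ⟨i, hi, -⟩
      omega
    rw [h]
    exact ⟨inferInstance, by simp⟩
  | k + 1, hk => by
    obtain ⟨hfin, hle⟩ := card_firstGen_le k (by omega)
    have hcp : ∀ j, j ≤ k + 1 → descProd s k j ∈ firstGen s (k + 1) := by
      intro j
      induction j with
      | zero => exact fun _ => one_mem _
      | succ j ih => exact fun hj => mul_mem (ih (by omega)) (mem_firstGen s (by omega))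
    let f : firstGen s k × Fin (k + 2) → firstGen s (k + 1) := fun p =>
      ⟨(p.1 : Q) * descProd s k (p.2 : ℕ), mul_mem (firstGen_le_succ s k p.1.2) (hcp _ (by omega))⟩
    have hf : Function.Surjective f := fun x => by
      obtain ⟨h, hh, j, hj, he⟩ := exists_descProd hsq hfar hbr (show k < N by omega) x.2
      exact ⟨(⟨h, hh⟩, ⟨j, by omega⟩), Subtype.ext he.symm⟩
    refine ⟨Finite.of_surjective f hf, (Nat.card_le_card_of_surjective f hf).trans ?_⟩
    rw [Nat.card_prod, Nat.card_eq_fintype_card (α := Fin (k + 2)), Fintype.card_fin, Nat.factorial_succ (k + 1),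
      mul_comm]
    exact Nat.mul_le_mul_left _ hle

end CfsgLib.SUMult
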