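import Cfsg.Agent.Lib.Schur.Criteria
import Cfsg.Agent.Lib.SchurCover.Perfect

/-!
Multiplier parts read off a normal subgroup with cyclic quotient.
-/

set_option autoImplicit false

namespace CfsgLib.SUMult

open Subgroup Cfsg CfsgLib.Schur
open scoped commutatorElement

universe u

/-- No element of order `ℓ` lies both in the kernel and in the derived subgroup of a finite
central extension. -/
def NoDerivedAt (ℓ : ℕ) (K : Type u) [Group K] : Prop :=
  ∀ (E : Type u) [Group E] [Finite E] (τ : E →* K), Function.Surjective τ → τ.ker ≤ center E →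
    ∀ z ∈ τ.ker, z ∈ commutator E → z ^ ℓ = 1 → z = 1

theorem noDerivedAt_of_trivial {K : Type u} [Group K] [Finite K]
    (h : Cfsg.HasCyclicSchurMultiplier K 1) (ℓ : ℕ) : NoDerivedAt ℓ K := by
  intro E _ _ τ hτ hc z hz hz' _
  have h1 := CfsgLib.SchurCover.ker_inf_commutator_eq_bot h τ hτ hc
  have : z ∈ τ.ker ⊓ commutator E := ⟨hz, hz'⟩
  rw [h1, mem_bot] at this
  exact this

theorem noDerivedAt_of_perfect {K : Type u} [Group K] (hK : commutator K = ⊤) {ℓ : ℕ}
    (h : NoMultiplierAt ℓ K) : NoDerivedAt ℓ K := by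
  intro E _ _ τ hτ hc z hz hz' hzl
  set σ := τ.comp (commutator E).subtype with hσ
  have hsurj : Function.Surjective σ := fun g => by
    have hg : g ∈ (commutator E).map τ := by
      rw [CfsgLib.SchurCover.map_commutator_eq τ hτ, hK]; exact mem_top g
    obtain ⟨x, hx, rfl⟩ := hg
    exact ⟨⟨x, hx⟩, rfl⟩
  have hperfE : commutator ↥(commutator E) = ⊤ := by
    have hle : commutator E ≤ ⁅commutator E, commutator E⁆ := by
      rw [commutator_def E, commutator_le]
      intro a _ b _
      obtain ⟨⟨x, hx⟩, hxa⟩ := hsurj (τ a)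
      obtain ⟨⟨y, hy⟩, hyb⟩ := hsurj (τ b)
      rw [commutator_congr hc (x := a) (x' := x) (y := b) (y' := y) hxa.symm hyb.symm]
      exact commutator_mem_commutator hx hy
    apply map_injective (commutator E).subtype_injective
    rw [commutator_def ↥(commutator E), map_commutator, ← MonoidHom.range_eq_map, range_subtype]
    exact le_antisymm (commutator_le_self _) hle
  have hstem : Cfsg.IsStemExtension σ := by
    refine ⟨hsurj, fun x hx => mem_center_iff.2 fun y => Subtype.ext ?_,
      by rw [hperfE]; exact le_top⟩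
    exact mem_center_iff.1 (hc (show (x : E) ∈ τ.ker from hx)) y
  exact congrArg Subtype.val (h _ σ hstem ⟨z, hz'⟩ hz (Subtype.ext hzl))

/-- If a subgroup of index prime to `ℓ` is `ι (K') ⋅ ⟨c⟩`, where `c` normalises the image of `ι`,
then `G` has no multiplier at `ℓ` provided `K` has none. -/
theorem noMultiplierAt_of_cyclic_over {G K : Type u} [Group G] [Finite G] [Group K] {ℓ : ℕ}
    [Fact ℓ.Prime] (ι : K →* G) (hι : Function.Injective ι) (hK : NoDerivedAt ℓ K) (c : G)
    (hc : ∀ x ∈ ι.range, c * x * c⁻¹ ∈ ι.range)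
    (hidx : ¬ ℓ ∣ ((commutator K).map ι ⊔ zpowers c).index) : NoMultiplierAt ℓ G := by
  classical
  set D := (commutator K).map ι with hD
  set H := D ⊔ zpowers c with hH
  obtain ⟨Q⟩ : Nonempty (Sylow ℓ H) := inferInstance
  let S0 : Subgroup G := (Q : Subgroup H).map H.subtype
  have hcard : Nat.card S0 = ℓ ^ (Nat.card G).factorization ℓ := by
    rw [card_map_of_injective (subtype_injective _), Sylow.card_eq_multiplicity Q,
      ← H.card_mul_index, Nat.factorization_mul Nat.card_pos.ne' index_ne_zero_of_finite,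
      Finsupp.add_apply, Nat.factorization_eq_zero_of_not_dvd hidx, add_zero]
  refine noMultiplierAt_of_derived (Sylow.ofCard S0 hcard) fun Γ _ _ σ hσ P hP z hz hzP hzl => ?_
  let M : Subgroup Γ := ι.range.comap σ
  have hmemM : ∀ {x : Γ}, x ∈ M ↔ σ x ∈ ι.range := fun {x} => Iff.rfl
  let e := MonoidHom.ofInjective hι
  let τ : M →* K := e.symm.toMonoidHom.comp
    ((σ.comp M.subtype).codRestrict ι.range fun x => x.2)
  have hτ : ∀ x : M, ι (τ x) = σ x := fun x => by
    simp only [τ, MonoidHom.comp_apply, MulEquiv.coe_toMonoidHom]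
    exact congrArg Subtype.val (e.apply_symm_apply ⟨σ x, x.2⟩)
  have hτs : Function.Surjective τ := fun k => by
    obtain ⟨x, hx⟩ := hσ.1 (ι k)
    refine ⟨⟨x, hmemM.2 ⟨k, hx.symm⟩⟩, hι ?_⟩
    rw [hτ]; exact hx
  have hτc : τ.ker ≤ center M := fun x hx => mem_center_iff.2 fun y => Subtype.ext
    (mem_center_iff.1 (hσ.2.1 (show (x : Γ) ∈ σ.ker by
      rw [MonoidHom.mem_ker, ← hτ, MonoidHom.mem_ker.1 hx, map_one])) y)
  let L : Subgroup Γ := (commutator M).map M.subtype
  have hLmap : L.map σ = D := by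
    have h1 : σ.comp M.subtype = ι.comp τ := MonoidHom.ext fun x => (hτ x).symm
    rw [Subgroup.map_map, h1, ← Subgroup.map_map, CfsgLib.SchurCover.map_commutator_eq τ hτs]
  obtain ⟨C, hC⟩ := hσ.1 c
  have hLC : ∀ g : Γ, (∀ x ∈ ι.range, σ g * x * (σ g)⁻¹ ∈ ι.range) → ∀ x ∈ L, g * x * g⁻¹ ∈ L := by
    intro g hg x hx
    have hM : M.map (MulAut.conj g).toMonoidHom ≤ M := by
      rintro _ ⟨y, hy, rfl⟩
      rw [hmemM, MulEquiv.coe_toMonoidHom, MulAut.conj_apply, map_mul, map_mul, map_inv]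
      exact hg _ hy
    have hL : L = ⁅M, M⁆ := by
      simp only [L, commutator_def, map_commutator, ← MonoidHom.range_eq_map, range_subtype]
    rw [hL] at hx ⊢
    have h1 : ⁅M, M⁆.map (MulAut.conj g).toMonoidHom ≤ ⁅M, M⁆ := by
      rw [map_commutator]; exact commutator_mono hM hM
    exact h1 ⟨x, hx, rfl⟩
  -- everything normalising `L`
  let N := Subgroup.normalizer (L : Set Γ)
  have hN : ∀ g : Γ, (∀ x ∈ L, g * x * g⁻¹ ∈ L) → g ∈ N := fun g hg => by
    apply mem_normalizer_iff.mpr
    have hm : L.map (MulAut.conj g).toMonoidHom = L := by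
      refine eq_of_le_of_card_ge (map_le_iff_le_comap.mpr fun x hx => hg x hx) ?_
      exact (card_map_of_injective (K := L) (show Function.Injective (MulAut.conj g).toMonoidHom from (MulAut.conj g).injective)).ge
    intro x
    refine ⟨hg x, fun hx => ?_⟩
    rw [← hm] at hx
    obtain ⟨y, hy, hyx⟩ := mem_map.mp hx
    have : y = x := (MulAut.conj g).injective hyx
    exact this ▸ hy
  have hkerN : σ.ker ≤ N := fun x hx => hN x fun y hy => by
    rw [(mem_center_iff.1 (hσ.2.1 hx) y).symm, mul_inv_cancel_right]; exact hy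
  have hLN : L ≤ N := le_normalizer
  have hCN : C ∈ N := hN C (hLC C fun x hx => by rw [hC]; exact hc x hx)
  have hPle : P ≤ L ⊔ zpowers C ⊔ σ.ker := by
    intro x hx
    have hx' : σ x ∈ H := by
      have := mem_map_of_mem σ hx
      rw [hP] at this
      exact map_subtype_le _ this
    have hHle : H ≤ (L ⊔ zpowers C).map σ := by
      rw [hH, Subgroup.map_sup, hLmap, MonoidHom.map_zpowers, hC]
    obtain ⟨y, hy, hyx⟩ := hHle hx'
    have : y⁻¹ * x ∈ σ.ker := by simp [MonoidHom.mem_ker, hyx]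
    rw [show x = y * (y⁻¹ * x) by group]
    exact mul_mem (mem_sup_left hy) (mem_sup_right this)
  have hWN : L ⊔ zpowers C ⊔ σ.ker ≤ N :=
    sup_le (sup_le hLN (zpowers_le.2 hCN)) hkerN
  have hder : ⁅P, P⁆ ≤ L := by
    refine (commutator_mono hPle hPle).trans ?_
    rw [commutator_le]
    intro a ha b hb
    let π := QuotientGroup.mk' (L.subgroupOf N)
    let A : Subgroup (N ⧸ L.subgroupOf N) :=
      zpowers (π ⟨C, hCN⟩) ⊔ ((σ.ker).subgroupOf N).map π
    have hA : ∀ x, (hx : x ∈ L ⊔ zpowers C ⊔ σ.ker) → π ⟨x, hWN hx⟩ ∈ A := by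
      intro x hx
      have hle : L ⊔ zpowers C ⊔ σ.ker ≤ (A.comap π).map N.subtype := by
        refine sup_le (sup_le ?_ (zpowers_le.2 ⟨⟨C, hCN⟩, mem_sup_left (mem_zpowers _), rfl⟩)) ?_
        · intro y hy
          refine ⟨⟨y, hLN hy⟩, ?_, rfl⟩
          show π ⟨y, hLN hy⟩ ∈ A
          rw [show π ⟨y, hLN hy⟩ = 1 from (QuotientGroup.eq_one_iff _).2 (mem_subgroupOf.2 hy)]
          exact one_mem A
        · intro y hy
          exact ⟨⟨y, hkerN hy⟩, mem_sup_right ⟨⟨y, hkerN hy⟩, mem_subgroupOf.2 hy, rfl⟩, rfl⟩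
      obtain ⟨⟨y, hyN⟩, hy, rfl⟩ := hle hx
      exact hy
    have hcomm : ∀ u ∈ A, ∀ v ∈ A, Commute u v := by
      have hz : ((σ.ker).subgroupOf N).map π ≤ center _ := by
        rintro _ ⟨⟨y, hyN⟩, hy, rfl⟩
        rw [mem_center_iff]
        intro t
        obtain ⟨⟨t, htN⟩, rfl⟩ := QuotientGroup.mk'_surjective _ t
        rw [← map_mul, ← map_mul]
        exact congrArg π (Subtype.ext (mem_center_iff.1 (hσ.2.1 hy) t))
      intro u hu v hv
      have hAle : A ≤ centralizer {π ⟨C, hCN⟩} := by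
        refine sup_le (zpowers_le.2 ?_) (hz.trans (center_le_centralizer _))
        rw [mem_centralizer_singleton_iff]
      have hAc : A ≤ centralizer (A : Set (N ⧸ L.subgroupOf N)) := by
        refine sup_le (zpowers_le.2 ?_) (hz.trans (center_le_centralizer _))
        rw [mem_centralizer_iff]
        intro w hw
        exact mem_centralizer_singleton_iff.1 (hAle hw)
      exact (mem_centralizer_iff.1 (hAc hu) v hv).symm
    have h0 : π ⁅(⟨a, hWN ha⟩ : N), ⟨b, hWN hb⟩⁆ = 1 := by
      rw [map_commutatorElement]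
      exact commutatorElement_eq_one_iff_commute.mpr (hcomm _ (hA a ha) _ (hA b hb))
    exact mem_subgroupOf.mp ((QuotientGroup.eq_one_iff _).mp h0)
  obtain ⟨⟨z', hz'M⟩, hz', rfl⟩ := hder hzP
  exact congrArg Subtype.val
    (hK M τ hτs hτc ⟨z', hz'M⟩
      (by
        rw [MonoidHom.mem_ker]
        refine hι ?_
        rw [hτ, map_one]
        exact hz)
      hz' (Subtype.ext hzl))

end CfsgLib.SUMult
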