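import Cfsg.Agent.Lib.SUMult.Glue

/-!
An isotropic basis of the five-dimensional unitary space, compatible with the stabiliser of the
first basis vector, and the elements of `SU₅` of the Levi subgroup and of its abelian radical.
-/

set_option autoImplicit false
set_option linter.unusedSectionVars false

namespace CfsgLib.SUMult

open Matrix CfsgLib.Phan CfsgLib.ClassicalGroups

universe u

variable {F : Type u} [Field F] [Fintype F] {q : ℕ}

/-- The form of the basis `e₁, e₂, v, f₂, f₁`. -/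
def isoForm (q : ℕ) (u w : Fin 5 → F) : F :=
  u 0 * w 4 ^ q + u 1 * w 3 ^ q + u 2 * w 2 ^ q + u 3 * w 1 ^ q + u 4 * w 0 ^ q

/-- An isotropic basis in which `v` is the first standard vector. -/
structure IsoBasis (F : Type u) [Field F] [Fintype F] (q : ℕ) where
  M : Matrix (Fin 5) (Fin 5) F
  unit : IsUnit M
  form : ∀ u w, Cfsg.hermForm 5 F q (M *ᵥ u) (M *ᵥ w) = isoForm q u w
  mid : M *ᵥ (Pi.single 2 1) = Pi.single 0 1

theorem exists_isoBasis (hF : Fintype.card F = q ^ 2) : Nonempty (IsoBasis F q) := by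
  classical
  have hq := herm_two_le hF
  obtain ⟨x, hx0, hx⟩ := exists_isotropic_ne_zero (n := 2) hF le_rfl
  obtain ⟨y, hy, hxy⟩ := exists_partner hF hx0 hx
  have hyx : Cfsg.hermForm 2 F q y x = 1 := by rw [hermForm_symm hF 2 x y, hxy, one_pow]
  simp only [Cfsg.hermForm, Fin.sum_univ_two] at hx hy hxy hyx
  let M : Matrix (Fin 5) (Fin 5) F :=
    !![0, 0, 1, 0, 0; x 0, 0, 0, 0, y 0; x 1, 0, 0, 0, y 1; 0, x 0, 0, y 0, 0; 0, x 1, 0, y 1, 0]
  have hform : ∀ u w : Fin 5 → F, Cfsg.hermForm 5 F q (M *ᵥ u) (M *ᵥ w) = isoForm q u w := fun u w => by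
    simp [M, isoForm, Cfsg.hermForm, Fin.sum_univ_five, Matrix.mulVec, dotProduct, herm_conj_add hF, mul_pow,
      zero_pow (show q ≠ 0 by omega)]
    linear_combination (u 0 * w 0 ^ q + u 1 * w 1 ^ q) * hx + (u 4 * w 4 ^ q + u 3 * w 3 ^ q) * hy
      + (u 0 * w 4 ^ q + u 1 * w 3 ^ q) * hxy + (u 4 * w 0 ^ q + u 3 * w 1 ^ q) * hyx
  refine ⟨⟨M, Matrix.mulVec_injective_iff_isUnit.1 fun u v huv => ?_, hform, ?_⟩⟩
  · have h : ∀ w : Fin 5 → F, isoForm q u w = isoForm q v w := fun w => by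
      rw [← hform, ← hform, huv]
    funext i
    fin_cases i
    · simpa [isoForm, zero_pow (show q ≠ 0 by omega)] using h (Pi.single 4 1)
    · simpa [isoForm, zero_pow (show q ≠ 0 by omega)] using h (Pi.single 3 1)
    · simpa [isoForm, zero_pow (show q ≠ 0 by omega)] using h (Pi.single 2 1)
    · simpa [isoForm, zero_pow (show q ≠ 0 by omega)] using h (Pi.single 1 1)
    · simpa [isoForm, zero_pow (show q ≠ 0 by omega)] using h (Pi.single 0 1)
  · funext i
    fin_cases i <;> simp [M, Matrix.mulVec, dotProduct, Fin.sum_univ_five]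

namespace IsoBasis

variable (B : IsoBasis F q)

theorem det_unit : IsUnit B.M.det := (Matrix.isUnit_iff_isUnit_det _).1 B.unit

/-- The matrix in the isotropic basis. -/
noncomputable def E (s : Cfsg.SU 5 F q) : Matrix (Fin 5) (Fin 5) F := B.M⁻¹ * s.1.1 * B.M

theorem E_injective : Function.Injective B.E := fun a b h => by
  refine Subtype.ext (Subtype.ext ?_)
  have h' := congrArg (fun g => B.M * g * B.M⁻¹) h
  simp only [E, ← mul_assoc, Matrix.mul_nonsing_inv _ B.det_unit, one_mul] at h'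
  simpa only [mul_assoc, Matrix.mul_nonsing_inv _ B.det_unit, mul_one] using h'

theorem E_mul (a b : Cfsg.SU 5 F q) : B.E (a * b) = B.E a * B.E b := by
  show B.M⁻¹ * (a.1.1 * b.1.1) * B.M = (B.M⁻¹ * a.1.1 * B.M) * (B.M⁻¹ * b.1.1 * B.M)
  simp only [mul_assoc]
  rw [← mul_assoc B.M B.M⁻¹, Matrix.mul_nonsing_inv _ B.det_unit, one_mul]

theorem E_one : B.E 1 = 1 := by
  show B.M⁻¹ * (1 : Matrix (Fin 5) (Fin 5) F) * B.M = 1
  rw [mul_one, Matrix.nonsing_inv_mul _ B.det_unit]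

theorem exists_of (g : Matrix (Fin 5) (Fin 5) F) (hd : g.det = 1)
    (hg : ∀ u w, isoForm q (g *ᵥ u) (g *ᵥ w) = isoForm q u w) : ∃ s : Cfsg.SU 5 F q, B.E s = g := by
  refine ⟨⟨⟨B.M * g * B.M⁻¹, by rw [Matrix.det_conj B.unit, hd]⟩, mem_SU_iff.2 fun u w => ?_⟩, ?_⟩
  · show Cfsg.hermForm 5 F q ((B.M * g * B.M⁻¹) *ᵥ u) ((B.M * g * B.M⁻¹) *ᵥ w) = _
    rw [← Matrix.mulVec_mulVec, ← Matrix.mulVec_mulVec, ← Matrix.mulVec_mulVec, ← Matrix.mulVec_mulVec,
      B.form, hg, ← B.form, Matrix.mulVec_mulVec, Matrix.mulVec_mulVec, Matrix.mul_nonsing_inv _ B.det_unit,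
      Matrix.one_mulVec, Matrix.one_mulVec]
  · show B.M⁻¹ * (B.M * g * B.M⁻¹) * B.M = g
    rw [← mul_assoc, ← mul_assoc, Matrix.nonsing_inv_mul _ B.det_unit, one_mul, mul_assoc,
      Matrix.nonsing_inv_mul _ B.det_unit, mul_one]

/-- An element fixing the middle vector lies in the block on the last four coordinates. -/
theorem mem_block (hF : Fintype.card F = q ^ 2) {s : Cfsg.SU 5 F q}
    (h : B.E s *ᵥ Pi.single 2 1 = Pi.single 2 1) :
    s ∈ (bk (F := F) (q := q) 1 (show 1 + 4 ≤ 5 by omega)).range := by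
  have hs : act s (bv 5 F 0) = bv 5 F 0 := by
    rw [show bv 5 F 0 = Pi.single (0 : Fin 5) 1 from (single_eq_bv (0 : Fin 5)).symm, act, ← B.mid,
      Matrix.mulVec_mulVec]
    have h1 : s.1.1 * B.M = B.M * B.E s := by
      show _ = B.M * (B.M⁻¹ * s.1.1 * B.M)
      rw [← mul_assoc, ← mul_assoc, Matrix.mul_nonsing_inv _ B.det_unit, one_mul]
    rw [h1, ← Matrix.mulVec_mulVec, h]
  obtain ⟨g, hg⟩ := exists_bk (k := 4) hF (show 1 + 4 ≤ 5 by omega) (s := s) fun i hi hh => by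
    rw [show i = 0 by omega]; exact hs
  exact ⟨g, hg⟩

/-! ### Matrices -/

/-- The radical: skew-hermitian `2 × 2` blocks. -/
def qMat (q : ℕ) (x y z : F) : Matrix (Fin 5) (Fin 5) F :=
  !![1, 0, 0, y, x; 0, 1, 0, z, -y ^ q; 0, 0, 1, 0, 0; 0, 0, 0, 1, 0; 0, 0, 0, 0, 1]

/-- The Levi subgroup `GL₂`. -/
def lMat (q : ℕ) (a b c d : F) : Matrix (Fin 5) (Fin 5) F :=
  !![a, b, 0, 0, 0;
     c, d, 0, 0, 0;
     0, 0, (a * d - b * c) ^ q * (a * d - b * c)⁻¹, 0, 0;
     0, 0, 0, a ^ q * ((a * d - b * c) ^ q)⁻¹, -(b ^ q * ((a * d - b * c) ^ q)⁻¹);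
     0, 0, 0, -(c ^ q * ((a * d - b * c) ^ q)⁻¹), d ^ q * ((a * d - b * c) ^ q)⁻¹]

/-- The exchange of `e₂` and `f₂`. -/
def wMat : Matrix (Fin 5) (Fin 5) F :=
  !![1, 0, 0, 0, 0; 0, 0, 0, 1, 0; 0, 0, -1, 0, 0; 0, 1, 0, 0, 0; 0, 0, 0, 0, 1]

/-- The Heisenberg group of `e₂, v, f₂`. -/
def uMat (q : ℕ) (a b : F) : Matrix (Fin 5) (Fin 5) F :=
  !![1, 0, 0, 0, 0; 0, 1, a, b, 0; 0, 0, 1, -a ^ q, 0; 0, 0, 0, 1, 0; 0, 0, 0, 0, 1]

theorem exists_qMat (hF : Fintype.card F = q ^ 2) {x y z : F} (hx : x ^ q = -x) (hz : z ^ q = -z) :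
    ∃ s : Cfsg.SU 5 F q, B.E s = qMat q x y z := by
  refine B.exists_of _ ?_ fun u w => ?_
  · rw [Matrix.det_of_upperTriangular]
    · simp [qMat, Fin.prod_univ_five]
    · intro i j hij
      fin_cases i <;> fin_cases j <;> simp [qMat] at hij ⊢
  · have hqq : ∀ v : F, (v ^ q) ^ q = v := fun v => by
      rw [← pow_mul, ← pow_two, ← hF, FiniteField.pow_card]
    simp [qMat, isoForm, Matrix.mulVec, dotProduct, Fin.sum_univ_five, herm_conj_add hF, herm_conj_neg hF,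
      mul_pow, hqq]
    linear_combination (u 4 * w 4 ^ q) * hx + (u 3 * w 3 ^ q) * hz

theorem exists_uMat (hF : Fintype.card F = q ^ 2) {a b : F} (h : b + b ^ q + a * a ^ q = 0) :
    ∃ s : Cfsg.SU 5 F q, B.E s = uMat q a b := by
  refine B.exists_of _ ?_ fun u w => ?_
  · rw [Matrix.det_of_upperTriangular]
    · simp [uMat, Fin.prod_univ_five]
    · intro i j hij
      fin_cases i <;> fin_cases j <;> simp [uMat] at hij ⊢
  · have hqq : ∀ v : F, (v ^ q) ^ q = v := fun v => by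
      rw [← pow_mul, ← pow_two, ← hF, FiniteField.pow_card]
    simp [uMat, isoForm, Matrix.mulVec, dotProduct, Fin.sum_univ_five, herm_conj_add hF, herm_conj_neg hF,
      mul_pow, hqq]
    linear_combination (u 3 * w 3 ^ q) * h

theorem exists_wMat (hF : Fintype.card F = q ^ 2) : ∃ s : Cfsg.SU 5 F q, B.E s = wMat := by
  refine B.exists_of _ ?_ fun u w => ?_
  · simp [wMat, Matrix.det_succ_row_zero, Fin.sum_univ_succ, Fin.succAbove, Matrix.submatrix]
  · simp [wMat, isoForm, Matrix.mulVec, dotProduct, Fin.sum_univ_five, herm_conj_neg hF]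
    ring

theorem exists_lMat (hF : Fintype.card F = q ^ 2) {a b c d : F} (hD : a * d - b * c ≠ 0) :
    ∃ s : Cfsg.SU 5 F q, B.E s = lMat q a b c d := by
  have hqq : ∀ v : F, (v ^ q) ^ q = v := fun v => by rw [← pow_mul, ← pow_two, ← hF, FiniteField.pow_card]
  set D := a * d - b * c with hDdef
  have hDq : D ^ q ≠ 0 := pow_ne_zero _ hD
  have hbar : a ^ q * d ^ q - b ^ q * c ^ q = D ^ q := by
    rw [hDdef, herm_conj_sub hF, mul_pow, mul_pow]
  refine B.exists_of _ ?_ fun u w => ?_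
  · simp [lMat, ← hDdef, Matrix.det_succ_row_zero, Fin.sum_univ_succ, Fin.succAbove, Matrix.submatrix]
    field_simp
    linear_combination D * hbar
  · simp [lMat, ← hDdef, isoForm, Matrix.mulVec, dotProduct, Fin.sum_univ_five, herm_conj_add hF,
      herm_conj_neg hF, mul_pow, inv_pow, hqq]
    field_simp
    linear_combination (D * (u 4 * w 0 ^ q + u 3 * w 1 ^ q)) * hbar

end IsoBasis

end CfsgLib.SUMult
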