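import Cfsg.Agent.Lib.SUMult.PointStab
import Cfsg.Agent.Lib.ClassicalGroups.UnitaryGen
import Cfsg.Agent.Lib.ChevMult.General

/-!
`SU₃(q)` has no multiplier at three when `3 ∣ q + 1`.
-/

set_option autoImplicit false

namespace CfsgLib.SUMult

open Subgroup Cfsg CfsgLib.Schur CfsgLib.ClassicalGroups
open scoped commutatorElement Pointwise

universe u

/-- A central extension of an abelian group generated by two elements `u`, `v` is abelian if
some lift inverts `u` and sends `v` to `u v`, and `u` has odd order. -/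
theorem lifts_commute {Γ G : Type*} [Group Γ] [Group G] (σ : Γ →* G) (hc : σ.ker ≤ center Γ)
    (U V S : Γ) {N : ℕ} (hN : Odd N) (huN : σ U ^ N = 1) (huv : Commute (σ U) (σ V))
    (hsu : σ S * σ U * (σ S)⁻¹ = (σ U)⁻¹) (hsv : σ S * σ V * (σ S)⁻¹ = σ U * σ V) :
    Commute U V := by
  set z := ⁅U, V⁆ with hz
  have hzk : z ∈ σ.ker := by
    rw [MonoidHom.mem_ker, hz, map_commutatorElement, commutatorElement_eq_one_iff_commute]
    exact huv
  have hzc := fun g => ker_commute hc hzk g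
  have h2 : z ^ 2 = 1 := by
    have h1 : S * z * S⁻¹ = ⁅U⁻¹, U * V⁆ := by
      rw [hz, show S * ⁅U, V⁆ * S⁻¹ = ⁅S * U * S⁻¹, S * V * S⁻¹⁆ by
        simp only [commutatorElement_def]; group]
      exact commutator_congr hc (by simp [hsu]) (by simp [hsv])
    have h2 : ⁅U⁻¹, U * V⁆ = z⁻¹ := by
      rw [hz, commutatorElement_inv]; simp only [commutatorElement_def]; group
    rw [h2, ← (hzc S).eq, mul_inv_cancel_right] at h1
    rw [pow_two]
    exact eq_inv_iff_mul_eq_one.1 h1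
  have hpow : ∀ k : ℕ, U ^ k * V * (U ^ k)⁻¹ = z ^ k * V := by
    intro k
    induction k with
    | zero => simp
    | succ k ih =>
      calc U ^ (k + 1) * V * (U ^ (k + 1))⁻¹ = U * (U ^ k * V * (U ^ k)⁻¹) * U⁻¹ := by
            rw [pow_succ']; group
        _ = U * (z ^ k * V) * U⁻¹ := by rw [ih]
        _ = z ^ k * (U * V * U⁻¹) := by
            rw [← mul_assoc U, ← ((hzc U).pow_left k).eq]; group
        _ = z ^ k * (z * V) := by rw [hz, commutatorElement_def]; group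
        _ = z ^ (k + 1) * V := by rw [pow_succ, mul_assoc]
  have hNz : z ^ N = 1 := by
    have hk : U ^ N ∈ σ.ker := by rw [MonoidHom.mem_ker, map_pow, huN]
    have h := hpow N
    rw [(ker_commute hc hk V).eq, mul_inv_cancel_right] at h
    exact mul_eq_right.1 h.symm
  obtain ⟨k, rfl⟩ := hN
  rw [pow_succ, pow_mul, h2, one_pow, one_mul] at hNz
  exact commutatorElement_eq_one_iff_commute.1 hNz

variable {F : Type u} [Field F] [Fintype F] {q : ℕ}

/-- A diagonal matrix in `SU₃`. -/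
theorem exists_diag_three (a : Fin 3 → F) (h : ∀ i, a i ^ (q + 1) = 1) (hd : a 0 * a 1 * a 2 = 1) :
    ∃ g : Cfsg.SU 3 F q, g.1.1 = Matrix.diagonal a := by
  let s : Matrix.SpecialLinearGroup (Fin 3) F :=
    ⟨Matrix.diagonal a, by rw [Matrix.det_diagonal, Fin.prod_univ_three, hd]⟩
  exact ⟨⟨s, mem_SU_iff_toGL.2 (diagonal_mem_GU _ h _ rfl)⟩, rfl⟩

theorem su_three_ext {a b : Cfsg.SU 3 F q} (h : a.1.1 = b.1.1) : a = b := Subtype.ext (Subtype.ext h)

theorem noMultiplierAt_su_three_three (hF : Fintype.card F = q ^ 2) (hq : 3 ≤ q) (h3 : 3 ∣ q + 1) :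
    haveI : Fact (Nat.Prime 3) := ⟨Nat.prime_three⟩
    NoMultiplierAt 3 (Cfsg.SU 3 F q) := by
  classical
  have hp3 : Fact (Nat.Prime 3) := ⟨Nat.prime_three⟩
  obtain ⟨v, o, ho, hvo⟩ := Nat.exists_eq_pow_mul_and_not_dvd (n := q + 1) (by omega) 3 (by norm_num)
  set N := 3 ^ v with hN
  have hv : 1 ≤ v := by
    rcases Nat.eq_zero_or_pos v with rfl | h
    · rw [hN, pow_zero, one_mul] at hvo; exact absurd (hvo ▸ h3) ho
    · exact h
  have hNdvd : N ∣ q + 1 := ⟨o, hvo⟩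
  let K := (powMonoidHom N : Fˣ →* Fˣ).ker
  have hK : Nat.card K = N := by
    rw [IsCyclic.card_powMonoidHom_ker, Nat.card_units, Nat.card_eq_fintype_card, hF]
    refine Nat.gcd_eq_right (hNdvd.trans ?_)
    exact ⟨q - 1, by rw [← Nat.sq_sub_sq, one_pow]⟩
  have hKq : ∀ x : K, ((x : Fˣ) : F) ^ (q + 1) = 1 := fun x => by
    have h : ((x : Fˣ) : F) ^ N = 1 := congrArg Units.val (show (x : Fˣ) ^ N = 1 from x.2)
    rw [hvo, pow_mul, h, one_pow]
  choose f hf using fun x : K × K => exists_diag_three (q := q)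
    ![((x.1 : Fˣ) : F), ((x.2 : Fˣ) : F), (((x.1 * x.2)⁻¹ : K) : Fˣ)]
    (fun i => by fin_cases i <;> exact hKq _)
    (by
      simp only [Matrix.cons_val_zero, Matrix.cons_val_one, Matrix.cons_val]
      rw [← Units.val_mul, ← Units.val_mul, ← Subgroup.coe_mul, ← Subgroup.coe_mul, mul_inv_cancel,
        OneMemClass.coe_one, Units.val_one])
  let d : K × K →* Cfsg.SU 3 F q := MonoidHom.mk' f fun x y => su_three_ext (by
    show (f (x * y)).1.1 = (f x).1.1 * (f y).1.1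
    rw [hf, hf, hf, Matrix.diagonal_mul_diagonal]
    congr 1
    funext i
    fin_cases i <;> simp [mul_comm, mul_left_comm, mul_assoc])
  have hd : ∀ x, (d x).1.1 =
      Matrix.diagonal ![((x.1 : Fˣ) : F), ((x.2 : Fˣ) : F), (((x.1 * x.2)⁻¹ : K) : Fˣ)] := hf
  have hdinj : Function.Injective d := fun x y h => by
    have h1 := congrArg (fun g : Cfsg.SU 3 F q => g.1.1) h
    simp only [hd] at h1
    have h2 := Matrix.diagonal_injective h1
    exact Prod.ext (Subtype.ext (Units.ext (congrFun h2 0))) (Subtype.ext (Units.ext (congrFun h2 1)))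
  -- the permutation elements
  obtain ⟨c, hc⟩ : ∃ c : Cfsg.SU 3 F q, c.1.1 = !![0, 1, 0; 0, 0, 1; 1, 0, 0] := by
    let s : Matrix.SpecialLinearGroup (Fin 3) F :=
      ⟨!![0, 1, 0; 0, 0, 1; 1, 0, 0], by simp [Matrix.det_fin_three]⟩
    refine ⟨⟨s, mem_SU_iff.2 fun u w => ?_⟩, rfl⟩
    simp [s, Cfsg.hermForm, Matrix.mulVec, dotProduct, Fin.sum_univ_three]
    ring
  obtain ⟨t, ht⟩ : ∃ t : Cfsg.SU 3 F q, t.1.1 = !![0, -1, 0; -1, 0, 0; 0, 0, -1] := by
    let s : Matrix.SpecialLinearGroup (Fin 3) F :=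
      ⟨!![0, -1, 0; -1, 0, 0; 0, 0, -1], by simp [Matrix.det_fin_three]⟩
    have hm : (-1 : F) ^ q * (-1) = 1 := by
      rw [herm_conj_neg hF, one_pow]; ring
    refine ⟨⟨s, mem_SU_iff.2 fun u w => ?_⟩, rfl⟩
    simp [s, Cfsg.hermForm, Matrix.mulVec, dotProduct, Fin.sum_univ_three, herm_conj_neg hF]
    ring
  have hcd : ∀ x : K × K, c * d x * c⁻¹ = d (x.2, (x.1 * x.2)⁻¹) := fun x => by
    rw [mul_inv_eq_iff_eq_mul]
    refine su_three_ext ?_
    show c.1.1 * (d x).1.1 = (d _).1.1 * c.1.1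
    rw [hd, hd, hc]
    ext i j
    fin_cases i <;> fin_cases j <;> simp [mul_comm, mul_left_comm]
  have htd : ∀ x : K × K, t * d x * t⁻¹ = d (x.2, x.1) := fun x => by
    rw [mul_inv_eq_iff_eq_mul]
    refine su_three_ext ?_
    show t.1.1 * (d x).1.1 = (d _).1.1 * t.1.1
    rw [hd, hd, ht]
    ext i j
    fin_cases i <;> fin_cases j <;> simp [mul_comm]
  set T := d.range with hT
  have hcnorm : zpowers c ≤ normalizer (T : Set (Cfsg.SU 3 F q)) := by
    rw [zpowers_le, mem_normalizer_iff]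
    intro g
    constructor
    · rintro ⟨x, rfl⟩; exact ⟨_, (hcd x).symm⟩
    · rintro ⟨x, hx⟩
      refine ⟨((x.1 * x.2)⁻¹, x.1), ?_⟩
      have : d x = c * d ((x.1 * x.2)⁻¹, x.1) * c⁻¹ := by
        rw [hcd]
        congr 1
        exact Prod.ext rfl (by simp [mul_comm, mul_left_comm])
      rw [hx] at this
      exact (mul_left_cancel (mul_right_cancel this)).symm
  have hc3 : c ^ 3 = 1 := by
    rw [pow_succ, pow_two]
    refine su_three_ext ?_
    show c.1.1 * c.1.1 * c.1.1 = 1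
    rw [hc]
    ext i j
    fin_cases i <;> fin_cases j <;> simp
  -- the Sylow subgroup
  set H := T ⊔ zpowers c with hH
  have hTcard : Nat.card T = N * N := by
    rw [hT, ← Nat.card_congr (MonoidHom.ofInjective hdinj).toEquiv, Nat.card_prod, hK]
  have hTp : IsPGroup 3 T := IsPGroup.of_card (n := v + v) (by rw [hTcard, hN, pow_add])
  have hcp : IsPGroup 3 (zpowers c) := by
    rintro ⟨x, i, rfl⟩
    refine ⟨1, Subtype.ext ?_⟩
    show (c ^ i) ^ (3 ^ 1) = 1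
    rw [pow_one, ← zpow_natCast, ← zpow_mul, mul_comm, zpow_mul, zpow_natCast, hc3, one_zpow]
  have hHp : IsPGroup 3 H := by
    rw [hH, sup_comm]
    exact hcp.to_sup_of_normal_right' hTp hcnorm
  obtain ⟨m, hm⟩ := hHp.exists_card_eq
  have hcT : c ∉ T := by
    rintro ⟨x, hx⟩
    have h1 := congrArg (fun g : Cfsg.SU 3 F q => g.1.1 0 1) hx
    simp [hd, hc] at h1
  have hlt : 3 ^ (v + v) < 3 ^ m := by
    rw [← hm, pow_add, ← hN, ← hTcard]
    refine lt_of_le_of_ne (card_le_of_le le_sup_left) fun he => hcT ?_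
    rw [eq_of_le_of_card_ge (le_sup_left : T ≤ H) he.ge]
    exact mem_sup_right (mem_zpowers c)
  have hfac : (Nat.card (Cfsg.SU 3 F q)).factorization 3 = v + v + 1 := by
    obtain ⟨j, hj⟩ := h3
    have hr : q ^ 2 - q + 1 = 3 * (3 * j * j - 3 * j + 1) := by
      have hq' : q = 3 * j - 1 := by omega
      subst hq'
      obtain ⟨i, rfl⟩ : ∃ i, j = i + 1 := ⟨j - 1, by omega⟩
      rw [show 3 * (i + 1) - 1 = 3 * i + 2 by omega,
        show (3 * i + 2) ^ 2 = 9 * (i * i) + 12 * i + 4 by ring,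
        show 3 * (i + 1) * (i + 1) = 3 * (i * i) + 6 * i + 3 by ring]
      omega
    have hd2 : ¬ 3 ∣ q ^ 3 * (q - 1) * o ^ 2 * (3 * j * j - 3 * j + 1) := by
      intro h
      have hp := Nat.prime_three
      rcases hp.dvd_mul.1 h with h | h
      · rcases hp.dvd_mul.1 h with h | h
        · rcases hp.dvd_mul.1 h with h | h
          · have := hp.dvd_of_dvd_pow h; omega
          · omega
        · exact ho (hp.dvd_of_dvd_pow h)
      · have h9 : 3 ∣ 3 * j * j - 3 * j := Nat.dvd_sub ⟨j * j, by ring⟩ ⟨j, rfl⟩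
        omega
    rw [(card_su_three hF).1, hvo, hr, show q ^ 3 * (q - 1) * (3 ^ v * o) ^ 2 * (3 * (3 * j * j - 3 * j + 1)) =
      3 ^ (v + v + 1) * (q ^ 3 * (q - 1) * o ^ 2 * (3 * j * j - 3 * j + 1)) by ring,
      Nat.factorization_mul (pow_ne_zero _ (by norm_num)) (fun h0 => hd2 (by rw [h0]; exact dvd_zero 3)),
      Finsupp.add_apply, Nat.Prime.factorization_pow Nat.prime_three, Finsupp.single_eq_same,
      Nat.factorization_eq_zero_of_not_dvd hd2, add_zero]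
  have hcard : Nat.card H = 3 ^ (Nat.card (Cfsg.SU 3 F q)).factorization 3 := by
    have h1 := card_subgroup_dvd_card H
    rw [hm, Nat.Prime.pow_dvd_iff_le_factorization Nat.prime_three Nat.card_pos.ne', hfac] at h1
    have h2 := (Nat.pow_lt_pow_iff_right (by norm_num)).1 hlt
    rw [hm, hfac, show m = v + v + 1 by omega]
  refine noMultiplierAt_of_derived (Sylow.ofCard H hcard) fun Γ _ _ σ hσ P hP z hz hzP _ => ?_
  have hperf : commutator (Cfsg.SU 3 F q) = ⊤ := SU_perfect hF le_rfl (by omega)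
  have hΓ := CfsgLib.ChevMult.commutator_eq_top_of_stem hσ hperf
  let A : Subgroup Γ := T.comap σ
  obtain ⟨C, hC⟩ := hσ.1 c
  -- generators of `T`
  obtain ⟨ζ, hζ⟩ := IsCyclic.exists_generator (α := K)
  obtain ⟨E₁, hE₁⟩ := hσ.1 (d (ζ, ζ⁻¹))
  obtain ⟨E₂, hE₂⟩ := hσ.1 (d (1, ζ))
  obtain ⟨S, hS⟩ := hσ.1 t
  have hE : Commute E₁ E₂ := by
    refine lifts_commute σ hσ.2.1 E₁ E₂ S (N := N) (by rw [hN]; exact Odd.pow (by decide)) ?_ ?_ ?_ ?_
    · rw [hE₁, ← map_pow]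
      have : ((ζ, ζ⁻¹) : K × K) ^ N = 1 := by
        rw [← hK]
        exact Prod.ext (pow_card_eq_one' (x := ζ)) (pow_card_eq_one' (x := ζ⁻¹))
      rw [this, map_one]
    · rw [hE₁, hE₂]; exact (Commute.all _ _).map d
    · rw [hS, hE₁, htd, ← map_inv]; simp
    · rw [hS, hE₁, hE₂, htd, ← map_mul]; simp
  have hA : ∀ a ∈ A, ∀ b ∈ A, Commute a b := by
    set B := closure ({E₁, E₂} : Set Γ) ⊔ σ.ker with hB
    have hle : A ≤ B := fun a ha => by
      obtain ⟨⟨x, y⟩, hxy⟩ := ha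
      obtain ⟨i, rfl⟩ := mem_zpowers_iff.1 (hζ x)
      obtain ⟨j, rfl⟩ := mem_zpowers_iff.1 (hζ y)
      have hk : (E₁ ^ i * E₂ ^ (i + j))⁻¹ * a ∈ σ.ker := by
        rw [MonoidHom.mem_ker, map_mul, map_inv, map_mul, map_zpow, map_zpow, hE₁, hE₂, ← map_zpow,
          ← map_zpow, ← map_mul, inv_mul_eq_one, ← hxy]
        congr 1
        ext <;> simp [zpow_add]
      rw [show a = E₁ ^ i * E₂ ^ (i + j) * ((E₁ ^ i * E₂ ^ (i + j))⁻¹ * a) by group]
      exact mul_mem (mem_sup_left (mul_mem (zpow_mem (show E₁ ∈ closure ({E₁, E₂} : Set Γ) from Subgroup.subset_closure (Set.mem_insert E₁ _)) i)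
        (zpow_mem (show E₂ ∈ closure ({E₁, E₂} : Set Γ) from Subgroup.subset_closure (Set.mem_insert_of_mem E₁ rfl)) _))) (mem_sup_right hk)
    have hBc : B ≤ centralizer (B : Set Γ) := by
      have hz' : σ.ker ≤ centralizer (B : Set Γ) := hσ.2.1.trans (center_le_centralizer _)
      refine sup_le ((closure_le _).2 ?_) hz'
      have hg : ∀ e ∈ ({E₁, E₂} : Set Γ), B ≤ centralizer {e} := fun e he => by
        refine sup_le ((closure_le _).2 fun e' he' => ?_) (hσ.2.1.trans (center_le_centralizer _))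
        rw [SetLike.mem_coe, mem_centralizer_singleton_iff]
        rcases he with rfl | rfl <;> rcases he' with rfl | rfl <;>
          first | rfl | exact hE.eq | exact hE.eq.symm
      intro e he
      rw [SetLike.mem_coe, mem_centralizer_iff]
      exact fun w hw => mem_centralizer_singleton_iff.1 (hg e he hw)
    exact fun a ha b hb => (mem_centralizer_iff.1 (hBc (hle ha)) b (hle hb)).symm
  have hCA : ∀ a ∈ A, C * a * C⁻¹ ∈ A := fun a ha => by
    obtain ⟨x, hx⟩ := ha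
    refine ⟨(x.2, (x.1 * x.2)⁻¹), ?_⟩
    rw [map_mul, map_mul, map_inv, hC, ← hx, hcd]
  have hCA' : ∀ a ∈ A, C⁻¹ * a * C ∈ A := fun a ha => by
    obtain ⟨x, hx⟩ := ha
    refine ⟨((x.1 * x.2)⁻¹, x.1), ?_⟩
    rw [map_mul, map_mul, map_inv, hC, ← hx]
    have h : d x = c * d ((x.1 * x.2)⁻¹, x.1) * c⁻¹ := by
      rw [hcd]
      congr 1
      exact Prod.ext rfl (by simp [mul_comm, mul_left_comm])
    rw [h]; group
  let φ : A →* Γ := MonoidHom.mk' (fun a => C * (a : Γ) * C⁻¹ * (a : Γ)⁻¹) fun a b => by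
    have h1 := hA _ (inv_mem a.2) _ (mul_mem (hCA _ b.2) (inv_mem b.2))
    calc C * (a * b : Γ) * C⁻¹ * (a * b : Γ)⁻¹
        = C * a * C⁻¹ * ((C * b * C⁻¹ * (b : Γ)⁻¹) * (a : Γ)⁻¹) := by group
      _ = C * a * C⁻¹ * ((a : Γ)⁻¹ * (C * b * C⁻¹ * (b : Γ)⁻¹)) := by rw [h1.eq]
      _ = _ := by group
  have hφ : ∀ a : A, φ a = C * (a : Γ) * C⁻¹ * (a : Γ)⁻¹ := fun a => rfl
  have hI : ∀ (i : ℤ) (a : Γ), a ∈ A → C ^ i * a * (C ^ i)⁻¹ ∈ A ∧ C ^ i * a * (C ^ i)⁻¹ * a⁻¹ ∈ φ.range := by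
    intro i
    induction i using Int.induction_on with
    | zero => intro a ha; simpa using ha
    | succ i ih =>
      intro a ha
      obtain ⟨h1, h2⟩ := ih a ha
      rw [show C ^ ((i : ℤ) + 1) * a * (C ^ ((i : ℤ) + 1))⁻¹ = C * (C ^ (i : ℤ) * a * (C ^ (i : ℤ))⁻¹) * C⁻¹ by
        rw [add_comm, zpow_one_add]; group]
      refine ⟨hCA _ h1, ?_⟩
      rw [show C * (C ^ (i : ℤ) * a * (C ^ (i : ℤ))⁻¹) * C⁻¹ * a⁻¹ =
        φ ⟨_, h1⟩ * (C ^ (i : ℤ) * a * (C ^ (i : ℤ))⁻¹ * a⁻¹) by rw [hφ]; group]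
      exact mul_mem ⟨_, rfl⟩ h2
    | pred i ih =>
      intro a ha
      obtain ⟨h1, h2⟩ := ih a ha
      rw [show C ^ (-(i : ℤ) - 1) * a * (C ^ (-(i : ℤ) - 1))⁻¹ = C⁻¹ * (C ^ (-(i : ℤ)) * a * (C ^ (-(i : ℤ)))⁻¹) * C by
        rw [sub_eq_add_neg, add_comm, zpow_add, zpow_neg_one]; group]
      refine ⟨hCA' _ h1, ?_⟩
      rw [show C⁻¹ * (C ^ (-(i : ℤ)) * a * (C ^ (-(i : ℤ)))⁻¹) * C * a⁻¹ =
        (φ ⟨_, hCA' _ h1⟩)⁻¹ * (C ^ (-(i : ℤ)) * a * (C ^ (-(i : ℤ)))⁻¹ * a⁻¹) by rw [hφ]; group]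
      exact mul_mem (inv_mem ⟨_, rfl⟩) h2
  have hIA : ∀ y ∈ φ.range, y ∈ A := by
    rintro _ ⟨a, rfl⟩; exact mul_mem (hCA _ a.2) (inv_mem a.2)
  have hder : ⁅P, P⁆ ≤ φ.range := by
    have hdec : ∀ x ∈ P, ∃ a ∈ A, ∃ i : ℤ, x = a * C ^ i := fun x hx => by
      have hx' : σ x ∈ (H : Set (Cfsg.SU 3 F q)) := by
        have := mem_map_of_mem σ hx
        rw [hP] at this
        exact this
      rw [hH, coe_mul_of_right_le_normalizer_left T (zpowers c) hcnorm] at hx'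
      obtain ⟨t', ht', _, ⟨i, rfl⟩, hti⟩ := Set.mem_mul.1 hx'
      refine ⟨x * (C ^ i)⁻¹, ?_, i, by group⟩
      show σ _ ∈ T
      rw [map_mul, map_inv, map_zpow, hC, ← hti, mul_inv_cancel_right]
      exact ht'
    rw [commutator_le]
    intro x hx y hy
    obtain ⟨a, ha, i, rfl⟩ := hdec x hx
    obtain ⟨b, hb, j, rfl⟩ := hdec y hy
    obtain ⟨hb1, hb2⟩ := hI i b hb
    obtain ⟨ha1, ha2⟩ := hI j a ha
    have key : ⁅a * C ^ i, b * C ^ j⁆ =
        (a * (C ^ i * b * (C ^ i)⁻¹ * b⁻¹) * a⁻¹) *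
          (a * b * (C ^ j * a * (C ^ j)⁻¹)⁻¹ * b⁻¹) := by
      rw [commutatorElement_def]; group
    have e1 : a * (C ^ i * b * (C ^ i)⁻¹ * b⁻¹) * a⁻¹ = C ^ i * b * (C ^ i)⁻¹ * b⁻¹ := by
      rw [(hA _ ha _ (hIA _ hb2)).eq, mul_inv_cancel_right]
    have e2 : a * b * (C ^ j * a * (C ^ j)⁻¹)⁻¹ * b⁻¹ = a * (C ^ j * a * (C ^ j)⁻¹)⁻¹ := by
      rw [mul_assoc a, (hA _ hb _ (inv_mem ha1)).eq, ← mul_assoc a, mul_inv_cancel_right]
    rw [key, e1, e2, show a * (C ^ j * a * (C ^ j)⁻¹)⁻¹ = (C ^ j * a * (C ^ j)⁻¹ * a⁻¹)⁻¹ by group]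
    exact mul_mem hb2 (inv_mem ha2)
  obtain ⟨⟨a, x, hx⟩, ha⟩ := hder hzP
  rw [hφ] at ha
  have hcomm : c * d x * c⁻¹ = d x := by
    have h1 : σ z = 1 := hz
    rw [← ha] at h1
    simp only [map_mul, map_inv, hC, ← hx] at h1
    exact mul_inv_eq_one.1 h1
  rw [hcd] at hcomm
  have hxy := hdinj hcomm
  have h12 : x.2 = x.1 := congrArg Prod.fst hxy
  have h23 : (x.1 * x.2)⁻¹ = x.2 := congrArg Prod.snd hxy
  have hcen : ∀ g, Commute (σ a) (σ g) := fun g => by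
    rw [← hx]
    refine su_three_ext ?_
    show (d x).1.1 * (σ g).1.1 = (σ g).1.1 * (d x).1.1
    have : (![((x.1 : Fˣ) : F), ((x.2 : Fˣ) : F), (((x.1 * x.2)⁻¹ : K) : Fˣ)]) = fun _ => ((x.1 : Fˣ) : F) := by
      funext i
      rw [h23, h12]
      fin_cases i <;> rfl
    rw [hd, this, ← Matrix.smul_one_eq_diagonal, Matrix.smul_mul, Matrix.mul_smul, Matrix.one_mul,
      Matrix.mul_one]
  have hac := CfsgLib.SchurCover.mem_center_of_map_mem_center ((Group.isPerfect_def).2 hΓ) σ hσ.2.1 hcen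
  rw [← ha]
  show C * a * C⁻¹ * a⁻¹ = 1
  rw [mem_center_iff.1 hac C, mul_inv_cancel_right, mul_inv_cancel]

end CfsgLib.SUMult
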