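import Cfsg.Agent.Lib.SUMult.FiveBasis
import Cfsg.Agent.Lib.SUMult.CoxeterBound
import Cfsg.Agent.Lib.SUMult.ThreePart
import Cfsg.Agent.Lib.Phan.TwoSmall

/-!
Monomial elements of `SU₅(q)`, `q ≤ 3`, and the multiplier at the prime dividing `q + 1`.
-/

set_option autoImplicit false
set_option linter.unusedSectionVars false

namespace CfsgLib.SUMult

open Subgroup Cfsg CfsgLib.Schur CfsgLib.Phan CfsgLib.ClassicalGroups
open scoped commutatorElement Pointwise

universe u

variable {F : Type u} [Field F] [Fintype F] {q : ℕ}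

/-- The norm one units. -/
abbrev normOne (F : Type u) [Field F] (q : ℕ) : Subgroup Fˣ := (powMonoidHom (q + 1) : Fˣ →* Fˣ).ker

theorem normOne_mul (x : normOne F q) : ((x : Fˣ) : F) * ((x : Fˣ) : F) ^ q = 1 := by
  rw [← pow_succ', ← Units.val_pow_eq_pow_val, show (x : Fˣ) ^ (q + 1) = 1 from x.2, Units.val_one]

theorem exists_diag_two (hF : Fintype.card F = q ^ 2) : ∃ f : normOne F q →* Cfsg.SU 2 F q,
    ∀ x, (f x).1.1 = !![((x : Fˣ) : F), 0; 0, (((x⁻¹ : normOne F q) : Fˣ) : F)] := by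
  have hq := herm_two_le hF
  have h : ∀ x : normOne F q, ∃ s : Cfsg.SU 2 F q,
      s.1.1 = !![((x : Fˣ) : F), 0; 0, (((x⁻¹ : normOne F q) : Fˣ) : F)] := fun x => by
    refine ⟨mk2 hF ((x : Fˣ) : F) 0 (by rw [normOne_mul, zero_mul, add_zero]), ?_⟩
    show !![((x : Fˣ) : F), -(0 : F) ^ q; 0, ((x : Fˣ) : F) ^ q] = _
    rw [zero_pow (show q ≠ 0 by omega), neg_zero,
      show ((x : Fˣ) : F) ^ q = (((x⁻¹ : normOne F q) : Fˣ) : F) by
        rw [Subgroup.coe_inv, Units.val_inv_eq_inv_val]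
        exact eq_inv_of_mul_eq_one_right (normOne_mul x)]
  choose f hf using h
  refine ⟨MonoidHom.mk' f fun x y => Subtype.ext (Subtype.ext ?_), hf⟩
  show (f (x * y)).1.1 = (f x).1.1 * (f y).1.1
  rw [hf, hf, hf]
  ext i j
  fin_cases i <;> fin_cases j <;> simp [mul_comm]

/-- The matrix of the Weyl element of `SU₂`. -/
def weylTwo (hF : Fintype.card F = q ^ 2) : Cfsg.SU 2 F q := mk2 hF 0 1 (by simp)

theorem weylTwo_val (hF : Fintype.card F = q ^ 2) : (weylTwo hF).1.1 = !![(0 : F), -1; 1, 0] := by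
  have hq := herm_two_le hF
  show !![(0 : F), -(1 : F) ^ q; 1, (0 : F) ^ q] = _
  rw [one_pow, zero_pow (show q ≠ 0 by omega)]

theorem su_ext {n : ℕ} {a b : Cfsg.SU n F q} (h : a.1.1 = b.1.1) : a = b := Subtype.ext (Subtype.ext h)

theorem su_val_mul {n : ℕ} (a b : Cfsg.SU n F q) : (a * b).1.1 = a.1.1 * b.1.1 := rfl

section identities

open CfsgLib.Phan.Two (val_b01 val_b12)

variable (hF : Fintype.card F = q ^ 2) {δ : normOne F q →* Cfsg.SU 2 F q}
  (hδ : ∀ x, (δ x).1.1 = !![((x : Fˣ) : F), 0; 0, (((x⁻¹ : normOne F q) : Fˣ) : F)])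

include hδ in
theorem weyl_conj_diag (x : normOne F q) : weylTwo hF * δ x * (weylTwo hF)⁻¹ = δ x⁻¹ := by
  rw [mul_inv_eq_iff_eq_mul]
  refine su_ext ?_
  rw [su_val_mul, su_val_mul, weylTwo_val, hδ, hδ, inv_inv]
  ext i j
  fin_cases i <;> fin_cases j <;> simp

include hδ in
theorem weyl_sq (m : normOne F q) (hm : ((m : Fˣ) : F) = -1) : weylTwo hF * weylTwo hF = δ m := by
  have hm' : (((m⁻¹ : normOne F q) : Fˣ) : F) = -1 := by
    rw [Subgroup.coe_inv, Units.val_inv_eq_inv_val, hm, inv_neg, inv_one]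
  refine su_ext ?_
  rw [su_val_mul, weylTwo_val, hδ, hm, hm']
  ext i j
  fin_cases i <;> fin_cases j <;> simp

include hδ in
theorem left_conj_diag (x : normOne F q) :
    b01 (weylTwo hF) * b12 (δ x) * (b01 (weylTwo hF))⁻¹ = b01 (δ x) * b12 (δ x) := by
  rw [mul_inv_eq_iff_eq_mul]
  refine su_ext ?_
  simp only [su_val_mul, val_b01, val_b12, weylTwo_val, hδ]
  ext i j
  fin_cases i <;> fin_cases j <;> simp [Matrix.mul_apply, Fin.sum_univ_three]

include hδ in
theorem right_conj_diag (x : normOne F q) :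
    b12 (weylTwo hF) * b01 (δ x) * (b12 (weylTwo hF))⁻¹ = b01 (δ x) * b12 (δ x) := by
  rw [mul_inv_eq_iff_eq_mul]
  refine su_ext ?_
  simp only [su_val_mul, val_b01, val_b12, weylTwo_val, hδ]
  ext i j
  fin_cases i <;> fin_cases j <;> simp [Matrix.mul_apply, Fin.sum_univ_three]

include hδ in
theorem diag_comm (x y : normOne F q) : Commute (b01 (δ x)) (b12 (δ y)) := by
  refine su_ext ?_
  simp only [su_val_mul, val_b01, val_b12, hδ]
  ext i j
  fin_cases i <;> fin_cases j <;> simp [Matrix.mul_apply, Fin.sum_univ_three, mul_comm]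

theorem weyl_braid : b01 (weylTwo hF) * b12 (weylTwo hF) * b01 (weylTwo hF) =
    b12 (weylTwo hF) * b01 (weylTwo hF) * b12 (weylTwo hF) := by
  refine su_ext ?_
  simp only [su_val_mul, val_b01, val_b12, weylTwo_val]
  ext i j
  fin_cases i <;> fin_cases j <;> simp [Matrix.mul_apply, Fin.sum_univ_three]

end identities

/-! ### Four commuting homomorphisms -/

section four

variable {K G : Type*} [CommGroup K] [Group G] (h : Fin 4 → (K →* G))
  (hc : ∀ i j x y, Commute (h i x) (h j y))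

/-- The product of four commuting homomorphisms. -/
def quadHom : (Fin 4 → K) →* G :=
  MonoidHom.mk' (fun a => h 0 (a 0) * h 1 (a 1) * (h 2 (a 2) * h 3 (a 3))) fun a b => by
    have e : ∀ i j, ∀ p p' r r' : K, h i p * h j r * (h i p' * h j r') = h i (p * p') * h j (r * r') :=
      fun i j p p' r r' => by
        rw [map_mul, map_mul]; exact (hc j i r p').mul_mul_mul_comm _ _
    simp only [Pi.mul_apply]
    rw [← e 0 1, ← e 2 3]
    exact (((hc 0 2 _ _).mul_left (hc 1 2 _ _)).mul_right ((hc 0 3 _ _).mul_left (hc 1 3 _ _))).mul_mul_mul_comm _ _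

theorem quadHom_apply (a : Fin 4 → K) :
    quadHom h hc a = h 0 (a 0) * h 1 (a 1) * (h 2 (a 2) * h 3 (a 3)) := rfl

theorem mem_range_quadHom (i : Fin 4) (x : K) : h i x ∈ (quadHom h hc).range := by
  refine ⟨Pi.mulSingle i x, ?_⟩
  rw [quadHom_apply]
  fin_cases i <;> simp [Pi.mulSingle, Function.update]

theorem range_quadHom_comm {a b : G} (ha : a ∈ (quadHom h hc).range) (hb : b ∈ (quadHom h hc).range) :
    Commute a b := by
  obtain ⟨a, rfl⟩ := ha
  obtain ⟨b, rfl⟩ := hb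
  exact (Commute.all a b).map _

end four

/-! ### The monomial elements of `SU₅` -/

theorem bk5_left (i : ℕ) (hi : i + 3 ≤ 5) (g : Cfsg.SU 2 F q) :
    bk i hi (b01 g) = bk i (show i + 2 ≤ 5 by omega) g :=
  (bk_bk i 0 hi _ (by omega) g).trans (bk_congr (by omega) _ _ g)

theorem bk5_right (i : ℕ) (hi : i + 3 ≤ 5) (g : Cfsg.SU 2 F q) :
    bk i hi (b12 g) = bk (i + 1) (show i + 1 + 2 ≤ 5 by omega) g :=
  bk_bk i 1 hi _ (by omega) g

theorem act_bk5_diag {δ : normOne F q →* Cfsg.SU 2 F q}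
    (hδ : ∀ x, (δ x).1.1 = !![((x : Fˣ) : F), 0; 0, (((x⁻¹ : normOne F q) : Fˣ) : F)])
    (i : ℕ) (hi : i + 2 ≤ 5) (x : normOne F q) (j : ℕ) (hj : j < 5) :
    act (bk i hi (δ x)) (bv 5 F j) =
      (if j = i then ((x : Fˣ) : F) else if j = i + 1 then (((x⁻¹ : normOne F q) : Fˣ) : F) else 1) • bv 5 F j := by
  funext y
  rw [Pi.smul_apply, smul_eq_mul]
  rcases (show ((y : ℕ) < i ∨ i + 2 ≤ (y : ℕ)) ∨ (y : ℕ) = i ∨ (y : ℕ) = i + 1 by omega) with h | h | h
  · rw [act_bk_out hi _ _ y h]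
    by_cases e : (y : ℕ) = j
    · rw [if_neg (show j ≠ i by omega), if_neg (show j ≠ i + 1 by omega), one_mul]
    · simp [bv, e]
  · have e : y = ⟨i + ((0 : Fin 2) : ℕ), by simp; omega⟩ := Fin.ext (by simpa using h)
    rw [e, act_bk_coord]
    by_cases h' : j = i
    · subst h'
      simp [act, hδ, bv, seg, Matrix.mulVec, dotProduct, Fin.sum_univ_two]
    · simp [act, hδ, bv, seg, Matrix.mulVec, dotProduct, Fin.sum_univ_two, Ne.symm h']
  · have e : y = ⟨i + ((1 : Fin 2) : ℕ), by simp; omega⟩ := Fin.ext (by simpa using h)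
    rw [e, act_bk_coord]
    by_cases h' : j = i + 1
    · subst h'
      simp [act, hδ, bv, seg, Matrix.mulVec, dotProduct, Fin.sum_univ_two]
    · simp [act, hδ, bv, seg, Matrix.mulVec, dotProduct, Fin.sum_univ_two, Ne.symm h']

theorem act_bk5_weyl (hF : Fintype.card F = q ^ 2) (i : ℕ) (hi : i + 2 ≤ 5) :
    act (bk i hi (weylTwo hF)) (bv 5 F i) = bv 5 F (i + 1) ∧
      act (bk i hi (weylTwo hF)) (bv 5 F (i + 1)) = -bv 5 F i := by
  constructor <;> funext y <;>
    rcases (show ((y : ℕ) < i ∨ i + 2 ≤ (y : ℕ)) ∨ (y : ℕ) = i ∨ (y : ℕ) = i + 1 by omega) with h | h | h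
  all_goals first
    | (rw [act_bk_out hi _ _ y h]; simp [bv]; split_ifs <;> first | rfl | omega | simp_all)
    | (have e : y = ⟨i + ((0 : Fin 2) : ℕ), by simp; omega⟩ := Fin.ext (by simpa using h)
       rw [e, act_bk_coord]
       simp [act, weylTwo_val, bv, seg, Matrix.mulVec, dotProduct, Fin.sum_univ_two])
    | (have e : y = ⟨i + ((1 : Fin 2) : ℕ), by simp; omega⟩ := Fin.ext (by simpa using h)
       rw [e, act_bk_coord]
       simp [act, weylTwo_val, bv, seg, Matrix.mulVec, dotProduct, Fin.sum_univ_two])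

/-- The diagonal torus of `SU₅`. -/
theorem exists_torus (hF : Fintype.card F = q ^ 2) {δ : normOne F q →* Cfsg.SU 2 F q}
    (hδ : ∀ x, (δ x).1.1 = !![((x : Fˣ) : F), 0; 0, (((x⁻¹ : normOne F q) : Fˣ) : F)]) :
    ∃ d : (Fin 4 → normOne F q) →* Cfsg.SU 5 F q, Function.Injective d ∧
      (∀ a, d a = bk 0 (by omega) (δ (a 0)) * bk 1 (by omega) (δ (a 1)) *
        (bk 2 (by omega) (δ (a 2)) * bk 3 (by omega) (δ (a 3)))) ∧
      ∀ a j, j < 5 → ∃ c : F, c ≠ 0 ∧ act (d a) (bv 5 F j) = c • bv 5 F j := by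
  let h : Fin 4 → (normOne F q →* Cfsg.SU 5 F q) := fun i =>
    (bk (i : ℕ) (show (i : ℕ) + 2 ≤ 5 by omega)).comp δ
  have hh : ∀ i x j, j < 5 → act (h i x) (bv 5 F j) =
      (if j = (i : ℕ) then ((x : Fˣ) : F) else
        if j = (i : ℕ) + 1 then (((x⁻¹ : normOne F q) : Fˣ) : F) else 1) • bv 5 F j :=
    fun i x j hj => act_bk5_diag hδ _ _ x j hj
  have hc : ∀ i j x y, Commute (h i x) (h j y) := fun i j x y => act_ext' fun k hk => by
    rw [act_mul, act_mul, hh _ _ _ hk, hh _ _ _ hk, act_smul, act_smul, hh _ _ _ hk, hh _ _ _ hk,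
      smul_smul, smul_smul, mul_comm]
  refine ⟨quadHom h hc, ?_, fun a => rfl, fun a j hj => ?_⟩
  · refine (injective_iff_map_eq_one _).2 fun a ha => ?_
    have key : ∀ j, j < 5 → act (quadHom h hc a) (bv 5 F j) = bv 5 F j := fun j hj => by
      rw [ha, act, show ((1 : Cfsg.SU 5 F q)).1.1 = 1 from rfl, Matrix.one_mulVec]
    have val : ∀ j : Fin 5, ∀ c : F, act (quadHom h hc a) (bv 5 F j) = c • bv 5 F j → c = 1 := fun j c e => by
      have e1 := congrFun (e.symm.trans (key j j.2)) j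
      simpa [bv] using e1
    simp only [quadHom_apply, act_mul] at val
    have e0 := val 0
    have e1 := val 1
    have e2 := val 2
    have e3 := val 3
    simp [hh, act_smul, smul_smul] at e0 e1 e2 e3
    have a0 : a 0 = 1 := Subtype.ext (Units.ext (e0 _ rfl))
    have a1 : a 1 = 1 := Subtype.ext (Units.ext (by simpa [a0] using e1 _ rfl))
    have a2 : a 2 = 1 := Subtype.ext (Units.ext (by simpa [a1] using e2 _ rfl))
    have a3 : a 3 = 1 := Subtype.ext (Units.ext (by simpa [a2] using e3 _ rfl))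
    funext i
    fin_cases i <;> assumption
  · rw [quadHom_apply, act_mul, act_mul, act_mul, hh _ _ _ hj, act_smul, hh _ _ _ hj, smul_smul, act_smul,
      hh _ _ _ hj, smul_smul, act_smul, hh _ _ _ hj, smul_smul]
    refine ⟨_, ?_, rfl⟩
    refine mul_ne_zero (mul_ne_zero (mul_ne_zero ?_ ?_) ?_) ?_ <;> split_ifs <;> simp

end CfsgLib.SUMult
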