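import Cfsg.Agent.Lib.SUMult.Three
import Cfsg.Agent.Lib.ChevMult.SplitMult
import Cfsg.Agent.Lib.Phan.Universal
import Cfsg.Agent.Lib.ClassicalGroups.UnitaryGen

/-!
Splitting of central extensions of `SU_n(q)`, `q ≥ 3`, from the blocks on three coordinates.
-/

set_option autoImplicit false
set_option linter.unusedSectionVars false

namespace CfsgLib.SUMult

open Subgroup Cfsg CfsgLib.Phan CfsgLib.ClassicalGroups

universe u

variable {F : Type u} [Field F] [Fintype F] {q n : ℕ}

/-- A homomorphism into a group all of whose finite central extensions split lifts. -/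
theorem exists_lift_of_splits {K E G : Type u} [Group K] [Finite K] [Group E] [Finite E] [Group G]
    (hK : CfsgLib.ChevMult.SplitsAll K) (p : E →* G) (hp : Function.Surjective p)
    (hc : p.ker ≤ center E) (ι : K →* G) : ∃ ψ : K →* E, p.comp ψ = ι := by
  have : Finite ↥(CfsgLib.SchurCover.fibre ι p) := Finite.of_injective _ Subtype.val_injective
  obtain ⟨τ, hτ⟩ := hK _ (⟨CfsgLib.SchurCover.fibreFst ι p, CfsgLib.SchurCover.fibreFst_surjective ι hp,
    CfsgLib.SchurCover.ker_fibreFst_le_center ι hc⟩ : CfsgLib.ChevMult.CExt _ K)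
  refine ⟨(CfsgLib.SchurCover.fibreSnd ι p).comp τ, MonoidHom.ext fun k => ?_⟩
  rw [MonoidHom.comp_apply, MonoidHom.comp_apply, ← CfsgLib.SchurCover.fibre_rel]
  exact congrArg ι (DFunLike.congr_fun hτ k)

/-- What commutes with a perfect image modulo a central kernel commutes with it. -/
theorem commute_of_perfect {K E G : Type*} [Group K] [Group E] [Group G] (hK : Group.IsPerfect K)
    {p : E →* G} (hc : p.ker ≤ center E) (ψ : K →* E) (x : E)
    (h : ∀ k, Commute (p x) (p (ψ k))) (k : K) : Commute x (ψ k) := by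
  have he : p.comp ((MulAut.conj x).toMonoidHom.comp ψ) = p.comp ψ := MonoidHom.ext fun k => by
    simp only [MonoidHom.comp_apply, MulEquiv.coe_toMonoidHom, MulAut.conj_apply, map_mul, map_inv]
    rw [(h k).eq, mul_inv_cancel_right]
  have := DFunLike.congr_fun (CfsgLib.SchurCover.hom_ext_of_perfect hK hc _ _ he) k
  simp only [MonoidHom.comp_apply, MulEquiv.coe_toMonoidHom, MulAut.conj_apply] at this
  exact mul_inv_eq_iff_eq_mul.1 this

/-- Two elements with commuting lifts: any other lift commutes as well. -/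
theorem commute_of_same {E G : Type*} [Group E] [Group G] {p : E →* G} (hc : p.ker ≤ center E)
    {x x' y : E} (hx : p x' = p x) (h : Commute x y) : Commute x' y := by
  rw [← commutatorElement_eq_one_iff_commute] at h ⊢
  rw [CfsgLib.Schur.commutator_congr hc hx (rfl : p y = p y), h]

theorem range_bk {k : ℕ} {j : ℕ} (h : j + k ≤ n) (x : Fin n) :
    x ∉ Set.range (seg j h) ↔ ((x : ℕ) < j ∨ j + k ≤ (x : ℕ)) := by
  rw [mem_range_seg]; omega

/-- Blocks on disjoint coordinates commute. -/
theorem emb_commute {k l : ℕ} {e : Fin k → Fin n} {e' : Fin l → Fin n} (he : Function.Injective e)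
    (he' : Function.Injective e') (hd : ∀ a b, e a ≠ e' b) (g : Cfsg.SU k F q) (g' : Cfsg.SU l F q) :
    Commute (emb e he g) (emb e' he' g') := by
  refine act_ext fun x => funext fun y => ?_
  set v : Fin n → F := Pi.single x 1
  rw [act_mul, act_mul]
  by_cases hy : y ∈ Set.range e
  · obtain ⟨a, rfl⟩ := hy
    have h' : e a ∉ Set.range e' := fun ⟨b, hb⟩ => hd a b hb.symm
    rw [act_emb_mem he, act_emb_not he' g' _ h', act_emb_mem he]
    congr 1
    funext b
    exact act_emb_not he' g' v (fun ⟨c, hc⟩ => hd b c hc.symm)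
  · rw [act_emb_not he g _ hy]
    by_cases hy' : y ∈ Set.range e'
    · obtain ⟨b, rfl⟩ := hy'
      rw [act_emb_mem he', act_emb_mem he']
      congr 1
      funext c
      exact (act_emb_not he g v (fun ⟨a, ha⟩ => hd a c ha)).symm
    · rw [act_emb_not he' g' _ hy', act_emb_not he' g' _ hy', act_emb_not he g _ hy]

theorem exists_triple (i : ℕ) (l : ℕ) (hi : i + 2 ≤ n) (hl : l < n) (h : l < i ∨ i + 2 ≤ l) :
    ∃ t : Fin 3 → Fin n, Function.Injective t ∧ (t 0 : ℕ) = i ∧ (t 1 : ℕ) = i + 1 ∧ (t 2 : ℕ) = l := by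
  refine ⟨![⟨i, by omega⟩, ⟨i + 1, by omega⟩, ⟨l, hl⟩], fun a b hab => ?_, rfl, rfl, rfl⟩
  fin_cases a <;> fin_cases b <;> simp [Fin.ext_iff] at hab <;> first | rfl | omega

/-- The pair block `i, i + 1` inside a triple. -/
theorem bk_eq_emb {i : ℕ} (h : i + 2 ≤ n) {t : Fin 3 → Fin n} (ht : Function.Injective t)
    (h0 : (t 0 : ℕ) = i) (h1 : (t 1 : ℕ) = i + 1) (x : Cfsg.SU 2 F q) :
    bk i h x = emb t ht (b01 x) := by
  rw [b01, bk, bk, emb_comp]
  exact emb_congr _ _ (funext fun a => Fin.ext (by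
    fin_cases a <;> simp [seg, h0, h1])) x

section

variable {E : Type u} [Group E] [Finite E] (hF : Fintype.card F = q ^ 2) (hq : 3 ≤ q)
  (p : E →* Cfsg.SU n F q) (hp : Function.Surjective p) (hc : p.ker ≤ center E)

include hF hq

theorem perfect_three : Group.IsPerfect (Cfsg.SU 3 F q) :=
  (Group.isPerfect_def).2 (SU_perfect hF le_rfl (by omega))

theorem splits_three : CfsgLib.ChevMult.SplitsAll (Cfsg.SU 3 F q) :=
  CfsgLib.ChevMult.splitsAll_of_trivial (SU_perfect hF le_rfl (by omega))
    (hasCyclicSchurMultiplier_su_three hF hq)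

include hp hc

/-- Any lift of an element of a block on `i, i + 1` commutes with the lift of a disjoint triple. -/
theorem commute_pair_triple {i : ℕ} (h : i + 2 ≤ n) {t : Fin 3 → Fin n} (ht : Function.Injective t)
    (hd : ∀ a, (t a : ℕ) < i ∨ i + 2 ≤ (t a : ℕ)) {ψ : Cfsg.SU 3 F q →* E}
    (hψ : p.comp ψ = emb t ht) {x : Cfsg.SU 2 F q} {e : E} (he : p e = bk i h x) (y : Cfsg.SU 3 F q) :
    Commute e (ψ y) := by
  refine commute_of_perfect (perfect_three hF hq) hc ψ e (fun k => ?_) y
  rw [he, show p (ψ k) = emb t ht k from DFunLike.congr_fun hψ k]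
  exact emb_commute _ ht (fun a b hab => by
    have := hd b
    rw [← hab] at this
    simp only [seg] at this
    omega) x k

/-- The system of lifts. -/
theorem exists_sys (hn : 3 ≤ n) (h45 : 4 ≤ q ∨ 5 ≤ n) :
    ∃ S : Phan.Sys F q E n, (∀ i (h : i + 2 ≤ n) x, p (S.φ i x) = bk i h x) ∧
      ∀ i (h : i + 3 ≤ n) x, p (S.ψ i x) = bk i h x := by
  classical
  have hperf := perfect_three hF hq
  have key : ∀ i, ∃ ψ : Cfsg.SU 3 F q →* E, ∀ (h : i + 3 ≤ n) x, p (ψ x) = bk i h x := fun i => by
    by_cases h : i + 3 ≤ n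
    · obtain ⟨ψ, hψ⟩ := exists_lift_of_splits (splits_three hF hq) p hp hc (bk (F := F) (q := q) i h)
      exact ⟨ψ, fun _ x => DFunLike.congr_fun hψ x⟩
    · exact ⟨1, fun h' => absurd h' h⟩
  choose ψ hψ using key
  let φ : ℕ → (Cfsg.SU 2 F q →* E) := fun i =>
    if i + 3 ≤ n then (ψ i).comp b01 else (ψ (i - 1)).comp b12
  have hφ : ∀ i (h : i + 2 ≤ n) x, p (φ i x) = bk i h x := fun i h x => by
    simp only [φ]
    split_ifs with h3
    · rw [MonoidHom.comp_apply, hψ i h3, b01, bk_bk i 0 h3 _ (by omega)]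
      exact bk_congr (by omega) _ _ x
    · have h3' : (i - 1) + 3 ≤ n := by omega
      rw [MonoidHom.comp_apply, hψ (i - 1) h3', b12, bk_bk (i - 1) 1 h3' _ (by omega)]
      exact bk_congr (by omega) _ _ x
  -- consecutive triples agree on their common pair
  have agree : ∀ i, i + 4 ≤ n → ∀ x, ψ i (b12 x) = ψ (i + 1) (b01 x) := by
    intro i hi x
    have him : p (ψ i (b12 x)) = p (ψ (i + 1) (b01 x)) := by
      rw [hψ i (by omega), hψ (i + 1) (by omega), b12, b01, bk_bk i 1 (by omega) _ (by omega),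
        bk_bk (i + 1) 0 (by omega) _ (by omega)]
    by_cases h4 : 4 ≤ q
    · exact DFunLike.congr_fun (CfsgLib.SchurCover.hom_ext_of_perfect
        ((Group.isPerfect_def).2 (commutator_su_two hF h4)) hc ((ψ i).comp b12) ((ψ (i + 1)).comp b01)
        (MonoidHom.ext fun x => by
          simp only [MonoidHom.comp_apply]
          rw [hψ i (by omega), hψ (i + 1) (by omega), b12, b01, bk_bk i 1 (by omega) _ (by omega),
            bk_bk (i + 1) 0 (by omega) _ (by omega)])) x
    have hn5 : 5 ≤ n := h45.resolve_left h4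
    obtain ⟨l, hl, hlout⟩ : ∃ l, l < n ∧ (l < i ∨ i + 4 ≤ l) := by
      by_cases h5 : i + 4 < n
      · exact ⟨i + 4, h5, Or.inr le_rfl⟩
      · exact ⟨0, by omega, Or.inl (by omega)⟩
    -- a triple exchanging the outer coordinates
    let t : Fin 3 → Fin n := ![⟨i, by omega⟩, ⟨i + 3, by omega⟩, ⟨l, hl⟩]
    have ht : Function.Injective t := fun a b hab => by
      fin_cases a <;> fin_cases b <;> simp [t, Fin.ext_iff] at hab <;> first | rfl | omega
    have htd : ∀ a, (t a : ℕ) < i + 1 ∨ i + 1 + 2 ≤ (t a : ℕ) := fun a => by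
      fin_cases a <;> simp [t] <;> omega
    obtain ⟨ψt, hψt⟩ := exists_lift_of_splits (splits_three hF hq) p hp hc (emb (F := F) (q := q) t ht)
    obtain ⟨w₀, hw₀⟩ : ∃ w : Cfsg.SU 3 F q, ∀ u, act w u = ![-u 1, u 0, u 2] := by
      let m : Matrix.SpecialLinearGroup (Fin 3) F :=
        ⟨!![0, -1, 0; 1, 0, 0; 0, 0, 1], by simp [Matrix.det_fin_three]⟩
      refine ⟨⟨m, mem_SU_iff.2 fun u w => ?_⟩, fun u => ?_⟩
      · simp [m, Cfsg.hermForm, Matrix.mulVec, dotProduct, Fin.sum_univ_three, herm_conj_neg hF]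
        ring
      · funext k
        fin_cases k <;> simp [m, act, Matrix.mulVec, dotProduct, Fin.sum_univ_three]
    set W := ψt w₀ with hW
    have hpW : p W = emb t ht w₀ := DFunLike.congr_fun hψt w₀
    -- the moved block lies in the next one
    have hmem : ∀ g : Cfsg.SU 3 F q, p W * bk i (show i + 3 ≤ n by omega) g * (p W)⁻¹ ∈
        (bk (F := F) (q := q) (i + 1) (show i + 1 + 3 ≤ n by omega)).range := by
      intro g
      obtain ⟨g', hg'⟩ := exists_bk (k := 3) hF (show i + 1 + 3 ≤ n by omega)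
        (s := p W * bk i (show i + 3 ≤ n by omega) g * (p W)⁻¹) (fun j hj hout => by
          rw [act_mul, act_mul]
          -- the inverse image of the basis vector
          have hfix : ∀ v : Fin n → F, act (p W)⁻¹ (bv n F j) = v →
              act (bk i (show i + 3 ≤ n by omega) g) v = v →
              act (p W) (act (bk i (show i + 3 ≤ n by omega) g) (act (p W)⁻¹ (bv n F j))) = bv n F j := by
            intro v h1 h2
            rw [h1, h2, ← h1, act_act_inv]
          by_cases hji : j = i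
          · subst hji
            have hv : act (bk j (show j + 3 ≤ n by omega) g) (-bv n F (j + 3)) = -bv n F (j + 3) := by
              rw [act_neg, act_bk_bv_out _ g (Or.inr le_rfl) (by omega)]
            refine hfix (-bv n F (j + 3)) (act_inv_eq ?_) hv
            rw [hpW]
            funext y
            by_cases hy : y ∈ Set.range t
            · obtain ⟨a, rfl⟩ := hy
              rw [act_emb_mem ht, hw₀]
              fin_cases a <;> simp [t, bv, show l ≠ j + 3 by omega, show l ≠ j by omega]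
            · rw [act_emb_not ht _ _ hy]
              have h1 : (y : ℕ) ≠ j := fun e => hy ⟨0, Fin.ext e.symm⟩
              have h2 : (y : ℕ) ≠ j + 3 := fun e => hy ⟨1, Fin.ext e.symm⟩
              simp [bv, h1, h2]
          · refine hfix (bv n F j) (act_inv_eq ?_) (act_bk_bv_out _ g (by omega) hj)
            rw [hpW]
            refine act_emb_fix ht _ ?_
            rw [hw₀]
            funext a
            fin_cases a <;> simp [t, bv, show i + 3 ≠ j by omega, show i ≠ j by omega])
      exact ⟨g', hg'⟩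
    let α : Cfsg.SU 3 F q →* Cfsg.SU 3 F q :=
      (MonoidHom.ofInjective (bk_injective (F := F) (q := q) (i + 1) (show i + 1 + 3 ≤ n by omega))).symm.toMonoidHom.comp
        (((MulAut.conj (p W)).toMonoidHom.comp (bk (F := F) (q := q) i (show i + 3 ≤ n by omega))).codRestrict _ hmem)
    have hα : ∀ g, bk (i + 1) (show i + 1 + 3 ≤ n by omega) (α g) =
        p W * bk i (show i + 3 ≤ n by omega) g * (p W)⁻¹ := fun g =>
      congrArg Subtype.val ((MonoidHom.ofInjective (bk_injective (F := F) (q := q) (i + 1)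
        (show i + 1 + 3 ≤ n by omega))).apply_symm_apply ⟨_, hmem g⟩)
    have heq : (MulAut.conj W).toMonoidHom.comp (ψ i) = (ψ (i + 1)).comp α :=
      CfsgLib.SchurCover.hom_ext_of_perfect hperf hc _ _ (MonoidHom.ext fun g => by
        simp only [MonoidHom.comp_apply, MulEquiv.coe_toMonoidHom, MulAut.conj_apply, map_mul, map_inv]
        rw [hψ i (by omega), hψ (i + 1) (by omega), hα])
    have hWc : ∀ e : E, p e = bk (i + 1) (show i + 1 + 2 ≤ n by omega) x → Commute e W := fun e he =>
      commute_pair_triple hF hq p hp hc _ ht htd hψt he w₀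
    have hpe : p (ψ i (b12 x)) = bk (i + 1) (show i + 1 + 2 ≤ n by omega) x := by
      rw [him, hψ (i + 1) (by omega), b01, bk_bk (i + 1) 0 (by omega) _ (by omega)]
    have hαx : α (b12 x) = b01 x := by
      refine bk_injective (i + 1) (show i + 1 + 3 ≤ n by omega) ?_
      rw [hα, ← hψ i (by omega), ← map_inv, ← map_mul, ← map_mul, ← (hWc _ hpe).eq, mul_inv_cancel_right,
        hpe, b01, bk_bk (i + 1) 0 (by omega) _ (by omega)]
    have := DFunLike.congr_fun heq (b12 x)
    simp only [MonoidHom.comp_apply, MulEquiv.coe_toMonoidHom, MulAut.conj_apply] at this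
    rw [hαx, ← (hWc _ hpe).eq, mul_inv_cancel_right] at this
    exact this
  refine ⟨{ φ := φ, ψ := ψ, c01 := fun i h x => ?_, c12 := fun i h x => ?_, comm := ?_ }, hφ, hψ⟩
  · simp only [φ, if_pos h, MonoidHom.comp_apply]
  · simp only [φ]
    split_ifs with h3
    · rw [MonoidHom.comp_apply]; exact agree i (by omega) x
    · rw [MonoidHom.comp_apply, Nat.add_sub_cancel]
  · intro i j hij hj x y
    by_cases h4 : 4 ≤ q
    · refine commute_of_perfect ((Group.isPerfect_def).2 (commutator_su_two hF h4)) hc (φ j) (φ i x)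
        (fun k => ?_) y
      rw [hφ i (by omega), hφ j hj]
      exact bk_commute _ _ hij x k
    have hn5 : 5 ≤ n := h45.resolve_left h4
    obtain ⟨l, hl, hlij⟩ : ∃ l, l < n ∧ (l < i ∨ i + 2 ≤ l) ∧ (l < j ∨ j + 2 ≤ l) := by
      rcases Nat.eq_zero_or_pos i with rfl | hi
      · rcases (show j = 2 ∨ 3 ≤ j by omega) with rfl | h3
        · exact ⟨4, by omega, by omega⟩
        · exact ⟨2, by omega, by omega⟩
      · exact ⟨0, by omega, by omega⟩
    obtain ⟨t, ht, ht0, ht1, ht2⟩ := exists_triple i l (show i + 2 ≤ n by omega) hl hlij.1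
    obtain ⟨ψt, hψt⟩ := exists_lift_of_splits (splits_three hF hq) p hp hc (emb (F := F) (q := q) t ht)
    have hc' : Commute (φ j y) (ψt (b01 x)) := commute_pair_triple hF hq p hp hc hj ht (fun a => by
      fin_cases a <;> simp only [Fin.zero_eta, Fin.mk_one, Fin.reduceFinMk] <;> omega) hψt (hφ j hj y) _
    refine commute_of_same hc ?_ hc'.symm
    rw [hφ i (by omega), show p (ψt (b01 x)) = emb t ht (b01 x) from DFunLike.congr_fun hψt _,
      bk_eq_emb (by omega) ht ht0 ht1]

/-- A section from a system. -/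
theorem exists_section (hn : 3 ≤ n) (h45 : 4 ≤ q ∨ 5 ≤ n)
    (h4 : q = 3 → ∀ i (h : i + 4 ≤ n), ∃ f : Cfsg.SU 4 F q →* E, ∀ g, p (f g) = bk i h g) :
    ∃ τ : Cfsg.SU n F q →* E, p.comp τ = MonoidHom.id (Cfsg.SU n F q) := by
  obtain ⟨S, hφ, hψ⟩ := exists_sys hF hq p hp hc hn h45
  have h4' : 4 ≤ q ∨ ∀ i, i + 4 ≤ n →
      ∃ f : Cfsg.SU 4 F q →* E, ∀ k (h : k + 2 ≤ 4) x, f (bk k h x) = S.φ (i + k) x := by
    by_cases hq4 : 4 ≤ q
    · exact Or.inl hq4
    refine Or.inr fun i hi => ?_
    obtain ⟨f, hf⟩ := h4 (by omega) i hi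
    have hperf := perfect_three (F := F) hF hq
    have hf0 : f.comp (bk 0 (show 0 + 3 ≤ 4 by omega)) = S.ψ i :=
      CfsgLib.SchurCover.hom_ext_of_perfect hperf hc _ _ (MonoidHom.ext fun g => by
        simp only [MonoidHom.comp_apply]
        rw [hf, hψ i (by omega), bk_bk i 0 hi _ (by omega)]
        exact bk_congr (by omega) _ _ g)
    have hf1 : f.comp (bk 1 (show 1 + 3 ≤ 4 by omega)) = S.ψ (i + 1) :=
      CfsgLib.SchurCover.hom_ext_of_perfect hperf hc _ _ (MonoidHom.ext fun g => by
        simp only [MonoidHom.comp_apply]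
        rw [hf, hψ (i + 1) (by omega), bk_bk i 1 hi _ (by omega)])
    refine ⟨f, fun k hk x => ?_⟩
    rcases (show k = 0 ∨ k = 1 ∨ k = 2 by omega) with rfl | rfl | rfl
    · rw [show bk (F := F) (q := q) 0 hk x = bk 0 (show 0 + 3 ≤ 4 by omega) (b01 x) from
        (bk_bk 0 0 _ _ (by omega) x).symm]
      exact (DFunLike.congr_fun hf0 (b01 x)).trans (S.c01 i (by omega) x)
    · rw [show bk (F := F) (q := q) 1 hk x = bk 0 (show 0 + 3 ≤ 4 by omega) (b12 x) from
        (bk_bk 0 1 _ _ (by omega) x).symm]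
      exact (DFunLike.congr_fun hf0 (b12 x)).trans (S.c12 i (by omega) x)
    · rw [show bk (F := F) (q := q) 2 hk x = bk 1 (show 1 + 3 ≤ 4 by omega) (b12 x) from
        (bk_bk 1 1 _ _ (by omega) x).symm]
      exact (DFunLike.congr_fun hf1 (b12 x)).trans (S.c12 (i + 1) (by omega) x)
  obtain ⟨f, hf⟩ := exists_hom hF hq n (by omega) S h4'
  refine ⟨f, MonoidHom.ext fun s => ?_⟩
  have h := closure_blocks hF hq n (by omega) ((p.comp f).eqLocus (MonoidHom.id _)) fun i hi g => by
    show p (f (bk i hi g)) = bk i hi g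
    rw [hf, hφ i hi]
  have : s ∈ (p.comp f).eqLocus (MonoidHom.id _) := by rw [h]; trivial
  exact this

end

/-- All finite central extensions of `SU_n(q)` split, `q ≥ 4`. -/
theorem splitsAll_su_of_four_le (hF : Fintype.card F = q ^ 2) (hq : 4 ≤ q) (hn : 3 ≤ n) :
    CfsgLib.ChevMult.SplitsAll (Cfsg.SU n F q) := fun E _ _ P =>
  exists_section hF (by omega) P.p P.surj P.central hn (Or.inl hq) fun h => absurd h (by omega)

end CfsgLib.SUMult
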