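import Cfsg.Agent.Lib.SUMult.FiveMonoTwo
import Cfsg.Agent.Lib.SUMult.Glue
import Mathlib.GroupTheory.Perm.Sign

/-!
The monomial subgroup of `SU₅(3)` lifts faithfully, so there is no multiplier at two.
-/

set_option autoImplicit false
set_option linter.unusedSectionVars false

namespace CfsgLib.SUMult

open Subgroup Cfsg CfsgLib.Schur CfsgLib.Phan CfsgLib.ClassicalGroups
open scoped commutatorElement Pointwise

universe u

variable {F : Type u} [Field F] [Fintype F] {q : ℕ}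

section mono

variable {Γ : Type*} [Group Γ]

/-- The monomial subgroup attached to four maps of `SU₂`. -/
def monoSub (hF : Fintype.card F = q ^ 2) (δ : normOne F q →* Cfsg.SU 2 F q)
    (φ : Fin 4 → (Cfsg.SU 2 F q →* Γ)) : Subgroup Γ :=
  closure {y | ∃ i, (∃ x, y = φ i (δ x)) ∨ y = φ i (weylTwo hF)}

theorem monoSub_map {G : Type*} [Group G] (hF : Fintype.card F = q ^ 2) (δ : normOne F q →* Cfsg.SU 2 F q)
    (φ : Fin 4 → (Cfsg.SU 2 F q →* Γ)) (σ : Γ →* G) :
    (monoSub hF δ φ).map σ = monoSub hF δ fun i => σ.comp (φ i) := by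
  rw [monoSub, monoSub, MonoidHom.map_closure]
  congr 1
  ext y
  simp only [Set.mem_image, Set.mem_ofPred_eq, MonoidHom.comp_apply]
  constructor
  · rintro ⟨_, ⟨i, ⟨x, rfl⟩ | rfl⟩, rfl⟩
    exacts [⟨i, Or.inl ⟨x, rfl⟩⟩, ⟨i, Or.inr rfl⟩]
  · rintro ⟨i, ⟨x, rfl⟩ | rfl⟩
    exacts [⟨_, ⟨i, Or.inl ⟨x, rfl⟩⟩, rfl⟩, ⟨_, ⟨i, Or.inr rfl⟩, rfl⟩]

theorem card_monoSub_le (hF : Fintype.card F = q ^ 2) {δ : normOne F q →* Cfsg.SU 2 F q}
    (hδ : ∀ x, (δ x).1.1 = !![((x : Fˣ) : F), 0; 0, (((x⁻¹ : normOne F q) : Fˣ) : F)])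
    (m : normOne F q) (hm : ((m : Fˣ) : F) = -1) (S : Phan.Sys F q Γ 5) :
    Finite (monoSub hF δ fun i => S.φ i) ∧
      Nat.card (monoSub hF δ fun i => S.φ i) ≤ 120 * Nat.card (normOne F q) ^ 4 := by
  classical
  let t : Fin 4 → (normOne F q →* Γ) := fun i => (S.φ i).comp δ
  let W : ℕ → Γ := fun i => S.φ i (weylTwo hF)
  have ht : ∀ i x, t i x = S.φ i (δ x) := fun i x => rfl
  have hadj : ∀ i, i + 3 ≤ 5 → ∀ x y, Commute (S.φ i (δ x)) (S.φ (i + 1) (δ y)) := fun i hi x y => by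
    rw [← S.c01 i hi, ← S.c12 i hi]
    exact (diag_comm hδ x y).map _
  have hself : ∀ i x, W i * S.φ i (δ x) * (W i)⁻¹ = S.φ i (δ x⁻¹) := fun i x => by
    simp only [W]
    rw [← map_inv (S.φ i), ← map_mul, ← map_mul, weyl_conj_diag hF hδ]
  have hnext : ∀ i, i + 3 ≤ 5 → ∀ x, W i * S.φ (i + 1) (δ x) * (W i)⁻¹ =
      S.φ i (δ x) * S.φ (i + 1) (δ x) := fun i hi x => by
    simp only [W]
    rw [← S.c01 i hi, ← S.c01 i hi, ← S.c12 i hi, ← map_inv (S.ψ i), ← map_mul, ← map_mul, ← map_mul,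
      left_conj_diag hF hδ]
  have hprev : ∀ i, i + 3 ≤ 5 → ∀ x, W (i + 1) * S.φ i (δ x) * (W (i + 1))⁻¹ =
      S.φ i (δ x) * S.φ (i + 1) (δ x) := fun i hi x => by
    simp only [W]
    rw [← S.c01 i hi, ← S.c12 i hi, ← S.c12 i hi, ← map_inv (S.ψ i), ← map_mul, ← map_mul, ← map_mul,
      right_conj_diag hF hδ]
  have hc : ∀ i j x y, Commute (t i x) (t j y) := by
    have key : ∀ i j : Fin 4, (i : ℕ) < j → ∀ x y, Commute (t i x) (t j y) := fun i j hij x y => by
      rw [ht, ht]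
      by_cases hn : (j : ℕ) = i + 1
      · rw [hn]; exact hadj i (by omega) x y
      · exact S.comm i j (by omega) (by omega) _ _
    intro i j x y
    rcases lt_trichotomy (i : ℕ) j with h | h | h
    · exact key i j h x y
    · rw [Fin.ext h]; exact (Commute.all x y).map _
    · exact (key j i h y x).symm
  set A := (quadHom t hc).range with hA
  have hmem : ∀ i (hi : i < 4) x, S.φ i (δ x) ∈ A := fun i hi x => mem_range_quadHom t hc ⟨i, hi⟩ x
  have hgen : ∀ i, i < 4 → ∀ j : Fin 4, ∀ x, W i * t j x * (W i)⁻¹ ∈ A := fun i hi j x => by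
    rw [ht]
    rcases (show (j : ℕ) = i ∨ (j : ℕ) = i + 1 ∨ i = (j : ℕ) + 1 ∨ i + 2 ≤ j ∨ (j : ℕ) + 2 ≤ i by omega)
      with h | h | h | h | h
    · rw [h, hself]; exact hmem i hi _
    · rw [h, hnext i (by omega)]; exact mul_mem (hmem _ hi _) (hmem _ (by omega) _)
    · rw [h, hprev j (by omega)]; exact mul_mem (hmem _ (by omega) _) (hmem _ (by omega) _)
    · rw [(S.comm i j h (by omega) _ _).eq, mul_inv_cancel_right]; exact hmem _ j.2 _
    · rw [← (S.comm j i h (by omega) _ _).eq, mul_inv_cancel_right]; exact hmem _ j.2 _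
  have hWA : ∀ i, i < 4 → W i ∈ normalizer (A : Set Γ) := fun i hi => by
    have hle : ∀ a ∈ A, W i * a * (W i)⁻¹ ∈ A := by
      rintro _ ⟨a, rfl⟩
      rw [quadHom_apply, show ∀ u s t r v : Γ, u * (s * t * (r * v)) * u⁻¹ =
        (u * s * u⁻¹) * (u * t * u⁻¹) * ((u * r * u⁻¹) * (u * v * u⁻¹)) from fun u s t r v => by group]
      exact mul_mem (mul_mem (hgen i hi _ _) (hgen i hi _ _)) (mul_mem (hgen i hi _ _) (hgen i hi _ _))
    rw [mem_normalizer_iff]
    refine fun g => ⟨hle g, fun hg => ?_⟩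
    -- the square of the conjugation is conjugation by an element of `A`
    have h2 : W i * W i = S.φ i (δ m) := by
      simp only [W]
      rw [← map_mul, weyl_sq hF hδ m hm]
    have h3 : W i * (W i * g * (W i)⁻¹) * (W i)⁻¹ = S.φ i (δ m) * g * (S.φ i (δ m))⁻¹ := by
      rw [← h2]; group
    have h4 := hle _ hg
    rw [h3] at h4
    have h5 := mul_mem (mul_mem (inv_mem (hmem i hi m)) h4) (hmem i hi m)
    rwa [show (S.φ i (δ m))⁻¹ * (S.φ i (δ m) * g * (S.φ i (δ m))⁻¹) * S.φ i (δ m) = g by group] at h5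
  set M := monoSub hF δ fun i : Fin 4 => S.φ i with hM
  have hAM : A ≤ M := by
    rintro _ ⟨a, rfl⟩
    rw [quadHom_apply]
    have hm' : ∀ j x, t j x ∈ M := fun j x => Subgroup.subset_closure ⟨j, Or.inl ⟨x, rfl⟩⟩
    exact mul_mem (mul_mem (hm' _ _) (hm' _ _)) (mul_mem (hm' _ _) (hm' _ _))
  have hWM : ∀ i, i < 4 → W i ∈ M := fun i hi => Subgroup.subset_closure ⟨⟨i, hi⟩, Or.inr rfl⟩
  have hMN : M ≤ normalizer (A : Set Γ) := by
    rw [hM, monoSub, closure_le]
    rintro y ⟨i, ⟨x, rfl⟩ | rfl⟩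
    · exact le_normalizer (hmem i i.2 x)
    · exact hWA i i.2
  let A' := A.subgroupOf M
  have : A'.Normal := ⟨fun a ha g => mem_subgroupOf.2 ((mem_normalizer_iff.1 (hMN g.2) _).1 (mem_subgroupOf.1 ha))⟩
  let π := QuotientGroup.mk' A'
  let s : ℕ → M ⧸ A' := fun i => if h : i < 4 then π ⟨W i, hWM i h⟩ else 1
  have hs : ∀ i (h : i < 4), s i = π ⟨W i, hWM i h⟩ := fun i h => dif_pos h
  have hsq : ∀ i, i < 4 → s i * s i = 1 := fun i hi => by
    rw [hs i hi, ← map_mul]
    refine (QuotientGroup.eq_one_iff _).2 (mem_subgroupOf.2 ?_)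
    show W i * W i ∈ A
    simp only [W]
    rw [← map_mul, weyl_sq hF hδ m hm]
    exact hmem i hi m
  have hfar : ∀ i j, i + 2 ≤ j → j < 4 → Commute (s i) (s j) := fun i j hij hj => by
    rw [hs i (by omega), hs j hj]
    exact Commute.map (Subtype.ext (S.comm i j hij (by omega) _ _).eq) π
  have hbr : ∀ i, i + 1 < 4 → s i * s (i + 1) * s i = s (i + 1) * s i * s (i + 1) := fun i hi => by
    rw [hs i (by omega), hs (i + 1) hi, ← map_mul, ← map_mul, ← map_mul, ← map_mul]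
    refine congrArg π (Subtype.ext ?_)
    show W i * W (i + 1) * W i = W (i + 1) * W i * W (i + 1)
    simp only [W]
    rw [← S.c01 i (by omega), ← S.c12 i (by omega), ← map_mul, ← map_mul, ← map_mul, ← map_mul,
      weyl_braid hF]
  obtain ⟨hfin, hle⟩ := card_firstGen_le hsq hfar hbr 4 le_rfl
  have htop : firstGen s 4 = ⊤ := by
    rw [eq_top_iff]
    have hsub : M ≤ ((firstGen s 4).comap π).map M.subtype := by
      conv_lhs => rw [hM, monoSub]
      rw [closure_le]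
      rintro y ⟨i, ⟨x, rfl⟩ | rfl⟩
      · refine ⟨⟨_, hAM (hmem i i.2 x)⟩, ?_, rfl⟩
        show π _ ∈ firstGen s 4
        rw [show π ⟨_, hAM (hmem i i.2 x)⟩ = 1 from
          (QuotientGroup.eq_one_iff _).2 (mem_subgroupOf.2 (hmem i i.2 x))]
        exact one_mem _
      · refine ⟨⟨_, hWM i i.2⟩, ?_, rfl⟩
        show π _ ∈ firstGen s 4
        rw [← hs i i.2]
        exact mem_firstGen s i.2
    intro y _
    obtain ⟨⟨y, hy⟩, rfl⟩ := QuotientGroup.mk'_surjective A' y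
    obtain ⟨⟨y', hy'⟩, h, rfl⟩ := hsub hy
    exact h
  rw [htop] at hfin hle
  have hfinQ : Finite (M ⧸ A') := Finite.of_equiv _ Subgroup.topEquiv.toEquiv
  rw [Nat.card_congr Subgroup.topEquiv.toEquiv] at hle
  have hA'fin : Finite A' := by
    have : Finite A := Finite.of_surjective _ (quadHom t hc).rangeRestrict_surjective
    exact Finite.of_equiv _ (subgroupOfEquivOfLe hAM).symm.toEquiv
  have hfinM : Finite M := Finite.of_equiv _ (groupEquivQuotientProdSubgroup (s := A')).symm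
  refine ⟨hfinM, ?_⟩
  rw [Subgroup.card_eq_card_quotient_mul_card_subgroup A', Nat.card_congr (subgroupOfEquivOfLe hAM).toEquiv]
  refine Nat.mul_le_mul hle ?_
  refine (Nat.card_le_card_of_surjective _ (quadHom t hc).rangeRestrict_surjective).trans ?_
  rw [Nat.card_fun, Nat.card_eq_fintype_card (α := Fin 4), Fintype.card_fin]

/-- The monomial subgroup of `SU₅(q)` is at least as large as expected. -/
theorem le_card_monoSub (hF : Fintype.card F = q ^ 2) {δ : normOne F q →* Cfsg.SU 2 F q}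
    (hδ : ∀ x, (δ x).1.1 = !![((x : Fˣ) : F), 0; 0, (((x⁻¹ : normOne F q) : Fˣ) : F)]) :
    120 * Nat.card (normOne F q) ^ 4 ≤
      Nat.card (monoSub hF δ fun i : Fin 4 => bk (F := F) (q := q) (i : ℕ) (show (i : ℕ) + 2 ≤ 5 by omega)) := by
  classical
  obtain ⟨d, hdinj, hd, hdact⟩ := exists_torus hF hδ
  set M := monoSub hF δ fun i : Fin 4 => bk (F := F) (q := q) (i : ℕ) (show (i : ℕ) + 2 ≤ 5 by omega) with hM
  have hdM : ∀ a, d a ∈ M := fun a => by
    have hm' : ∀ (i : ℕ) (h : i < 4) x, bk i (show i + 2 ≤ 5 by omega) (δ x) ∈ M := fun i h x =>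
      Subgroup.subset_closure ⟨⟨i, h⟩, Or.inl ⟨x, rfl⟩⟩
    rw [hd]
    exact mul_mem (mul_mem (hm' 0 (by omega) _) (hm' 1 (by omega) _))
      (mul_mem (hm' 2 (by omega) _) (hm' 3 (by omega) _))
  have hperm : ∀ π : Equiv.Perm (Fin 5), ∃ g ∈ M, ∀ j : Fin 5, ∃ r : F, r ≠ 0 ∧
      act g (bv 5 F j) = r • bv 5 F (π j) := by
    let P : Submonoid (Equiv.Perm (Fin 5)) :=
      { carrier := {π | ∃ g ∈ M, ∀ j : Fin 5, ∃ r : F, r ≠ 0 ∧ act g (bv 5 F j) = r • bv 5 F (π j)}
        one_mem' := ⟨1, one_mem M, fun j => ⟨1, one_ne_zero, by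
          rw [one_smul, act, show ((1 : Cfsg.SU 5 F q)).1.1 = 1 from rfl, Matrix.one_mulVec]; rfl⟩⟩
        mul_mem' := by
          rintro π π' ⟨g, hg, h⟩ ⟨g', hg', h'⟩
          refine ⟨g * g', mul_mem hg hg', fun j => ?_⟩
          obtain ⟨r', hr', e'⟩ := h' j
          obtain ⟨r, hr, e⟩ := h (π' j)
          exact ⟨r' * r, mul_ne_zero hr' hr, by rw [act_mul, e', act_smul, e, smul_smul]; rfl⟩ }
    have htop : P = ⊤ := by
      rw [eq_top_iff, ← Equiv.Perm.mclosure_swap_castSucc_succ 4, Submonoid.closure_le]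
      rintro _ ⟨i, rfl⟩
      obtain ⟨e1, e2⟩ := act_bk5_weyl hF (i : ℕ) (show (i : ℕ) + 2 ≤ 5 by omega)
      refine ⟨bk (i : ℕ) (show (i : ℕ) + 2 ≤ 5 by omega) (weylTwo hF),
        Subgroup.subset_closure ⟨i, Or.inr rfl⟩, fun j => ?_⟩
      rcases eq_or_ne j i.castSucc with rfl | h1
      · exact ⟨1, one_ne_zero, by rw [one_smul, Equiv.swap_apply_left]; simpa using e1⟩
      rcases eq_or_ne j i.succ with rfl | h2
      · exact ⟨-1, by simp, by rw [neg_one_smul, Equiv.swap_apply_right]; simpa using e2⟩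
      refine ⟨1, one_ne_zero, ?_⟩
      rw [one_smul, Equiv.swap_apply_of_ne_of_ne h1 h2]
      refine act_bk_bv_out _ _ ?_ j.2
      have h1' : (j : ℕ) ≠ i := fun e => h1 (Fin.ext (by simpa using e))
      have h2' : (j : ℕ) ≠ i + 1 := fun e => h2 (Fin.ext (by simpa using e))
      omega
    intro π
    have : π ∈ P := by rw [htop]; trivial
    exact this
  choose g hgM hg using hperm
  let f : Equiv.Perm (Fin 5) × (Fin 4 → normOne F q) → M := fun p => ⟨g p.1 * d p.2, mul_mem (hgM _) (hdM _)⟩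
  have hf : Function.Injective f := by
    rintro ⟨π, a⟩ ⟨π', a'⟩ h
    have h' : g π * d a = g π' * d a' := congrArg Subtype.val h
    have hππ : π = π' := Equiv.ext fun j => by
      obtain ⟨c, hc, ec⟩ := hdact a j j.2
      obtain ⟨c', hc', ec'⟩ := hdact a' j j.2
      obtain ⟨r, hr, er⟩ := hg π j
      obtain ⟨r', hr', er'⟩ := hg π' j
      have h1 : act (g π * d a) (bv 5 F j) = (c * r) • bv 5 F (π j) := by
        rw [act_mul, ec, act_smul, er, smul_smul]
      rw [h', act_mul, ec', act_smul, er', smul_smul] at h1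
      by_contra hne
      have h2 := congrFun h1 (π j)
      simp [bv, Fin.val_inj, hne, hc, hr] at h2
    subst hππ
    rw [hdinj (mul_left_cancel h')]
  have hle := Nat.card_le_card_of_injective f hf
  rw [Nat.card_prod, Nat.card_perm, Nat.card_fun, Nat.card_eq_fintype_card (α := Fin 4), Fintype.card_fin,
    Nat.card_eq_fintype_card (α := Fin 5), Fintype.card_fin] at hle
  exact hle

end mono

/-- `SU₅(3)` has no multiplier at two. -/
theorem noMultiplierAt_su_five_three_two (hF : Fintype.card F = 3 ^ 2) :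
    haveI : Fact (Nat.Prime 2) := ⟨Nat.prime_two⟩
    NoMultiplierAt 2 (Cfsg.SU 5 F 3) := by
  classical
  have hp2 : Fact (Nat.Prime 2) := ⟨Nat.prime_two⟩
  obtain ⟨δ, hδ⟩ := exists_diag_two hF
  obtain ⟨m, hm⟩ : ∃ m : normOne F 3, ((m : Fˣ) : F) = -1 :=
    ⟨⟨-1, by show (-1 : Fˣ) ^ (3 + 1) = 1; norm_num⟩, by simp⟩
  have hK : Nat.card (normOne F 3) = 4 := by
    rw [normOne, IsCyclic.card_powMonoidHom_ker, Nat.card_units, Nat.card_eq_fintype_card, hF]
    norm_num
  let bks : Fin 4 → (Cfsg.SU 2 F 3 →* Cfsg.SU 5 F 3) := fun i => bk (i : ℕ) (show (i : ℕ) + 2 ≤ 5 by omega)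
  set M := monoSub hF δ bks with hM
  have hlow : 30720 ≤ Nat.card M := by
    have := le_card_monoSub hF hδ
    rw [hK] at this
    exact this
  -- the image of a lifted monomial group
  have himage : ∀ {E : Type u} [Group E] (p : E →* Cfsg.SU 5 F 3) (S : Phan.Sys F 3 E 5),
      (∀ i (h : i + 2 ≤ 5) x, p (S.φ i x) = bk i h x) →
      (monoSub hF δ fun i : Fin 4 => S.φ i).map p = M := fun {E} _ p S hS => by
    rw [monoSub_map, hM]
    congr 1
    funext i
    exact MonoidHom.ext fun x => hS _ _ x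
  have hMcard : Nat.card M = 30720 := by
    obtain ⟨S, hS, -⟩ := exists_sys hF (le_refl 3) (MonoidHom.id (Cfsg.SU 5 F 3)) Function.surjective_id
      (fun x hx => by rw [MonoidHom.mem_ker, MonoidHom.id_apply] at hx; rw [hx]; exact one_mem _)
      (by omega : 3 ≤ 5) (Or.inr le_rfl)
    obtain ⟨-, hle⟩ := card_monoSub_le hF hδ m hm S
    rw [hK] at hle
    refine le_antisymm ?_ hlow
    rw [← himage (MonoidHom.id _) S hS, Subgroup.map_id]
    exact hle
  obtain ⟨Q⟩ : Nonempty (Sylow 2 M) := inferInstance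
  have hfac : (Nat.card (Cfsg.SU 5 F 3)).factorization 2 = 11 ∧ (30720 : ℕ).factorization 2 = 11 := by
    rw [card_su_five_three hF, show 3 ^ 10 * 4372480 = 2 ^ 11 * (3 ^ 10 * 2135) by norm_num,
      show (30720 : ℕ) = 2 ^ 11 * 15 by norm_num]
    constructor <;>
    rw [Nat.factorization_mul (by norm_num) (by norm_num), Finsupp.add_apply,
      Nat.Prime.factorization_pow Nat.prime_two, Finsupp.single_eq_same,
      Nat.factorization_eq_zero_of_not_dvd (by norm_num), add_zero]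
  let S0 : Subgroup (Cfsg.SU 5 F 3) := (Q : Subgroup M).map M.subtype
  have hcard : Nat.card S0 = 2 ^ (Nat.card (Cfsg.SU 5 F 3)).factorization 2 := by
    rw [card_map_of_injective (subtype_injective _), Sylow.card_eq_multiplicity Q, hMcard, hfac.1, hfac.2]
  refine noMultiplierAt_of_derived (Sylow.ofCard S0 hcard) fun Γ _ _ σ hσ P hP z hz hzP _ => ?_
  obtain ⟨S, hS, -⟩ := exists_sys hF (le_refl 3) σ hσ.1 hσ.2.1 (by omega : 3 ≤ 5) (Or.inr le_rfl)
  set M' := monoSub hF δ fun i : Fin 4 => S.φ i with hM'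
  obtain ⟨hfin, hle⟩ := card_monoSub_le hF hδ m hm S
  rw [hK] at hle
  have hmap : M'.map σ = M := himage σ S hS
  have hinj : ∀ x ∈ M', σ x = 1 → x = 1 := by
    let f : M' → M := fun x => ⟨σ x, hmap ▸ mem_map_of_mem σ x.2⟩
    have hsurj : Function.Surjective f := fun y => by
      obtain ⟨x, hx, hxy⟩ := (show (y : Cfsg.SU 5 F 3) ∈ M'.map σ by rw [hmap]; exact y.2)
      exact ⟨⟨x, hx⟩, Subtype.ext hxy⟩
    have hbij : Function.Bijective f := (Nat.bijective_iff_surjective_and_card f).2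
      ⟨hsurj, le_antisymm (hle.trans hMcard.ge) (Nat.card_le_card_of_surjective f hsurj)⟩
    intro x hx h1
    exact congrArg Subtype.val (hbij.1 (show f ⟨x, hx⟩ = f ⟨1, one_mem _⟩ from Subtype.ext (by
      show σ x = σ 1
      rw [h1, map_one])))
  have hdec : ∀ x ∈ P, ∃ y ∈ M', σ x = σ y := fun x hx => by
    have hx' : σ x ∈ M := by
      have := mem_map_of_mem σ hx
      rw [hP] at this
      exact map_subtype_le _ this
    rw [← hmap] at hx'
    obtain ⟨y, hy, hxy⟩ := hx'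
    exact ⟨y, hy, hxy.symm⟩
  have hder : ⁅P, P⁆ ≤ M' := by
    rw [commutator_le]
    intro a ha b hb
    obtain ⟨a', ha', hae⟩ := hdec a ha
    obtain ⟨b', hb', hbe⟩ := hdec b hb
    rw [commutator_congr hσ.2.1 hae hbe, commutatorElement_def]
    exact mul_mem (mul_mem (mul_mem ha' hb') (inv_mem ha')) (inv_mem hb')
  exact hinj z (hder hzP) hz

end CfsgLib.SUMult
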