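import Cfsg.Agent.Lib.SUMult.FiveMono
import Cfsg.Agent.Lib.PGroup.Class2
import Cfsg.Agent.Lib.Schur.CriteriaElements

/-!
`SU₅(2)` has no multiplier at three.
-/

set_option autoImplicit false
set_option linter.unusedSectionVars false

namespace CfsgLib.SUMult

open Subgroup Cfsg CfsgLib.Schur CfsgLib.Phan CfsgLib.ClassicalGroups
open scoped commutatorElement Pointwise

universe u

/-- Lifts of commuting elements commute if some lift inverts the first one, of odd order, and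
fixes the second. -/
theorem lifts_commute_of_fixed {Γ G : Type*} [Group Γ] [Group G] (σ : Γ →* G) (hc : σ.ker ≤ center Γ)
    (U V S : Γ) {N : ℕ} (hN : Odd N) (huN : σ U ^ N = 1) (huv : Commute (σ U) (σ V))
    (hsu : σ S * σ U * (σ S)⁻¹ = (σ U)⁻¹) (hsv : σ S * σ V * (σ S)⁻¹ = σ V) : Commute U V := by
  set z := ⁅U, V⁆ with hz
  have hzk : z ∈ σ.ker := by
    rw [MonoidHom.mem_ker, hz, map_commutatorElement, commutatorElement_eq_one_iff_commute]
    exact huv
  have hzc := fun g => ker_commute hc hzk g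
  have h2 : z ^ 2 = 1 := by
    have h1 : S * z * S⁻¹ = ⁅U⁻¹, V⁆ := by
      rw [hz, show S * ⁅U, V⁆ * S⁻¹ = ⁅S * U * S⁻¹, S * V * S⁻¹⁆ by
        simp only [commutatorElement_def]; group]
      exact commutator_congr hc (by simp [hsu]) (by simp [hsv])
    have h2 : ⁅U⁻¹, V⁆ = U⁻¹ * z⁻¹ * U := by
      rw [hz, commutatorElement_inv]; simp only [commutatorElement_def]; group
    rw [h2, ← (hzc S).eq, mul_inv_cancel_right, mul_assoc U⁻¹, ((hzc U).inv_left).eq,
      inv_mul_cancel_left] at h1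
    rw [pow_two]
    exact eq_inv_iff_mul_eq_one.1 h1
  have hNz : z ^ N = 1 := by
    rw [hz, ← CfsgLib.PGroup.commutatorElement_pow_left_of_central (hc hzk),
      commutator_congr hc (x := U ^ N) (x' := 1) (by simp [huN]) (rfl : σ V = σ V),
      commutatorElement_one_left]
  obtain ⟨k, rfl⟩ := hN
  rw [pow_succ, pow_mul, h2, one_pow, one_mul] at hNz
  exact commutatorElement_eq_one_iff_commute.1 hNz

/-- In `A ⋅ ⟨C⟩`, with `A` abelian, every element of the derived group is `⁅C, a⁆` for some `a`. -/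
theorem commutator_le_of_cyclic {Γ : Type*} [Group Γ] (A : Subgroup Γ)
    (hA : ∀ a ∈ A, ∀ b ∈ A, Commute a b) (C : Γ) (h1 : ∀ a ∈ A, C * a * C⁻¹ ∈ A)
    (h2 : ∀ a ∈ A, C⁻¹ * a * C ∈ A) (P : Subgroup Γ) (hP : ∀ x ∈ P, ∃ a ∈ A, ∃ i : ℤ, x = a * C ^ i)
    {z : Γ} (hz : z ∈ ⁅P, P⁆) : ∃ a ∈ A, z = ⁅C, a⁆ := by
  let φ : A →* Γ := MonoidHom.mk' (fun a => C * (a : Γ) * C⁻¹ * (a : Γ)⁻¹) fun a b => by
    have h := hA _ (inv_mem a.2) _ (mul_mem (h1 _ b.2) (inv_mem b.2))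
    calc C * (a * b : Γ) * C⁻¹ * (a * b : Γ)⁻¹
        = C * a * C⁻¹ * ((C * b * C⁻¹ * (b : Γ)⁻¹) * (a : Γ)⁻¹) := by group
      _ = C * a * C⁻¹ * ((a : Γ)⁻¹ * (C * b * C⁻¹ * (b : Γ)⁻¹)) := by rw [h.eq]
      _ = _ := by group
  have hφ : ∀ a : A, φ a = C * (a : Γ) * C⁻¹ * (a : Γ)⁻¹ := fun a => rfl
  have hI : ∀ (i : ℤ) (a : Γ), a ∈ A →
      C ^ i * a * (C ^ i)⁻¹ ∈ A ∧ C ^ i * a * (C ^ i)⁻¹ * a⁻¹ ∈ φ.range := by
    intro i
    induction i using Int.induction_on with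
    | zero => intro a ha; simpa using ha
    | succ i ih =>
      intro a ha
      obtain ⟨e1, e2⟩ := ih a ha
      rw [show C ^ ((i : ℤ) + 1) * a * (C ^ ((i : ℤ) + 1))⁻¹ =
        C * (C ^ (i : ℤ) * a * (C ^ (i : ℤ))⁻¹) * C⁻¹ by rw [add_comm, zpow_one_add]; group]
      refine ⟨h1 _ e1, ?_⟩
      rw [show C * (C ^ (i : ℤ) * a * (C ^ (i : ℤ))⁻¹) * C⁻¹ * a⁻¹ =
        φ ⟨_, e1⟩ * (C ^ (i : ℤ) * a * (C ^ (i : ℤ))⁻¹ * a⁻¹) by rw [hφ]; group]
      exact mul_mem ⟨_, rfl⟩ e2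
    | pred i ih =>
      intro a ha
      obtain ⟨e1, e2⟩ := ih a ha
      rw [show C ^ (-(i : ℤ) - 1) * a * (C ^ (-(i : ℤ) - 1))⁻¹ =
        C⁻¹ * (C ^ (-(i : ℤ)) * a * (C ^ (-(i : ℤ)))⁻¹) * C by
        rw [sub_eq_add_neg, add_comm, zpow_add, zpow_neg_one]; group]
      refine ⟨h2 _ e1, ?_⟩
      rw [show C⁻¹ * (C ^ (-(i : ℤ)) * a * (C ^ (-(i : ℤ)))⁻¹) * C * a⁻¹ =
        (φ ⟨_, h2 _ e1⟩)⁻¹ * (C ^ (-(i : ℤ)) * a * (C ^ (-(i : ℤ)))⁻¹ * a⁻¹) by rw [hφ]; group]
      exact mul_mem (inv_mem ⟨_, rfl⟩) e2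
  have hIA : ∀ y ∈ φ.range, y ∈ A := by
    rintro _ ⟨a, rfl⟩; exact mul_mem (h1 _ a.2) (inv_mem a.2)
  have hder : ⁅P, P⁆ ≤ φ.range := by
    rw [commutator_le]
    intro x hx y hy
    obtain ⟨a, ha, i, rfl⟩ := hP x hx
    obtain ⟨b, hb, j, rfl⟩ := hP y hy
    obtain ⟨hb1, hb2⟩ := hI i b hb
    obtain ⟨ha1, ha2⟩ := hI j a ha
    have key : ⁅a * C ^ i, b * C ^ j⁆ =
        (a * (C ^ i * b * (C ^ i)⁻¹ * b⁻¹) * a⁻¹) *
          (a * b * (C ^ j * a * (C ^ j)⁻¹)⁻¹ * b⁻¹) := by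
      rw [commutatorElement_def]; group
    have e1 : a * (C ^ i * b * (C ^ i)⁻¹ * b⁻¹) * a⁻¹ = C ^ i * b * (C ^ i)⁻¹ * b⁻¹ := by
      rw [(hA _ ha _ (hIA _ hb2)).eq, mul_inv_cancel_right]
    have e2 : a * b * (C ^ j * a * (C ^ j)⁻¹)⁻¹ * b⁻¹ = a * (C ^ j * a * (C ^ j)⁻¹)⁻¹ := by
      rw [mul_assoc a, (hA _ hb _ (inv_mem ha1)).eq, ← mul_assoc a, mul_inv_cancel_right]
    rw [key, e1, e2, show a * (C ^ j * a * (C ^ j)⁻¹)⁻¹ = (C ^ j * a * (C ^ j)⁻¹ * a⁻¹)⁻¹ by group]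
    exact mul_mem hb2 (inv_mem ha2)
  obtain ⟨a, ha⟩ := hder hz
  exact ⟨a, a.2, by rw [← ha, hφ, commutatorElement_def]⟩

theorem reorder_five {G : Type*} [Group G] {A B B' D D' R R' : G} (h1 : Commute B A) (h2 : Commute D A)
    (h3 : Commute D B') :
    A * (B⁻¹ * B'⁻¹) * (D * D' * R * R') = B⁻¹ * D * (A * B'⁻¹ * D') * (R * R') := by
  calc A * (B⁻¹ * B'⁻¹) * (D * D' * R * R') = (A * B⁻¹) * B'⁻¹ * D * D' * (R * R') := by group
    _ = B⁻¹ * ((A * B'⁻¹) * D) * D' * (R * R') := by rw [← (h1.inv_left).eq]; group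
    _ = _ := by rw [← ((h2.mul_right h3.inv_right)).eq]; group

/-- A Sylow subgroup of prime order. -/
theorem noMultiplierAt_of_sq_not_dvd {G : Type u} [Group G] [Finite G] {p : ℕ} [hp : Fact p.Prime]
    (h : ¬ p ^ 2 ∣ Nat.card G) : NoMultiplierAt p G := by
  by_cases h1 : p ∣ Nat.card G
  · obtain ⟨c, hc⟩ := exists_prime_orderOf_dvd_card' p h1
    obtain ⟨d, hd⟩ := h1
    exact noMultiplierAt_of_sylow_element c 1 d (by rw [hc, pow_one])
      (fun hpd => h (by rw [hd, pow_two]; exact mul_dvd_mul_left p hpd)) (by rw [pow_one]; exact hd)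
  · exact noMultiplierAt_of_not_dvd h1

variable {F : Type u} [Field F] [Fintype F] {q : ℕ}

theorem card_su_five (hF : Fintype.card F = q ^ 2) : (q + 1) * Nat.card (Cfsg.SU 5 F q) =
    q ^ 10 * ((q + 1) * (q ^ 2 - 1) * (q ^ 3 + 1) * (q ^ 4 - 1) * (q ^ 5 + 1)) := by
  rw [card_SU_mul hF (by omega), card_GU hF]
  simp [Finset.prod_range_succ, show ¬ Even (1 : ℕ) by decide, show ¬ Even (3 : ℕ) by decide,
    show Even (2 : ℕ) by decide, show Even (4 : ℕ) by decide]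

theorem card_su_five_two (hF : Fintype.card F = 2 ^ 2) :
    Nat.card (Cfsg.SU 5 F 2) = 2 ^ 10 * 13365 := by
  have := card_su_five hF
  norm_num at this ⊢
  omega

theorem card_su_five_three (hF : Fintype.card F = 3 ^ 2) :
    Nat.card (Cfsg.SU 5 F 3) = 3 ^ 10 * 4372480 := by
  have := card_su_five hF
  norm_num at this ⊢
  omega

/-- A prime dividing the order of `SU₅(2)` with exponent greater than one is two or three. -/
theorem noMultiplierAt_su_five_two_large (hF : Fintype.card F = 2 ^ 2) {ℓ : ℕ} [hl : Fact ℓ.Prime]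
    (h2 : ℓ ≠ 2) (h3 : ℓ ≠ 3) : NoMultiplierAt ℓ (Cfsg.SU 5 F 2) := by
  refine noMultiplierAt_of_sq_not_dvd fun h => ?_
  rw [card_su_five_two hF, show 2 ^ 10 * 13365 = (2 ^ 5 * 3 ^ 2) ^ 2 * (3 * 55) by norm_num] at h
  have hco : Nat.Coprime (ℓ ^ 2) ((2 ^ 5 * 3 ^ 2) ^ 2) := by
    refine Nat.Coprime.pow _ _ ((Nat.Coprime.mul_right ?_ ?_))
    · exact ((Nat.coprime_primes hl.out Nat.prime_two).2 h2).pow_right _
    · exact ((Nat.coprime_primes hl.out Nat.prime_three).2 h3).pow_right _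
  have h4 := Nat.le_of_dvd (by norm_num) (hco.dvd_of_dvd_mul_left h)
  have h12 : ℓ ≤ 12 := by nlinarith
  have hlp := hl.out
  have h5 := hco.dvd_of_dvd_mul_left h
  interval_cases ℓ <;> norm_num at *

/-- `SU₅(2)` has no multiplier at three. -/
theorem noMultiplierAt_su_five_two_three (hF : Fintype.card F = 2 ^ 2) :
    haveI : Fact (Nat.Prime 3) := ⟨Nat.prime_three⟩
    NoMultiplierAt 3 (Cfsg.SU 5 F 2) := by
  classical
  have hp3 : Fact (Nat.Prime 3) := ⟨Nat.prime_three⟩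
  have hm1 : (-1 : F) = 1 := by
    have h2 : ringChar F = 2 := by
      have h := FiniteField.even_card_iff_char_two (F := F)
      exact h.2 (by rw [hF]; norm_num)
    have : CharP F 2 := by rw [← h2]; exact ringChar.charP F
    exact CharTwo.neg_eq 1
  obtain ⟨δ, hδ⟩ := exists_diag_two hF
  obtain ⟨d, hdinj, hd, -⟩ := exists_torus hF hδ
  have hK : Nat.card (normOne F 2) = 3 := by
    rw [normOne, IsCyclic.card_powMonoidHom_ker, Nat.card_units, Nat.card_eq_fintype_card, hF]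
    norm_num
  have hK3 : ∀ x : (normOne F 2), x ^ 3 = 1 := fun x => by rw [← hK]; exact pow_card_eq_one'
  let w : ∀ i, i + 2 ≤ 5 → Cfsg.SU 5 F 2 := fun i hi => bk i hi (weylTwo hF)
  let h : ∀ i, i + 2 ≤ 5 → ((normOne F 2) →* Cfsg.SU 5 F 2) := fun i hi => (bk i hi).comp δ
  have hself : ∀ i hi x, w i hi * h i hi x * (w i hi)⁻¹ = h i hi x⁻¹ := fun i hi x => by
    simp only [w, h, MonoidHom.comp_apply]
    rw [← map_inv (bk i hi), ← map_mul, ← map_mul, weyl_conj_diag hF hδ]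
  have hnext : ∀ i (hi : i + 3 ≤ 5) x, w i (by omega) * h (i + 1) (by omega) x * (w i (by omega))⁻¹ =
      h i (by omega) x * h (i + 1) (by omega) x := fun i hi x => by
    simp only [w, h, MonoidHom.comp_apply]
    rw [← bk5_left i hi, ← bk5_left i hi, ← bk5_right i hi, ← map_inv (bk i hi), ← map_mul, ← map_mul,
      ← map_mul, left_conj_diag hF hδ]
  have hprev : ∀ i (hi : i + 3 ≤ 5) x, w (i + 1) (by omega) * h i (by omega) x * (w (i + 1) (by omega))⁻¹ =
      h i (by omega) x * h (i + 1) (by omega) x := fun i hi x => by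
    simp only [w, h, MonoidHom.comp_apply]
    rw [← bk5_left i hi, ← bk5_right i hi, ← bk5_right i hi, ← map_inv (bk i hi), ← map_mul, ← map_mul,
      ← map_mul, right_conj_diag hF hδ]
  have hadj : ∀ i (hi : i + 3 ≤ 5) x y, Commute (h i (by omega) x) (h (i + 1) (by omega) y) := fun i hi x y => by
    simp only [h, MonoidHom.comp_apply]
    rw [← bk5_left i hi, ← bk5_right i hi]
    exact (diag_comm hδ x y).map (bk i hi)
  have hfix : ∀ i j (hi : i + 2 ≤ 5) (hj : j + 2 ≤ 5), i + 2 ≤ j ∨ j + 2 ≤ i →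
      ∀ x, w i hi * h j hj x * (w i hi)⁻¹ = h j hj x := fun i j hi hj hij x => by
    rw [mul_inv_eq_iff_eq_mul]
    rcases hij with hij | hij
    · exact bk_commute _ _ hij _ _
    · exact (bk_commute _ _ hij _ _).symm
  have hw2 : ∀ i hi, w i hi * w i hi = 1 := fun i hi => by
    simp only [w]
    rw [← map_mul, weyl_sq hF hδ 1 (by rw [OneMemClass.coe_one, Units.val_one, hm1]), map_one, map_one]
  -- the element of order three
  set c := w 0 (by omega) * w 1 (by omega) with hc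
  have hc3 : c ^ 3 = 1 := by
    have hc' : c = bk 0 (show 0 + 3 ≤ 5 by omega) (b01 (weylTwo hF) * b12 (weylTwo hF)) := by
      rw [hc, map_mul, bk5_left, bk5_right]
    rw [hc', ← map_pow]
    have : (b01 (weylTwo hF) * b12 (weylTwo hF)) ^ 3 = 1 := by
      rw [pow_succ, pow_two]
      refine su_ext ?_
      simp only [su_val_mul, CfsgLib.Phan.Two.val_b01, CfsgLib.Phan.Two.val_b12, weylTwo_val, hm1]
      rw [show ((1 : Cfsg.SU 3 F 2)).1.1 = 1 from rfl]
      ext i j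
      fin_cases i <;> fin_cases j <;> simp [Matrix.mul_apply, Fin.sum_univ_three]
    rw [this, map_one]
  have hcd : ∀ a : Fin 4 → (normOne F 2), c * d a * c⁻¹ = d ![(a 1)⁻¹ * a 2, a 0 * (a 1)⁻¹ * a 2, a 2, a 3] := by
    intro a
    have e0 : c * h 0 (by omega) (a 0) * c⁻¹ = h 1 (by omega) (a 0) := by
      rw [hc, show ∀ u v t : Cfsg.SU 5 F 2, u * v * t * (u * v)⁻¹ = u * (v * t * v⁻¹) * u⁻¹ from
        fun u v t => by group, hprev 0 (by omega), show ∀ u s t : Cfsg.SU 5 F 2,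
          u * (s * t) * u⁻¹ = (u * s * u⁻¹) * (u * t * u⁻¹) from fun u s t => by group,
        hself, hnext 0 (by omega), ← mul_assoc, ← map_mul, inv_mul_cancel, map_one, one_mul]
    have e1 : c * h 1 (by omega) (a 1) * c⁻¹ = h 0 (by omega) (a 1)⁻¹ * h 1 (by omega) (a 1)⁻¹ := by
      rw [hc, show ∀ u v t : Cfsg.SU 5 F 2, u * v * t * (u * v)⁻¹ = u * (v * t * v⁻¹) * u⁻¹ from
        fun u v t => by group, hself, hnext 0 (by omega)]
    have e2 : c * h 2 (by omega) (a 2) * c⁻¹ =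
        h 0 (by omega) (a 2) * h 1 (by omega) (a 2) * h 2 (by omega) (a 2) := by
      rw [hc, show ∀ u v t : Cfsg.SU 5 F 2, u * v * t * (u * v)⁻¹ = u * (v * t * v⁻¹) * u⁻¹ from
        fun u v t => by group, hnext 1 (by omega), show ∀ u s t : Cfsg.SU 5 F 2,
          u * (s * t) * u⁻¹ = (u * s * u⁻¹) * (u * t * u⁻¹) from fun u s t => by group,
        hnext 0 (by omega), hfix 0 2 _ _ (by omega)]
    have e3 : c * h 3 (by omega) (a 3) * c⁻¹ = h 3 (by omega) (a 3) := by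
      rw [hc, show ∀ u v t : Cfsg.SU 5 F 2, u * v * t * (u * v)⁻¹ = u * (v * t * v⁻¹) * u⁻¹ from
        fun u v t => by group, hfix 1 3 _ _ (by omega), hfix 0 3 _ _ (by omega)]
    rw [hd, hd]
    show c * (h 0 _ (a 0) * h 1 _ (a 1) * (h 2 _ (a 2) * h 3 _ (a 3))) * c⁻¹ = _
    rw [show ∀ u s t r v : Cfsg.SU 5 F 2, u * (s * t * (r * v)) * u⁻¹ =
      (u * s * u⁻¹) * (u * t * u⁻¹) * ((u * r * u⁻¹) * (u * v * u⁻¹)) from fun u s t r v => by group,
      e0, e1, e2, e3]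
    simp only [Matrix.cons_val_zero, Matrix.cons_val_one, Matrix.cons_val, map_mul, map_inv]
    exact reorder_five (hadj 0 (by omega) (a 1) (a 0)) (hadj 0 (by omega) (a 2) (a 0))
      (hadj 0 (by omega) (a 2) (a 1))
  set T := d.range with hT
  have hcT : ∀ t ∈ T, c * t * c⁻¹ ∈ T := by rintro _ ⟨a, rfl⟩; exact ⟨_, (hcd a).symm⟩
  have hcT' : ∀ t ∈ T, c⁻¹ * t * c ∈ T := fun t ht => by
    have := hcT _ (hcT t ht)
    rwa [show c⁻¹ = c * c by rw [inv_eq_iff_mul_eq_one, ← mul_assoc, ← pow_three']; exact hc3,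
      show c * c * t * c = c * (c * t * c⁻¹) * c⁻¹ * c ^ 3 by rw [pow_three]; group, hc3, mul_one]
  have hcnorm : zpowers c ≤ normalizer (T : Set (Cfsg.SU 5 F 2)) := by
    rw [zpowers_le, mem_normalizer_iff]
    refine fun g => ⟨hcT g, fun hg => ?_⟩
    have := hcT' _ hg
    rwa [show c⁻¹ * (c * g * c⁻¹) * c = g by group] at this
  have hcnot : c ∉ T := by
    rintro ⟨a, ha⟩
    obtain ⟨d0, _, _, hd0⟩ : ∃ d' : (Fin 4 → (normOne F 2)) →* Cfsg.SU 5 F 2, Function.Injective d' ∧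
        (∀ a, d' a = d a) ∧ ∀ a j, j < 5 → ∃ r : F, r ≠ 0 ∧ act (d a) (bv 5 F j) = r • bv 5 F j := by
      obtain ⟨d', h1, h2, h3⟩ := exists_torus hF hδ
      have he : ∀ a, d' a = d a := fun a => by rw [h2, hd]
      exact ⟨d', h1, he, fun a j hj => by rw [← he]; exact h3 a j hj⟩
    obtain ⟨r, hr, hr'⟩ := hd0 a 0 (by omega)
    rw [ha, hc, act_mul, show act (w 1 (by omega)) (bv 5 F 0) = bv 5 F 0 from
      act_bk_bv_out _ _ (by omega) (by omega), (act_bk5_weyl hF 0 (by omega)).1] at hr'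
    have := congrFun hr' (0 : Fin 5)
    simp [bv] at this
    exact hr this.symm
  -- the Sylow subgroup
  set H := T ⊔ zpowers c with hH
  have hTcard : Nat.card T = 3 ^ 4 := by
    rw [hT, ← Nat.card_congr (MonoidHom.ofInjective hdinj).toEquiv, Nat.card_fun, hK]; simp
  have hTp : IsPGroup 3 T := IsPGroup.of_card hTcard
  have hcp : IsPGroup 3 (zpowers c) := by
    rintro ⟨x, i, rfl⟩
    refine ⟨1, Subtype.ext ?_⟩
    show (c ^ i) ^ (3 ^ 1) = 1
    rw [pow_one, ← zpow_natCast, ← zpow_mul, mul_comm, zpow_mul, zpow_natCast, hc3, one_zpow]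
  have hHp : IsPGroup 3 H := by
    rw [hH, sup_comm]
    exact hcp.to_sup_of_normal_right' hTp hcnorm
  obtain ⟨m, hm⟩ := hHp.exists_card_eq
  have hlt : 3 ^ 4 < 3 ^ m := by
    rw [← hm, ← hTcard]
    refine lt_of_le_of_ne (card_le_of_le le_sup_left) fun he => hcnot ?_
    rw [eq_of_le_of_card_ge (le_sup_left : T ≤ H) he.ge]
    exact mem_sup_right (mem_zpowers c)
  have hcardG : Nat.card (Cfsg.SU 5 F 2) = 3 ^ 5 * 56320 := by rw [card_su_five_two hF]; norm_num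
  have hfac : (Nat.card (Cfsg.SU 5 F 2)).factorization 3 = 5 := by
    rw [hcardG, Nat.factorization_mul (by norm_num) (by norm_num), Finsupp.add_apply,
      Nat.Prime.factorization_pow Nat.prime_three, Finsupp.single_eq_same,
      Nat.factorization_eq_zero_of_not_dvd (by norm_num : ¬ 3 ∣ 56320), add_zero]
  have hcard : Nat.card H = 3 ^ (Nat.card (Cfsg.SU 5 F 2)).factorization 3 := by
    have h1 := card_subgroup_dvd_card H
    rw [hm, Nat.Prime.pow_dvd_iff_le_factorization Nat.prime_three Nat.card_pos.ne', hfac] at h1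
    have h2 := (Nat.pow_lt_pow_iff_right (by norm_num)).1 hlt
    rw [hm, hfac, show m = 5 by omega]
  refine noMultiplierAt_of_derived (Sylow.ofCard H hcard) fun Γ _ _ σ hσ P hP z hz hzP _ => ?_
  have hzc := hσ.2.1
  let A : Subgroup Γ := T.comap σ
  obtain ⟨C, hC⟩ := hσ.1 c
  obtain ⟨ζ, hζ⟩ := IsCyclic.exists_generator (α := (normOne F 2))
  have hlift : ∀ i : Fin 4, ∃ D W : Γ, σ D = h i (show (i : ℕ) + 2 ≤ 5 by omega) ζ ∧
      σ W = w i (show (i : ℕ) + 2 ≤ 5 by omega) := fun i => by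
    obtain ⟨D, hD⟩ := hσ.1 (h i (show (i : ℕ) + 2 ≤ 5 by omega) ζ)
    obtain ⟨W, hW⟩ := hσ.1 (w i (show (i : ℕ) + 2 ≤ 5 by omega))
    exact ⟨D, W, hD, hW⟩
  choose D W hD hW using hlift
  have hDD : ∀ i j : Fin 4, Commute (D i) (D j) := by
    have key : ∀ i j : Fin 4, (i : ℕ) < j → Commute (D i) (D j) := fun i j hij => by
      have h3 : σ (D i) ^ 3 = 1 := by rw [hD, ← map_pow, hK3, map_one]
      by_cases hn : (j : ℕ) = i + 1
      · have hj : σ (D j) = h ((i : ℕ) + 1) (by omega) ζ := by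
          rw [hD]; congr 2 <;> omega
        refine lifts_commute σ hzc (D i) (D j) (W i) (by decide : Odd 3) h3 ?_ ?_ ?_
        · rw [hD i, hj]; exact hadj i (by omega) ζ ζ
        · rw [hW, hD, hself, map_inv]
        · rw [hW, hD i, hj, hnext i (by omega)]
      · refine lifts_commute_of_fixed σ hzc (D i) (D j) (W i) (by decide : Odd 3) h3 ?_ ?_ ?_
        · rw [hD, hD]; exact bk_commute _ _ (by omega) _ _
        · rw [hW, hD, hself, map_inv]
        · rw [hW, hD]; exact hfix _ _ _ _ (by omega) ζ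
    intro i j
    rcases lt_trichotomy (i : ℕ) j with h | h | h
    · exact key i j h
    · rw [Fin.ext h]
    · exact (key j i h).symm
  have hA : ∀ a ∈ A, ∀ b ∈ A, Commute a b := by
    set B := closure (Set.range D) ⊔ σ.ker with hB
    have hle : A ≤ B := fun a ha => by
      obtain ⟨x, hx⟩ := ha
      choose k hk using fun i => mem_zpowers_iff.1 (hζ (x i))
      have hk' : (D 0 ^ k 0 * D 1 ^ k 1 * (D 2 ^ k 2 * D 3 ^ k 3))⁻¹ * a ∈ σ.ker := by
        rw [MonoidHom.mem_ker, map_mul, map_inv, inv_mul_eq_one, ← hx, hd]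
        simp only [map_mul, map_zpow, hD, ← hk, h, MonoidHom.comp_apply]
        rfl
      have hm : ∀ i, D i ∈ closure (Set.range D) := fun i => Subgroup.subset_closure ⟨i, rfl⟩
      rw [show a = D 0 ^ k 0 * D 1 ^ k 1 * (D 2 ^ k 2 * D 3 ^ k 3) *
        ((D 0 ^ k 0 * D 1 ^ k 1 * (D 2 ^ k 2 * D 3 ^ k 3))⁻¹ * a) by group]
      exact mul_mem (mem_sup_left (mul_mem (mul_mem (zpow_mem (hm 0) _) (zpow_mem (hm 1) _))
        (mul_mem (zpow_mem (hm 2) _) (zpow_mem (hm 3) _)))) (mem_sup_right hk')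
    have hBc : B ≤ centralizer (B : Set Γ) := by
      have hz' : σ.ker ≤ centralizer (B : Set Γ) := hσ.2.1.trans (center_le_centralizer _)
      refine sup_le ((closure_le _).2 ?_) hz'
      have hg : ∀ i, B ≤ centralizer {D i} := fun i => by
        refine sup_le ((closure_le _).2 ?_) (hσ.2.1.trans (center_le_centralizer _))
        rintro _ ⟨j, rfl⟩
        rw [SetLike.mem_coe, mem_centralizer_singleton_iff]
        exact (hDD j i).eq
      rintro _ ⟨i, rfl⟩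
      rw [SetLike.mem_coe, mem_centralizer_iff]
      exact fun v hv => mem_centralizer_singleton_iff.1 (hg i hv)
    exact fun a ha b hb => (mem_centralizer_iff.1 (hBc (hle ha)) b (hle hb)).symm
  have hmemA : ∀ {a : Γ}, a ∈ A ↔ σ a ∈ T := Iff.rfl
  have hdec : ∀ x ∈ P, ∃ a ∈ A, ∃ i : ℤ, x = a * C ^ i := fun x hx => by
    have hx' : σ x ∈ (H : Set (Cfsg.SU 5 F 2)) := by
      have := mem_map_of_mem σ hx
      rw [hP] at this
      exact this
    rw [hH, coe_mul_of_right_le_normalizer_left T (zpowers c) hcnorm] at hx'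
    obtain ⟨t', ht', _, ⟨i, rfl⟩, hti⟩ := Set.mem_mul.1 hx'
    refine ⟨x * (C ^ i)⁻¹, ?_, i, by group⟩
    rw [hmemA, map_mul, map_inv, map_zpow, hC, ← hti, mul_inv_cancel_right]
    exact ht'
  obtain ⟨a, ha, rfl⟩ := commutator_le_of_cyclic A hA C
    (fun a ha => by rw [hmemA, map_mul, map_mul, map_inv, hC]; exact hcT _ ha)
    (fun a ha => by rw [hmemA, map_mul, map_mul, map_inv, hC]; exact hcT' _ ha) P hdec hzP
  obtain ⟨x, hx⟩ := ha
  have hcomm : c * d x * c⁻¹ = d x := by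
    have h1 : σ ⁅C, a⁆ = 1 := hz
    rw [map_commutatorElement, hC, ← hx, commutatorElement_def] at h1
    exact mul_inv_eq_one.1 h1
  rw [hcd] at hcomm
  have hxy := hdinj hcomm
  have f0 : (x 1)⁻¹ * x 2 = x 0 := congrFun hxy 0
  have f1 : x 0 * (x 1)⁻¹ * x 2 = x 1 := congrFun hxy 1
  have x1e : x 1 = x 0 * x 0 := by rw [mul_assoc, f0] at f1; exact f1.symm
  have x2e : x 2 = 1 := by
    have h2 : x 2 = x 1 * x 0 := by rw [← f0, mul_inv_cancel_left]
    rw [h2, x1e, ← pow_three', hK3]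
  have x1i : x 1 = (x 0)⁻¹ := by
    rw [x1e, eq_inv_iff_mul_eq_one, ← pow_three', hK3]
  obtain ⟨Y, hY⟩ := hσ.1 (h 0 (by omega) (x 0) * h 1 (by omega) (x 0)⁻¹)
  obtain ⟨Z, hZ⟩ := hσ.1 (h 3 (by omega) (x 3))
  have hsplit : σ a = σ (Y * Z) := by
    rw [map_mul, hY, hZ, ← hx, hd, x2e, x1i, map_one, map_one, one_mul]
    simp only [h, MonoidHom.comp_apply]
  have hcomZ : Commute C Z := by
    refine (lifts_commute_of_fixed σ hzc Z C (W 3) (by decide : Odd 3) ?_ ?_ ?_ ?_).symm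
    · rw [hZ, ← map_pow, hK3, map_one]
    · rw [hZ, hC, hc]
      exact (((bk_commute _ _ (by omega) _ _).mul_left (bk_commute _ _ (by omega) _ _)).symm)
    · rw [hW, hZ]; exact (hself 3 (by omega) (x 3)).trans (map_inv _ _)
    · rw [hW, hC, hc, mul_inv_eq_iff_eq_mul]
      exact (((bk_commute _ _ (by omega) _ _).mul_left (bk_commute _ _ (by omega) _ _)).symm)
  have hcomY : Commute C Y := by
    refine lifts_commute_of_fixed σ hzc C Y (W 0) (by decide : Odd 3) ?_ ?_ ?_ ?_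
    · rw [hC, hc3]
    · have h1 : σ ⁅C, Y⁆ = 1 := by
        have h2 : σ ⁅C, a⁆ = 1 := hz
        rw [map_commutatorElement, hsplit, map_mul] at h2
        rw [map_commutatorElement, commutatorElement_eq_one_iff_commute]
        have h3 := commutatorElement_eq_one_iff_commute.1 h2
        have h4 := (hcomZ.map σ).inv_right
        have := h3.mul_right h4
        rwa [mul_inv_cancel_right] at this
      rwa [map_commutatorElement, commutatorElement_eq_one_iff_commute] at h1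
    · rw [hW, hC, hc, mul_inv_rev]
      show w 0 _ * (w 0 _ * w 1 _) * (w 0 _)⁻¹ = _
      rw [← mul_assoc, hw2, one_mul, inv_eq_of_mul_eq_one_right (hw2 0 (by omega)),
        inv_eq_of_mul_eq_one_right (hw2 1 (by omega))]
    · rw [hW, hY]
      show w 0 _ * _ * (w 0 _)⁻¹ = _
      rw [show ∀ u s t : Cfsg.SU 5 F 2, u * (s * t) * u⁻¹ = (u * s * u⁻¹) * (u * t * u⁻¹) from
        fun u s t => by group, hself, hnext 0 (by omega), ← mul_assoc, ← map_mul]
      congr 2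
      rw [← mul_inv_rev, inv_eq_iff_mul_eq_one, mul_assoc, ← pow_two, ← pow_succ', hK3]
  rw [commutator_congr hzc rfl hsplit]
  exact commutatorElement_eq_one_iff_commute.2 (hcomY.mul_right hcomZ)

end CfsgLib.SUMult
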