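import Cfsg.Agent.Lib.SUMult.FiveBasis

/-!
In a finite central extension of `SU₅(q)`, `q ≤ 3`, no element of order `q` of the kernel lies in
the derived subgroup of the preimage of a Sylow subgroup of the block `SU₄(q)`.
-/

set_option autoImplicit false
set_option linter.unusedSectionVars false

namespace CfsgLib.SUMult

open Subgroup Matrix CfsgLib.Phan CfsgLib.ClassicalGroups
open scoped commutatorElement Pointwise

universe u

variable {F : Type u} [Field F] [Fintype F] {q : ℕ}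

/-- The parameters of the radical. -/
structure QOk (q : ℕ) (x y z : F) : Prop where
  left : x ^ q = -x
  right : z ^ q = -z

/-- The shape of a conjugate of the radical under the Levi subgroup. -/
def qConj (q : ℕ) (a b c d x y z : F) : F × F × F :=
  (a * x * a ^ q + a * y * b ^ q - b * y ^ q * a ^ q + b * z * b ^ q,
   a * x * c ^ q + a * y * d ^ q - b * y ^ q * c ^ q + b * z * d ^ q,
   c * x * c ^ q + c * y * d ^ q - d * y ^ q * c ^ q + d * z * d ^ q)

/-- In the preimage of an abelian-by-abelian group, lifts of whose factors commute, commutators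
lie in any subgroup of the radical closed under translation containing the mixed ones. -/
theorem commutator_le_mixed {Γ : Type*} [Group Γ] (A R : Subgroup Γ)
    (hA : ∀ a ∈ A, ∀ b ∈ A, Commute a b) (hR : ∀ r ∈ R, ∀ s ∈ R, Commute r s)
    (hnorm : ∀ r ∈ R, ∀ a ∈ A, r * a * r⁻¹ ∈ A) (I : Subgroup Γ) (hI : ∀ r ∈ R, ∀ a ∈ A, ⁅r, a⁆ ∈ I)
    {x y : Γ} (hx : ∃ a ∈ A, ∃ r ∈ R, x = a * r) (hy : ∃ a ∈ A, ∃ r ∈ R, y = a * r) : ⁅x, y⁆ ∈ I := by
  obtain ⟨a, ha, r, hr, rfl⟩ := hx
  obtain ⟨b, hb, s, hs, rfl⟩ := hy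
  have hc : ∀ r ∈ R, ∀ a ∈ A, ⁅r, a⁆ ∈ A := fun r hr a ha => by
    rw [commutatorElement_def]; exact mul_mem (hnorm r hr a ha) (inv_mem ha)
  have e1 : r * s * r⁻¹ = s := by rw [(hR r hr s hs).eq, mul_inv_cancel_right]
  have key : ⁅a * r, b * s⁆ = a * ⁅r, b⁆ * b * ⁅s, a⁻¹⁆ * a⁻¹ * b⁻¹ := by
    calc ⁅a * r, b * s⁆ = a * (⁅r, b⁆ * b) * (r * s * r⁻¹) * a⁻¹ * s⁻¹ * b⁻¹ := by
          simp only [commutatorElement_def]; group
      _ = a * (⁅r, b⁆ * b) * s * a⁻¹ * s⁻¹ * b⁻¹ := by rw [e1]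
      _ = _ := by simp only [commutatorElement_def]; group
  have m1 : a * ⁅r, b⁆ = ⁅r, b⁆ * a := (hA a ha _ (hc r hr b hb)).eq
  have m2 : a * b * ⁅s, a⁻¹⁆ = ⁅s, a⁻¹⁆ * (a * b) :=
    (hA _ (mul_mem ha hb) _ (hc s hs _ (inv_mem ha))).eq
  have m3 : a * b = b * a := (hA a ha b hb).eq
  rw [key, m1, mul_assoc ⁅r, b⁆ a b, mul_assoc ⁅r, b⁆ (a * b), m2]
  rw [show ⁅r, b⁆ * (⁅s, a⁻¹⁆ * (a * b)) * a⁻¹ * b⁻¹ = ⁅r, b⁆ * ⁅s, a⁻¹⁆ * (a * b * a⁻¹ * b⁻¹) by group, m3,
    mul_inv_cancel_right, mul_inv_cancel, mul_one]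
  exact mul_mem (hI r hr b hb) (hI s hs _ (inv_mem ha))

theorem commutator_mul_right_of_commute {Γ : Type*} [Group Γ] {r a b : Γ}
    (h : Commute a ⁅r, b⁆) : ⁅r, a * b⁆ = ⁅r, a⁆ * ⁅r, b⁆ := by
  calc ⁅r, a * b⁆ = ⁅r, a⁆ * (a * ⁅r, b⁆ * a⁻¹) := by simp only [commutatorElement_def]; group
    _ = _ := by rw [h.eq, mul_inv_cancel_right]

namespace IsoBasis

variable (B : IsoBasis F q)

theorem qMat_mul (hF : Fintype.card F = q ^ 2) (x y z x' y' z' : F) :
    qMat q x y z * qMat q x' y' z' = qMat q (x + x') (y + y') (z + z') := by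
  ext i j
  fin_cases i <;> fin_cases j <;>
    simp [qMat, Matrix.mul_apply, Fin.sum_univ_five, herm_conj_add hF] <;> ring

theorem lMat_qMat (hF : Fintype.card F = q ^ 2) {a b c d x y z : F} (hD : a * d - b * c ≠ 0)
    (hx : x ^ q = -x) (hz : z ^ q = -z) :
    lMat q a b c d * qMat q x y z =
      qMat q (qConj q a b c d x y z).1 (qConj q a b c d x y z).2.1 (qConj q a b c d x y z).2.2 *
        lMat q a b c d := by
  have hqq : ∀ v : F, (v ^ q) ^ q = v := fun v => by rw [← pow_mul, ← pow_two, ← hF, FiniteField.pow_card]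
  have hbar : (a * d - b * c) ^ q = a ^ q * d ^ q - b ^ q * c ^ q := by
    rw [herm_conj_sub hF, mul_pow, mul_pow]
  have hne : a ^ q * d ^ q - b ^ q * c ^ q ≠ 0 := hbar ▸ pow_ne_zero _ hD
  have hinv : (a ^ q * d ^ q - b ^ q * c ^ q) * (a ^ q * d ^ q - b ^ q * c ^ q)⁻¹ = 1 := mul_inv_cancel₀ hne
  ext i j
  fin_cases i <;> fin_cases j <;>
    simp [lMat, qMat, qConj, Matrix.mul_apply, Fin.sum_univ_five, herm_conj_add hF, herm_conj_sub hF,
      herm_conj_neg hF, mul_pow, hqq, hx, hz] <;>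
    first
      | ring1
      | linear_combination -(a * y + b * z) * hinv
      | linear_combination -(a * x - b * y ^ q) * hinv
      | linear_combination -(c * y + d * z) * hinv
      | linear_combination -(c * x - d * y ^ q) * hinv

/-- The radical and the root subgroup of the Levi subgroup. -/
theorem lMat_one (hF : Fintype.card F = q ^ 2) : lMat q (1 : F) 0 0 1 = 1 := by
  have := herm_two_le hF
  ext i j
  fin_cases i <;> fin_cases j <;> simp [lMat, zero_pow (show q ≠ 0 by omega)]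

theorem lMat_unip_mul (hF : Fintype.card F = q ^ 2) (s t : F) :
    lMat q (1 : F) s 0 1 * lMat q (1 : F) t 0 1 = lMat q (1 : F) (s + t) 0 1 := by
  have := herm_two_le hF
  ext i j
  fin_cases i <;> fin_cases j <;>
    simp [lMat, Matrix.mul_apply, Fin.sum_univ_five, herm_conj_add hF, zero_pow (show q ≠ 0 by omega)] <;> ring

theorem exists_cast_of_fixed (hF : Fintype.card F = q ^ 2) (hq : q = 2 ∨ q = 3) {c : F} (hc : c ^ q = c) : ∃ k : Fin q, c = (k : ℕ) := by
  rcases hq with rfl | rfl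
  · have h : c * (c - 1) = 0 := by linear_combination hc
    rcases mul_eq_zero.1 h with h | h
    · exact ⟨0, by simpa using h⟩
    · exact ⟨1, by simpa using sub_eq_zero.1 h⟩
  · have h : c * ((c - 1) * (c + 1)) = 0 := by linear_combination hc
    rcases mul_eq_zero.1 h with h | h
    · exact ⟨0, by simpa using h⟩
    rcases mul_eq_zero.1 h with h | h
    · exact ⟨1, by simpa using sub_eq_zero.1 h⟩
    · refine ⟨2, ?_⟩
      have h3 : (3 : F) = 0 := by
        have h9 := FiniteField.cast_card_eq_zero F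
        rw [hF] at h9
        rw [Nat.cast_pow, Nat.cast_ofNat] at h9
        exact pow_eq_zero_iff two_ne_zero |>.1 h9
      show c = ((2 : ℕ) : F)
      push_cast
      linear_combination h - h3

end IsoBasis

open IsoBasis (qMat lMat wMat uMat)

/-- The preimage of a Sylow subgroup of the block has no derived kernel element of order `q`. -/
theorem exists_block_sylow (hF : Fintype.card F = q ^ 2) (hq : q = 2 ∨ q = 3) {Γ : Type u} [Group Γ]
    [Finite Γ] (σ : Γ →* Cfsg.SU 5 F q) (hσ : Function.Surjective σ) (hc : σ.ker ≤ center Γ) :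
    ∃ H : Subgroup (Cfsg.SU 5 F q),
      H ≤ (bk (F := F) (q := q) 1 (show 1 + 4 ≤ 5 by omega)).range ∧ Nat.card H = q ^ 6 ∧
        ∀ z ∈ σ.ker, z ∈ ⁅H.comap σ, H.comap σ⁆ → z ^ q = 1 → z = 1 := by
  classical
  obtain ⟨B⟩ := exists_isoBasis hF
  have hq2 := herm_two_le hF
  have h0q : (0 : F) ^ q = 0 := herm_conj_zero hF
  have hqq : ∀ v : F, (v ^ q) ^ q = v := fun v => by rw [← pow_mul, ← pow_two, ← hF, FiniteField.pow_card]
  obtain ⟨δ, hδ0, hδ⟩ := exists_trace_zero hF
  -- the radical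
  let okq : F → F → F → Prop := QOk q
  have hqe : ∀ x y z, okq x y z → ∃ s, B.E s = qMat q x y z := fun x y z h => B.exists_qMat hF h.1 h.2
  choose! qe hqe using hqe
  have hoks : ∀ {x z : F} {c : F}, x ^ q = -x → z = c → c ^ q = c → (x * z) ^ q = -(x * z) :=
    fun {x z c} hx hz hc => by rw [hz, mul_pow, hx, hc]; ring
  have qe_mul : ∀ {x y z x' y' z'}, okq x y z → okq x' y' z' →
      okq (x + x') (y + y') (z + z') ∧ qe x y z * qe x' y' z' = qe (x + x') (y + y') (z + z') := by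
    intro x y z x' y' z' h h'
    have h'' : okq (x + x') (y + y') (z + z') := ⟨by rw [herm_conj_add hF, h.1, h'.1]; ring,
      by rw [herm_conj_add hF, h.2, h'.2]; ring⟩
    refine ⟨h'', B.E_injective ?_⟩
    rw [B.E_mul, hqe _ _ _ h, hqe _ _ _ h', hqe _ _ _ h'', IsoBasis.qMat_mul hF]
  have hok0 : okq 0 0 0 := ⟨by rw [h0q, neg_zero], by rw [h0q, neg_zero]⟩
  have qe_zero : qe 0 0 0 = 1 := B.E_injective (by
    rw [hqe _ _ _ hok0, B.E_one]
    ext i j
    fin_cases i <;> fin_cases j <;> simp [qMat, h0q])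
  have hokneg : ∀ {x y z}, okq x y z → okq (-x) (-y) (-z) := fun h =>
    ⟨by rw [herm_conj_neg hF, h.1], by rw [herm_conj_neg hF, h.2]⟩
  have qe_inv : ∀ {x y z}, okq x y z → (qe x y z)⁻¹ = qe (-x) (-y) (-z) := fun {x y z} h => by
    refine inv_eq_of_mul_eq_one_right ?_
    rw [(qe_mul h (hokneg h)).2, add_neg_cancel, add_neg_cancel, add_neg_cancel, qe_zero]
  let Q : Subgroup (Cfsg.SU 5 F q) :=
    { carrier := {s | ∃ x y z, okq x y z ∧ s = qe x y z}
      mul_mem' := by
        rintro _ _ ⟨x, y, z, h, rfl⟩ ⟨x', y', z', h', rfl⟩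
        exact ⟨_, _, _, (qe_mul h h').1, (qe_mul h h').2⟩
      one_mem' := ⟨0, 0, 0, hok0, qe_zero.symm⟩
      inv_mem' := by
        rintro _ ⟨x, y, z, h, rfl⟩
        exact ⟨_, _, _, hokneg h, qe_inv h⟩ }
  have hQmem : ∀ {x y z}, okq x y z → qe x y z ∈ Q := fun {x y z} h => ⟨x, y, z, h, rfl⟩
  -- the Levi subgroup
  have hle : ∀ a b c d : F, a * d - b * c ≠ 0 → ∃ s, B.E s = lMat q a b c d :=
    fun a b c d h => B.exists_lMat hF h
  choose! le hle using hle
  have hd1 : ∀ t : F, (1 : F) * 1 - t * 0 ≠ 0 := fun t => by simp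
  let R : Multiplicative F →* Cfsg.SU 5 F q := MonoidHom.mk' (fun t => le 1 (Multiplicative.toAdd t) 0 1)
    fun s t => B.E_injective (by
      rw [B.E_mul, hle _ _ _ _ (hd1 _), hle _ _ _ _ (hd1 _), hle _ _ _ _ (hd1 _),
        IsoBasis.lMat_unip_mul hF]
      rfl)
  let rt : F → Cfsg.SU 5 F q := fun t => R (Multiplicative.ofAdd t)
  have hrt : ∀ t, B.E (rt t) = lMat q 1 t 0 1 := fun t => hle _ _ _ _ (hd1 t)
  have rt_add : ∀ s t, rt s * rt t = rt (s + t) := fun s t => (map_mul R _ _).symm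
  have rt_zero : rt 0 = 1 := map_one R
  have rt_inv : ∀ t, (rt t)⁻¹ = rt (-t) := fun t => (map_inv R _).symm
  have hokconj : ∀ (a b c d : F) {x y z}, okq x y z →
      okq (qConj q a b c d x y z).1 (qConj q a b c d x y z).2.1 (qConj q a b c d x y z).2.2 := by
    intro a b c d x y z h
    constructor <;>
      simp only [qConj, herm_conj_add hF, herm_conj_sub hF, mul_pow, hqq, h.1, h.2] <;> ring
  have le_conj : ∀ {a b c d : F}, a * d - b * c ≠ 0 → ∀ {x y z}, okq x y z →
      le a b c d * qe x y z * (le a b c d)⁻¹ =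
        qe (qConj q a b c d x y z).1 (qConj q a b c d x y z).2.1 (qConj q a b c d x y z).2.2 := by
    intro a b c d hD x y z h
    rw [mul_inv_eq_iff_eq_mul]
    refine B.E_injective ?_
    rw [B.E_mul, B.E_mul, hle _ _ _ _ hD, hqe _ _ _ h, hqe _ _ _ (hokconj a b c d h),
      IsoBasis.lMat_qMat hF hD h.1 h.2]
  -- rank one elements
  let Zv : F → F → Cfsg.SU 5 F q := fun v w => qe (δ * (v * v ^ q)) (δ * (v * w ^ q)) (δ * (w * w ^ q))
  have hnorm : ∀ v : F, (v * v ^ q) ^ q = v * v ^ q := fun v => by rw [mul_pow, hqq, mul_comm]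
  have hZok : ∀ v w : F, okq (δ * (v * v ^ q)) (δ * (v * w ^ q)) (δ * (w * w ^ q)) := fun v w =>
    ⟨hoks hδ rfl (hnorm v), hoks hδ rfl (hnorm w)⟩
  have Zv_conj : ∀ {a b c d : F}, a * d - b * c ≠ 0 → ∀ v w,
      le a b c d * Zv v w * (le a b c d)⁻¹ = Zv (a * v + b * w) (c * v + d * w) := by
    intro a b c d hD v w
    show _ * qe _ _ _ * _ = _
    rw [le_conj hD (hZok v w)]
    congr 1 <;>
      simp only [qConj, mul_pow, hδ, hqq, herm_conj_add hF] <;> ring
  obtain ⟨r, hr⟩ := hσ.hasRightInverse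
  -- lifts of two orthogonal transvections commute
  have h10 : Zv 1 0 = qe δ 0 0 := by simp only [Zv, h0q, one_pow, mul_zero, mul_one, zero_mul]
  have h01 : Zv 0 1 = qe 0 0 δ := by simp only [Zv, h0q, one_pow, mul_zero, mul_one, zero_mul]
  have base : Commute (r (Zv 1 0)) (r (Zv 0 1)) := by
    obtain ⟨d₁, hd₁⟩ := exists_trace hF (b := (1 : F)) (one_pow q)
    have hb : ∀ a : F, ∃ b, b + b ^ q + a * a ^ q = 0 := fun a => by
      obtain ⟨b, hb⟩ := exists_trace hF (b := -(a * a ^ q)) (by rw [herm_conj_neg hF, hnorm])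
      exact ⟨b, by rw [hb]; ring⟩
    obtain ⟨b₁, hb₁⟩ := hb 1
    obtain ⟨b₂, hb₂⟩ := hb (δ * d₁)
    obtain ⟨u₁, hu₁⟩ := B.exists_uMat hF hb₁
    obtain ⟨u₂, hu₂⟩ := B.exists_uMat hF hb₂
    have ok1 : okq δ 0 0 := ⟨hδ, by rw [h0q, neg_zero]⟩
    have ok2 : okq (0 : F) 0 δ := ⟨by rw [h0q, neg_zero], hδ⟩
    have hcu : ∀ (a b : F) (u : Cfsg.SU 5 F q), B.E u = uMat q a b → Commute (qe δ 0 0) u := by
      intro a b u hu
      refine B.E_injective ?_
      rw [B.E_mul, B.E_mul, hu, hqe _ _ _ ok1]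
      ext i j
      fin_cases i <;> fin_cases j <;> simp [qMat, uMat, Matrix.mul_apply, Fin.sum_univ_five, h0q]
    have hcomm : u₁ * u₂ * u₁⁻¹ * u₂⁻¹ = qe 0 0 δ := by
      rw [mul_inv_eq_iff_eq_mul, mul_inv_eq_iff_eq_mul]
      refine B.E_injective ?_
      rw [B.E_mul, B.E_mul, B.E_mul, hu₁, hu₂, hqe _ _ _ ok2]
      ext i j
      fin_cases i <;> fin_cases j <;>
        simp [qMat, uMat, Matrix.mul_apply, Fin.sum_univ_five, h0q, mul_pow, hδ] <;>
        first
          | ring1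
          | linear_combination δ * hd₁
          | linear_combination -δ * hd₁
    rw [h10, h01]
    -- the commutator of lifts
    have key : ∀ v : Cfsg.SU 5 F q, Commute (qe δ 0 0) v → ⁅r (qe δ 0 0), r v⁆ ∈ center Γ := fun v hv => hc (by
      rw [MonoidHom.mem_ker, map_commutatorElement, hr, hr, commutatorElement_eq_one_iff_commute]
      exact hv)
    have c1 := key u₁ (hcu _ _ u₁ hu₁)
    have c2 := key u₂ (hcu _ _ u₂ hu₂)
    have hs : σ ⁅r u₁, r u₂⁆ = σ (r (qe 0 0 δ)) := by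
      rw [map_commutatorElement, hr, hr, hr, commutatorElement_def, hcomm]
    rw [← commutatorElement_eq_one_iff_commute,
      CfsgLib.Schur.commutator_congr hc (rfl : σ (r (qe δ 0 0)) = _) hs.symm]
    set T := r (qe δ 0 0)
    set U := r u₁
    set V := r u₂
    have e1 : T * U * T⁻¹ = ⁅T, U⁆ * U := by simp only [commutatorElement_def]; group
    have e2 : T * V * T⁻¹ = ⁅T, V⁆ * V := by simp only [commutatorElement_def]; group
    rw [commutatorElement_eq_one_iff_commute, Commute, SemiconjBy, ← mul_inv_eq_iff_eq_mul,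
      show T * ⁅U, V⁆ * T⁻¹ = ⁅T * U * T⁻¹, T * V * T⁻¹⁆ by simp only [commutatorElement_def]; group, e1, e2]
    exact (CfsgLib.SchurCover.commutator_congr_central
      (by rw [show U⁻¹ * (⁅T, U⁆ * U) = ⁅T, U⁆ by
        rw [← mem_center_iff.1 c1 U]; group]; exact c1)
      (by rw [show V⁻¹ * (⁅T, V⁆ * V) = ⁅T, V⁆ by
        rw [← mem_center_iff.1 c2 V]; group]; exact c2))
  have hpow : ∀ (k : ℕ) {x y z}, okq x y z →
      qe x y z ^ k = qe ((k : F) * x) ((k : F) * y) ((k : F) * z) ∧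
        okq ((k : F) * x) ((k : F) * y) ((k : F) * z) := by
    intro k x y z h
    induction k with
    | zero =>
      rw [pow_zero, Nat.cast_zero, zero_mul, zero_mul, zero_mul, qe_zero]
      exact ⟨rfl, hok0⟩
    | succ k ih =>
      obtain ⟨m1, m2⟩ := qe_mul ih.2 h
      have e : ∀ v : F, ((k + 1 : ℕ) : F) * v = (k : F) * v + v := fun v => by push_cast; ring
      rw [pow_succ, ih.1, m2, e, e, e]
      exact ⟨rfl, m1⟩
  have scal : ∀ (l v w : F), ∃ k : ℕ, Zv (l * v) (l * w) = Zv v w ^ k := fun l v w => by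
    obtain ⟨k, hk⟩ := IsoBasis.exists_cast_of_fixed hF hq (hnorm l)
    refine ⟨k, ?_⟩
    show qe _ _ _ = _
    rw [(hpow k (hZok v w)).1, ← hk]
    congr 1 <;> rw [mul_pow] <;> ring
  have comm_congr : ∀ {g g' h h' : Γ}, σ g = σ g' → σ h = σ h' → Commute g h → Commute g' h' :=
    fun {g g' h h'} hg hh hgh => by
      rw [← commutatorElement_eq_one_iff_commute] at hgh ⊢
      rwa [← CfsgLib.Schur.commutator_congr hc hg hh]
  have pairs : ∀ v w v' w' : F, Commute (r (Zv v w)) (r (Zv v' w')) := by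
    intro v w v' w'
    by_cases hD : v * w' - v' * w = 0
    · -- proportional
      by_cases hv : v = 0 ∧ w = 0
      · have : Zv v w = 1 := by
          rw [hv.1, hv.2, ← qe_zero]
          show qe _ _ _ = _
          simp only [zero_mul, mul_zero]
        rw [this]
        exact CfsgLib.Schur.ker_commute hc (by rw [MonoidHom.mem_ker, hr]) _
      obtain ⟨l, hl1, hl2⟩ : ∃ l, v' = l * v ∧ w' = l * w := by
        by_cases hv0 : v = 0
        · have hw0 : w ≠ 0 := fun h => hv ⟨hv0, h⟩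
          refine ⟨w' / w, ?_, (div_mul_cancel₀ _ hw0).symm⟩
          rw [hv0, zero_mul, zero_sub, neg_eq_zero] at hD
          rw [hv0, mul_zero]
          exact (mul_eq_zero.1 hD).resolve_right hw0
        · refine ⟨v' / v, (div_mul_cancel₀ _ hv0).symm, ?_⟩
          field_simp
          linear_combination hD
      obtain ⟨k, hk⟩ := scal l v w
      refine comm_congr rfl ?_ ((Commute.refl (r (Zv v w))).pow_right k)
      rw [map_pow, hr, hr, hl1, hl2, hk]
    · have hconj : ∀ x y, σ (r (le v v' w w') * r (Zv x y) * (r (le v v' w w'))⁻¹) =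
          σ (r (Zv (v * x + v' * y) (w * x + w' * y))) := fun x y => by
        rw [map_mul, map_mul, map_inv, hr, hr, hr, Zv_conj hD]
      have e1 := hconj 1 0
      have e2 := hconj 0 1
      rw [mul_one, mul_zero, add_zero, mul_one, mul_zero, add_zero] at e1
      rw [mul_zero, mul_one, zero_add, mul_zero, mul_one, zero_add] at e2
      exact comm_congr e1 e2 (base.map (MulAut.conj (r (le v v' w w'))).toMonoidHom)
  -- the lifts of the radical commute
  have hQgen : Q ≤ closure {s | ∃ v w, Zv v w = s} := by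
    rintro _ ⟨x, y, z, h, rfl⟩
    have hfix : ∀ x : F, x ^ q = -x → ∃ k : ℕ, x = (k : F) * δ := fun x hx => by
      obtain ⟨k, hk⟩ := IsoBasis.exists_cast_of_fixed hF hq (c := x / δ) (by rw [div_pow, hx, hδ, neg_div_neg_eq])
      exact ⟨k, by rw [← hk, div_mul_cancel₀ _ hδ0]⟩
    obtain ⟨l, hl⟩ : ∃ l : F, δ * l ^ q = y := ⟨(y / δ) ^ q, by rw [hqq]; field_simp⟩
    obtain ⟨k, hk⟩ := hfix x h.1
    obtain ⟨m, hm⟩ := hfix z h.2
    have hmid : qe 0 y 0 = Zv 1 l * (Zv 1 0)⁻¹ * (qe 0 0 (δ * (l * l ^ q)))⁻¹ := by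
      have o1 : okq δ 0 0 := ⟨hδ, by rw [h0q, neg_zero]⟩
      have o2 : okq (0 : F) 0 (δ * (l * l ^ q)) := ⟨by rw [h0q, neg_zero], hoks hδ rfl (hnorm l)⟩
      rw [h10, qe_inv o1, qe_inv o2]
      show _ = qe _ _ _ * _ * _
      obtain ⟨a1, a2⟩ := qe_mul (hZok 1 l) (hokneg o1)
      rw [a2, (qe_mul a1 (hokneg o2)).2]
      congr 1
      · rw [one_pow]; ring
      · rw [← hl]; ring
      · ring
    have hsplit : qe x y z = Zv 1 0 ^ k * qe 0 y 0 * Zv 0 1 ^ m := by
      have o1 : okq δ 0 0 := ⟨hδ, by rw [h0q, neg_zero]⟩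
      have o2 : okq (0 : F) 0 δ := ⟨by rw [h0q, neg_zero], hδ⟩
      have o3 : okq (0 : F) y 0 := ⟨by rw [h0q, neg_zero], by rw [h0q, neg_zero]⟩
      rw [h10, h01, (hpow k o1).1, (hpow m o2).1]
      obtain ⟨a1, a2⟩ := qe_mul (hpow k o1).2 o3
      rw [a2, (qe_mul a1 (hpow m o2).2).2, ← hk, ← hm]
      simp
    have hzero : qe 0 0 (δ * (l * l ^ q)) = Zv 0 l := by
      show _ = qe _ _ _
      simp [h0q]
    rw [hsplit, hmid, hzero]
    have m : ∀ v w, Zv v w ∈ closure {s | ∃ v w, Zv v w = s} :=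
      fun v w => Subgroup.subset_closure ⟨v, w, rfl⟩
    exact mul_mem (mul_mem (pow_mem (m _ _) _) (mul_mem (mul_mem (m _ _) (inv_mem (m _ _))) (inv_mem (m _ _))))
      (pow_mem (m _ _) _)
  let A : Subgroup Γ := Q.comap σ
  set G₀ := closure {g | ∃ v w, r (Zv v w) = g} ⊔ σ.ker with hG₀
  have hAG : A ≤ G₀ := by
    intro a ha
    have h1 : σ a ∈ G₀.map σ := by
      refine (hQgen.trans ((Subgroup.closure_le _).2 ?_)) ha
      rintro _ ⟨v, w, rfl⟩
      exact ⟨r (Zv v w), mem_sup_left (Subgroup.subset_closure ⟨v, w, rfl⟩), hr _⟩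
    obtain ⟨g, hg, hga⟩ := h1
    rw [show a = g * (g⁻¹ * a) by group]
    exact mul_mem hg (mem_sup_right (by simp [MonoidHom.mem_ker, hga]))
  have hG₀c : G₀ ≤ centralizer (G₀ : Set Γ) := by
    have hg : ∀ v w, G₀ ≤ centralizer {r (Zv v w)} := fun v w => by
      refine sup_le ((Subgroup.closure_le _).2 ?_) (hc.trans (center_le_centralizer _))
      rintro _ ⟨v', w', rfl⟩
      rw [SetLike.mem_coe, mem_centralizer_singleton_iff]
      exact (pairs v' w' v w).eq
    refine sup_le ((Subgroup.closure_le _).2 ?_) (hc.trans (center_le_centralizer _))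
    rintro _ ⟨v, w, rfl⟩
    rw [SetLike.mem_coe, mem_centralizer_iff]
    exact fun g hgm => mem_centralizer_singleton_iff.1 (hg v w hgm)
  have hA : ∀ a ∈ A, ∀ b ∈ A, Commute a b := fun a ha b hb =>
    (mem_centralizer_iff.1 (hG₀c (hAG ha)) b (hAG hb)).symm
  -- the lifts of the root subgroup of the Levi subgroup commute
  let R' : Subgroup Γ := R.range.comap σ
  have hw := B.exists_wMat hF
  obtain ⟨w₀, hw₀⟩ := hw
  have hwR : ∀ t, w₀ * rt t * w₀⁻¹ ∈ Q := by
    intro t
    refine ⟨0, t, 0, ⟨hok0.1, hok0.2⟩, ?_⟩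
    rw [mul_inv_eq_iff_eq_mul]
    refine B.E_injective ?_
    rw [B.E_mul, B.E_mul, hw₀, hrt, hqe _ _ _ (show okq 0 t 0 from ⟨hok0.1, hok0.2⟩)]
    ext i j
    fin_cases i <;> fin_cases j <;>
      simp [wMat, qMat, lMat, Matrix.mul_apply, Fin.sum_univ_five, h0q]
  have hR : ∀ g ∈ R', ∀ g' ∈ R', Commute g g' := by
    intro g hg g' hg'
    obtain ⟨t, ht⟩ := hg
    obtain ⟨t', ht'⟩ := hg'
    have h1 : r w₀ * g * (r w₀)⁻¹ ∈ A := by
      show σ _ ∈ Q
      rw [map_mul, map_mul, map_inv, hr, ← ht]; exact hwR _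
    have h2 : r w₀ * g' * (r w₀)⁻¹ ∈ A := by
      show σ _ ∈ Q
      rw [map_mul, map_mul, map_inv, hr, ← ht']; exact hwR _
    have h := (hA _ h1 _ h2).map (MulAut.conj (r w₀)⁻¹).toMonoidHom
    simpa [mul_assoc] using h
  have hRQ : ∀ t, ∀ s ∈ Q, rt t * s * (rt t)⁻¹ ∈ Q := by
    rintro t _ ⟨x, y, z, h, rfl⟩
    exact ⟨_, _, _, hokconj 1 t 0 1 h, le_conj (hd1 t) h⟩
  have hnormA : ∀ g ∈ R', ∀ a ∈ A, g * a * g⁻¹ ∈ A := by
    intro g hg a ha
    obtain ⟨t, ht⟩ := hg
    show σ _ ∈ Q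
    rw [map_mul, map_mul, map_inv, ← ht]
    exact hRQ (Multiplicative.toAdd t) _ ha
  -- the group
  have hnormR : R.range ≤ normalizer (Q : Set (Cfsg.SU 5 F q)) := by
    rintro _ ⟨t, rfl⟩
    rw [mem_normalizer_iff]
    intro g
    refine ⟨fun hg => hRQ (Multiplicative.toAdd t) g hg, fun hg => ?_⟩
    have h := hRQ (-Multiplicative.toAdd t) _ hg
    rw [← rt_inv] at h
    have e : rt (Multiplicative.toAdd t) = R t := rfl
    rwa [e, inv_inv, show (R t)⁻¹ * (R t * g * (R t)⁻¹) * R t = g by group] at h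
  let H : Subgroup (Cfsg.SU 5 F q) := Q ⊔ R.range
  have hHdec : ∀ s ∈ H, ∃ x y z t, okq x y z ∧ s = qe x y z * rt t := by
    intro s hs
    have hs' : s ∈ ((Q ⊔ R.range : Subgroup (Cfsg.SU 5 F q)) : Set (Cfsg.SU 5 F q)) := hs
    rw [coe_mul_of_right_le_normalizer_left Q R.range hnormR] at hs'
    obtain ⟨_, ⟨x, y, z, h, rfl⟩, _, ⟨t, rfl⟩, rfl⟩ := Set.mem_mul.1 hs'
    exact ⟨x, y, z, Multiplicative.toAdd t, h, rfl⟩
  have hmemH : ∀ {x y z t}, okq x y z → qe x y z * rt t ∈ H := fun {x y z t} h =>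
    mul_mem (mem_sup_left (hQmem h)) (mem_sup_right ⟨_, rfl⟩)
  have hblock : H ≤ (bk (F := F) (q := q) 1 (show 1 + 4 ≤ 5 by omega)).range := by
    intro s hs
    obtain ⟨x, y, z, t, h, rfl⟩ := hHdec s hs
    refine B.mem_block hF ?_
    rw [B.E_mul, hqe _ _ _ h, hrt, ← Matrix.mulVec_mulVec]
    funext i
    fin_cases i <;>
      simp [qMat, lMat, Matrix.mulVec, dotProduct, Fin.sum_univ_five]
  have hcard : Nat.card H = q ^ 6 := by
    have hnat : ∀ k : Fin q, ((k : ℕ) : F) ^ q = (k : ℕ) := fun k => by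
      rw [← hermConj_apply hF, map_natCast]
    have hok : ∀ (k l : Fin q) (y : F), okq (δ * (k : ℕ)) y (δ * (l : ℕ)) := fun k l y =>
      ⟨hoks hδ rfl (hnat k), hoks hδ rfl (hnat l)⟩
    let f : (Fin q × Fin q) × (F × F) → H := fun p =>
      ⟨qe (δ * (p.1.1 : ℕ)) p.2.1 (δ * (p.1.2 : ℕ)) * rt p.2.2, hmemH (hok _ _ _)⟩
    have hchar : ∀ k l : Fin q, ((k : ℕ) : F) = (l : ℕ) → k = l := by
      intro k l h
      obtain ⟨p, hp⟩ := CharP.exists F
      obtain ⟨n, hpp, hn⟩ := FiniteField.card F p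
      have hqp : q = p := by
        have h1 : p ∣ q := hpp.dvd_of_dvd_pow (n := 2) (by rw [← hF, hn]; exact dvd_pow_self p n.ne_zero)
        rcases hq with rfl | rfl
        · exact ((Nat.prime_dvd_prime_iff_eq hpp Nat.prime_two).1 h1).symm
        · exact ((Nat.prime_dvd_prime_iff_eq hpp Nat.prime_three).1 h1).symm
      have := (CharP.natCast_eq_natCast F p).1 h
      exact Fin.ext (by rwa [Nat.ModEq, Nat.mod_eq_of_lt (hqp ▸ k.2), Nat.mod_eq_of_lt (hqp ▸ l.2)] at this)
    have hf : Function.Bijective f := by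
      refine ⟨?_, ?_⟩
      · rintro ⟨⟨k, l⟩, y, t⟩ ⟨⟨k', l'⟩, y', t'⟩ h
        have hE := congrArg (fun s : H => B.E s.1) h
        simp only [f, B.E_mul, hqe _ _ _ (hok k l y), hqe _ _ _ (hok k' l' y'), hrt] at hE
        have et := congrFun (congrFun hE 0) 1
        simp [qMat, lMat, Matrix.mul_apply, Fin.sum_univ_five, h0q] at et
        subst et
        have hE' := congrArg (fun g => g * lMat q (1 : F) (-t) 0 1) hE
        simp only [mul_assoc, IsoBasis.lMat_unip_mul hF, add_neg_cancel, IsoBasis.lMat_one hF, mul_one] at hE'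
        have e1 := congrFun (congrFun hE' 0) 4
        have e2 := congrFun (congrFun hE' 0) 3
        have e3 := congrFun (congrFun hE' 1) 3
        simp [qMat, hδ0] at e1 e2 e3
        rw [hchar _ _ e1, hchar _ _ e3, e2]
      · rintro ⟨s, hs⟩
        obtain ⟨x, y, z, t, h, rfl⟩ := hHdec s hs
        obtain ⟨k, hk⟩ := IsoBasis.exists_cast_of_fixed hF hq (c := x / δ)
          (by rw [div_pow, h.1, hδ, neg_div_neg_eq])
        obtain ⟨l, hl⟩ := IsoBasis.exists_cast_of_fixed hF hq (c := z / δ)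
          (by rw [div_pow, h.2, hδ, neg_div_neg_eq])
        refine ⟨((k, l), (y, t)), Subtype.ext ?_⟩
        show qe (δ * ((k : ℕ) : F)) y (δ * ((l : ℕ) : F)) * rt t = _
        rw [← hk, ← hl, mul_div_cancel₀ _ hδ0, mul_div_cancel₀ _ hδ0]
    rw [← Nat.card_eq_of_bijective f hf, Nat.card_prod, Nat.card_prod, Nat.card_prod, Nat.card_fin,
      Nat.card_eq_fintype_card, hF]
    ring
  refine ⟨H, hblock, hcard, fun z hz hzH hzq => ?_⟩
  have hdec : ∀ g ∈ H.comap σ, ∃ a ∈ A, ∃ h ∈ R', g = a * h := by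
    intro g hg
    obtain ⟨x, y, z, t, h, he⟩ := hHdec (σ g) hg
    refine ⟨g * (r (rt t))⁻¹, ?_, r (rt t), ?_, by group⟩
    · show σ _ ∈ Q
      rw [map_mul, map_inv, hr, he, mul_inv_cancel_right]; exact hQmem h
    · show σ _ ∈ R.range
      rw [hr]; exact ⟨_, rfl⟩
  have hcA : ∀ g ∈ R', ∀ a ∈ A, ⁅g, a⁆ ∈ A := fun g hg a ha => by
    rw [commutatorElement_def]; exact mul_mem (hnormA g hg a ha) (inv_mem ha)
  have hadd : ∀ g ∈ R', ∀ a ∈ A, ∀ b ∈ A, ⁅g, a * b⁆ = ⁅g, a⁆ * ⁅g, b⁆ := fun g hg a ha b hb =>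
    commutator_mul_right_of_commute (hA a ha _ (hcA g hg b hb))
  let adh : ∀ g ∈ R', A →* Γ := fun g hg =>
    MonoidHom.mk' (fun a => ⁅g, (a : Γ)⁆) fun a b => hadd g hg a a.2 b b.2
  rcases hq with rfl | rfl
  · -- two: translates of one lift
    set ζ := r (Zv 0 1) with hζ
    let ζt : F → Γ := fun t => r (rt t) * ζ * (r (rt t))⁻¹
    have hmv : ∀ s t, r (rt s) * ζt t * (r (rt s))⁻¹ = ζt (s + t) := by
      intro s t
      have hk : (r (rt (s + t)))⁻¹ * (r (rt s) * r (rt t)) ∈ σ.ker := by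
        simp [MonoidHom.mem_ker, hr _, rt_add]
      have := CfsgLib.Schur.ker_commute hc hk ζ
      show r (rt s) * (r (rt t) * ζ * (r (rt t))⁻¹) * (r (rt s))⁻¹ = r (rt (s + t)) * ζ * (r (rt (s + t)))⁻¹
      calc r (rt s) * (r (rt t) * ζ * (r (rt t))⁻¹) * (r (rt s))⁻¹
          = r (rt (s + t)) * ((r (rt (s + t)))⁻¹ * (r (rt s) * r (rt t)) * ζ *
              ((r (rt (s + t)))⁻¹ * (r (rt s) * r (rt t)))⁻¹) * (r (rt (s + t)))⁻¹ := by group
        _ = _ := by rw [this.eq, mul_inv_cancel_right]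
    have hσζ : ∀ t, σ (ζt t) = Zv t 1 := fun t => by
      show σ (r (rt t) * r (Zv 0 1) * (r (rt t))⁻¹) = _
      rw [map_mul, map_mul, map_inv, hr, hr, show rt t = le 1 t 0 1 from rfl, Zv_conj (hd1 t)]
      simp
    have hζA : ∀ t, ζt t ∈ A := fun t => by
      show σ _ ∈ Q
      rw [hσζ]; exact hQmem (hZok _ _)
    have hsq : ∀ t, ζt t * ζt t = ζ * ζ := fun t => by
      have hk : ζ * ζ ∈ σ.ker := by
        rw [MonoidHom.mem_ker, map_mul, hr, (qe_mul (hZok 0 1) (hZok 0 1)).2, ← qe_zero]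
        have h2 : (2 : F) = 0 := by
          have h4 := FiniteField.cast_card_eq_zero F
          rw [hF, Nat.cast_pow, Nat.cast_ofNat] at h4
          exact pow_eq_zero_iff two_ne_zero |>.1 h4
        congr 1 <;> rw [← two_mul, h2, zero_mul]
      show (r (rt t) * ζ * (r (rt t))⁻¹) * (r (rt t) * ζ * (r (rt t))⁻¹) = _
      calc _ = r (rt t) * (ζ * ζ) * (r (rt t))⁻¹ := by group
        _ = _ := by rw [← (CfsgLib.Schur.ker_commute hc hk _).eq, mul_inv_cancel_right]
    let J : Subgroup Γ := closure {g | ∃ t, ζt t * ζ⁻¹ = g}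
    have hfix : ∀ g ∈ R', ⁅g, r (Zv 1 0)⁆ = 1 := by
      have hker : ∀ t, ⁅r (rt t), r (Zv 1 0)⁆ ∈ σ.ker := fun t => by
        rw [MonoidHom.mem_ker, map_commutatorElement, hr, hr, commutatorElement_def,
          show rt t = le 1 t 0 1 from rfl, Zv_conj (hd1 t)]
        simp
      let f : F → Γ := fun t => ⁅r (rt t), r (Zv 1 0)⁆
      have hfadd : ∀ s t, f (s + t) = f s * f t := fun s t => by
        show ⁅r (rt (s + t)), _⁆ = _
        rw [CfsgLib.Schur.commutator_congr hc (x' := r (rt s) * r (rt t)) (by simp [hr _, rt_add]) rfl]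
        calc ⁅r (rt s) * r (rt t), r (Zv 1 0)⁆ = r (rt s) * f t * (r (rt s))⁻¹ * f s := by
              simp only [f, commutatorElement_def]; group
          _ = f t * f s := by rw [← (CfsgLib.Schur.ker_commute hc (hker t) _).eq, mul_inv_cancel_right]
          _ = _ := (CfsgLib.Schur.ker_commute hc (hker t) _).eq
      have hfinv : ∀ (μ : F), μ ≠ 0 → ∀ t, f (μ * t) = f t := fun μ hμ t => by
        have hD : (1 : F) * μ⁻¹ - 0 * 0 ≠ 0 := by simp [hμ]
        set g := r (le 1 0 0 μ⁻¹)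
        have h1 : σ (g * r (Zv 1 0) * g⁻¹) = σ (r (Zv 1 0)) := by
          rw [map_mul, map_mul, map_inv, hr, hr, Zv_conj hD]; simp
        have h2 : σ (g * r (rt t) * g⁻¹) = σ (r (rt (μ * t))) := by
          rw [map_mul, map_mul, map_inv, hr, hr, hr, mul_inv_eq_iff_eq_mul]
          refine B.E_injective ?_
          rw [B.E_mul, B.E_mul, hrt, hrt, hle _ _ _ _ hD]
          ext i j
          fin_cases i <;> fin_cases j <;>
            simp [lMat, Matrix.mul_apply, Fin.sum_univ_five, h0q, mul_pow, inv_pow] <;> field_simp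
        show ⁅r (rt (μ * t)), r (Zv 1 0)⁆ = f t
        rw [← CfsgLib.Schur.commutator_congr hc h2 h1]
        calc ⁅g * r (rt t) * g⁻¹, g * r (Zv 1 0) * g⁻¹⁆ = g * f t * g⁻¹ := by
              simp only [f, commutatorElement_def]; group
          _ = f t := by rw [← (CfsgLib.Schur.ker_commute hc (hker t) g).eq, mul_inv_cancel_right]
      obtain ⟨μ, hμ, hμ1⟩ := exists_norm_one_sq_ne hF
      have hμ0 : μ ≠ 0 := fun h => by simp [h] at hμ
      have hμ' : μ - 1 ≠ 0 := fun h => hμ1 (by rw [sub_eq_zero.1 h, one_mul])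
      have hf1 : ∀ t, f t = 1 := fun t => by
        have e := hfadd ((μ - 1) * (t / (μ - 1))) (t / (μ - 1))
        rw [show (μ - 1) * (t / (μ - 1)) + t / (μ - 1) = μ * (t / (μ - 1)) by ring, hfinv μ hμ0,
          mul_div_cancel₀ _ hμ'] at e
        exact (mul_eq_right.1 e.symm)
      intro g hg
      obtain ⟨t, ht⟩ := hg
      rw [← hf1 (Multiplicative.toAdd t)]
      exact CfsgLib.Schur.commutator_congr hc (by rw [hr]; exact ht.symm) rfl
    have hIJ : ∀ g ∈ R', ∀ a ∈ A, ⁅g, a⁆ ∈ J := by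
      intro g hg
      obtain ⟨s, hs⟩ := id hg
      have hgs : σ g = σ (r (rt (Multiplicative.toAdd s))) := by rw [hr]; exact hs.symm
      -- generators of `A`
      set K := closure ({r (Zv 1 0)} ∪ {x | ∃ t, ζt t = x}) ⊔ σ.ker with hK
      have hAK : A ≤ K := by
        intro a ha
        obtain ⟨y, hy, hya⟩ : σ a ∈ K.map σ := by
          refine (hQgen.trans ((Subgroup.closure_le _).2 ?_)) ha
          rintro _ ⟨v, w, rfl⟩
          by_cases hw : w = 0
          · by_cases hv : v = 0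
            · refine ⟨1, one_mem _, ?_⟩
              rw [map_one, hv, hw, ← qe_zero]
              show _ = qe _ _ _
              simp only [zero_mul, mul_zero]
            · refine ⟨r (Zv 1 0), mem_sup_left (Subgroup.subset_closure (Or.inl rfl)), ?_⟩
              rw [hr]
              have h1 : v * v ^ 2 = 1 := by
                obtain ⟨k, hk⟩ := IsoBasis.exists_cast_of_fixed hF (Or.inl rfl) (hnorm v)
                fin_cases k
                · simp [hv] at hk
                · simpa using hk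
              show qe _ _ _ = qe _ _ _
              rw [h1, hw]; simp
          · refine ⟨ζt (v / w), mem_sup_left (Subgroup.subset_closure (Or.inr ⟨_, rfl⟩)), ?_⟩
            rw [hσζ]
            have h1 : w * w ^ 2 = 1 := by
              obtain ⟨k, hk⟩ := IsoBasis.exists_cast_of_fixed hF (Or.inl rfl) (hnorm w)
              fin_cases k
              · simp [hw] at hk
              · simpa using hk
            show qe _ _ _ = qe _ _ _
            congr 1
            · rw [div_pow]; field_simp; linear_combination -(v * v ^ 2) * h1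
            · field_simp; linear_combination -v * h1
            · rw [h1]; simp
        rw [show a = y * (y⁻¹ * a) by group]
        exact mul_mem hy (mem_sup_right (by simp [MonoidHom.mem_ker, hya]))
      intro a ha
      have hKle : K ≤ (J.comap (adh g hg)).map A.subtype := by
        refine sup_le ((Subgroup.closure_le _).2 ?_) fun x hx => ?_
        · rintro x (rfl | ⟨t, rfl⟩)
          · refine ⟨⟨r (Zv 1 0), by show σ _ ∈ Q; rw [hr]; exact hQmem (hZok _ _)⟩, ?_, rfl⟩
            show ⁅g, r (Zv 1 0)⁆ ∈ J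
            rw [hfix g hg]; exact one_mem _
          · refine ⟨⟨ζt t, hζA t⟩, ?_, rfl⟩
            show ⁅g, ζt t⁆ ∈ J
            rw [CfsgLib.Schur.commutator_congr hc hgs rfl, commutatorElement_def, hmv,
              show ζt (Multiplicative.toAdd s + t) * (ζt t)⁻¹ =
                ζt (Multiplicative.toAdd s + t) * ζ⁻¹ * (ζt t * ζ⁻¹)⁻¹ by group]
            exact mul_mem (Subgroup.subset_closure ⟨_, rfl⟩) (inv_mem (Subgroup.subset_closure ⟨_, rfl⟩))
        · refine ⟨⟨x, by show σ _ ∈ Q; rw [MonoidHom.mem_ker.1 hx]; exact one_mem Q⟩, ?_, rfl⟩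
          show ⁅g, x⁆ ∈ J
          rw [commutatorElement_eq_one_iff_commute.2 (CfsgLib.Schur.ker_commute hc hx g).symm]
          exact one_mem _
      obtain ⟨⟨x, hxA⟩, hx, rfl⟩ := hKle (hAK ha)
      exact hx
    have hzJ : z ∈ J := by
      refine (commutator_le.2 fun x hx y hy => ?_) hzH
      exact commutator_le_mixed A R' hA hR hnormA J hIJ (hdec x hx) (hdec y hy)
    -- `J` is elementary abelian on three generators
    obtain ⟨ω, hω⟩ : ∃ ω : F, ω ≠ 0 ∧ ω ≠ 1 := by
      obtain ⟨ω, hω1, hω2⟩ := exists_norm_one_sq_ne hF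
      exact ⟨ω, fun h => by simp [h] at hω1, fun h => hω2 (by rw [h, one_mul])⟩
    have hcube : ∀ v : F, v ≠ 0 → v ^ 3 = 1 := fun v hv => by
      have := FiniteField.pow_card_sub_one_eq_one v hv
      rwa [hF] at this
    have h20 : (2 : F) = 0 := by
      have h4 := FiniteField.cast_card_eq_zero F
      rw [hF, Nat.cast_pow, Nat.cast_ofNat] at h4
      exact pow_eq_zero_iff two_ne_zero |>.1 h4
    have hω3 : ω ^ 2 + ω + 1 = 0 := by
      have h1 : (ω - 1) * (ω ^ 2 + ω + 1) = 0 := by linear_combination hcube ω hω.1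
      exact (mul_eq_zero.1 h1).resolve_left (sub_ne_zero.2 hω.2)
    have hall : ∀ t : F, t = 0 ∨ t = 1 ∨ t = ω ∨ t = ω + 1 := by
      intro t
      by_cases ht : t = 0
      · exact Or.inl ht
      have h1 : (t - 1) * ((t - ω) * (t - (ω + 1))) = 0 := by
        linear_combination hcube t ht + (t - 1) * hω3 - (t - 1) * ((ω + 1) * t + 1) * h20
      rcases mul_eq_zero.1 h1 with h | h
      · exact Or.inr (Or.inl (sub_eq_zero.1 h))
      rcases mul_eq_zero.1 h with h | h
      · exact Or.inr (Or.inr (Or.inl (sub_eq_zero.1 h)))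
      · exact Or.inr (Or.inr (Or.inr (sub_eq_zero.1 h)))
    let gen : F → Γ := fun t => ζt t * ζ⁻¹
    have hgenA : ∀ t, gen t ∈ A := fun t => mul_mem (hζA t) (inv_mem (by
      show σ _ ∈ Q
      rw [hr]; exact hQmem (hZok _ _)))
    have hgsq : ∀ t, gen t * gen t = 1 := fun t => by
      have hζmem : ζ⁻¹ ∈ A := inv_mem (by show σ _ ∈ Q; rw [hr]; exact hQmem (hZok _ _))
      show ζt t * ζ⁻¹ * (ζt t * ζ⁻¹) = 1
      calc ζt t * ζ⁻¹ * (ζt t * ζ⁻¹) = ζt t * (ζ⁻¹ * ζt t) * ζ⁻¹ := by group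
        _ = ζt t * (ζt t * ζ⁻¹) * ζ⁻¹ := by rw [(hA _ hζmem _ (hζA t)).eq]
        _ = ζt t * ζt t * (ζ * ζ)⁻¹ := by group
        _ = 1 := by rw [hsq, mul_inv_cancel]
    have hgen0 : gen 0 = 1 := by
      show r (rt 0) * ζ * (r (rt 0))⁻¹ * ζ⁻¹ = 1
      have hk : r (rt 0) ∈ σ.ker := by rw [MonoidHom.mem_ker, hr, rt_zero]
      rw [(CfsgLib.Schur.ker_commute hc hk ζ).eq, mul_inv_cancel_right, mul_inv_cancel]
    let K3 : Set Γ := {x | ∃ a b c : Bool, x = cond a (gen 1) 1 * cond b (gen ω) 1 * cond c (gen (ω + 1)) 1}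
    have hK3A : ∀ (a : Bool) t, cond a (gen t) 1 ∈ A := fun a t => by
      cases a
      · exact one_mem A
      · exact hgenA t
    have hJK : ∀ x ∈ J, x ∈ K3 := by
      intro x hx
      have step : ∀ x ∈ K3, ∀ t, x * gen t ∈ K3 := by
        rintro _ ⟨a, b, c, rfl⟩ t
        have hc3 := hA _ (hK3A c (ω + 1)) _ (hgenA t)
        have hb3 := hA _ (hK3A b ω) _ (hgenA t)
        have hsw : ∀ (e : Bool) u, cond e (gen u) 1 * gen u = cond (!e) (gen u) 1 := fun e u => by
          cases e <;> simp [hgsq]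
        rcases hall t with rfl | rfl | rfl | rfl
        · exact ⟨a, b, c, by rw [hgen0, mul_one]⟩
        · exact ⟨!a, b, c, by rw [mul_assoc, hc3.eq, ← mul_assoc, mul_assoc (cond a _ 1), hb3.eq, ← mul_assoc, hsw]⟩
        · exact ⟨a, !b, c, by rw [mul_assoc, hc3.eq, ← mul_assoc, mul_assoc (cond a _ 1), hsw]⟩
        · exact ⟨a, b, !c, by rw [mul_assoc, hsw]⟩
      induction hx using Subgroup.closure_induction_right with
      | one => exact ⟨false, false, false, by simp⟩
      | mul_right y hy z hz ih =>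
        obtain ⟨t, rfl⟩ := hz
        exact step y ih t
      | mul_inv_cancel y hy z hz ih =>
        obtain ⟨t, rfl⟩ := hz
        rw [show (ζt t * ζ⁻¹)⁻¹ = gen t from inv_eq_of_mul_eq_one_right (hgsq t)]
        exact step y ih t
    obtain ⟨a, b, c, rfl⟩ := hJK z hzJ
    -- the images are independent
    have hσgen : ∀ t, B.E (σ (gen t)) = qMat 2 (δ * (t * t ^ 2)) (δ * t) 0 := by
      intro t
      show B.E (σ (ζt t * (r (Zv 0 1))⁻¹)) = _
      rw [map_mul, map_inv, hσζ, hr, h01]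
      rw [qe_inv (show okq 0 0 δ from ⟨by rw [h0q, neg_zero], hδ⟩)]
      obtain ⟨m1, m2⟩ := qe_mul (hZok t 1) (hokneg (show okq 0 0 δ from ⟨by rw [h0q, neg_zero], hδ⟩))
      show B.E (qe _ _ _ * _) = _
      rw [m2, hqe _ _ _ m1]
      congr 1 <;> simp
    have hz1 : σ (cond a (gen 1) 1 * cond b (gen ω) 1 * cond c (gen (ω + 1)) 1) = 1 := hz
    have hE := congrArg B.E hz1
    have hcond : ∀ (e : Bool) t, B.E (σ (cond e (gen t) 1)) =
        qMat 2 (cond e (δ * (t * t ^ 2)) 0) (cond e (δ * t) 0) 0 := fun e t => by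
      cases e
      · simp only [cond_false, map_one, B.E_one]
        ext i j
        fin_cases i <;> fin_cases j <;> simp [qMat]
      · exact hσgen t
    rw [map_mul, map_mul, B.E_mul, B.E_mul, hcond, hcond, hcond, B.E_one, IsoBasis.qMat_mul hF,
      IsoBasis.qMat_mul hF] at hE
    have e1 := congrFun (congrFun hE 0) 3
    have e2 := congrFun (congrFun hE 0) 4
    have hωc := hcube ω hω.1
    have hω1 : ω + 1 ≠ 0 := fun h => hω.1 (by
      have h0 : ω ^ 2 = 0 := by linear_combination hω3 - h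
      exact (pow_eq_zero_iff two_ne_zero).1 h0)
    have hω1c := hcube _ hω1
    cases a <;> cases b <;> cases c <;> simp [qMat] at e1 e2 ⊢
    all_goals exfalso
    all_goals first
      | exact hδ0 e1
      | exact hω.1 e1
      | exact hω1 e1
      | exact e1.elim hδ0 hω1
      | exact e1.elim hδ0 hω.1
      | exact hω1 (mul_left_cancel₀ hδ0 (by linear_combination e1))
      | exact hω.1 (mul_left_cancel₀ hδ0 (by linear_combination e1))
      | exact hω.1 (mul_left_cancel₀ hδ0 (by linear_combination e1 - δ * h20))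
      | exact hδ0 (by linear_combination e1 - δ * ω * h20)
      | exact hδ0 (by linear_combination e2 - δ * hωc - δ * hω1c - δ * h20)
  · -- three: an element inverting the radical
    have h30 : (3 : F) = 0 := by
      have h9 := FiniteField.cast_card_eq_zero F
      rw [hF, Nat.cast_pow, Nat.cast_ofNat] at h9
      exact pow_eq_zero_iff two_ne_zero |>.1 h9
    obtain ⟨b, hb0, hb⟩ := exists_norm_eq hF (c := (-1 : F)) (by rw [herm_conj_neg hF, one_pow])
      (neg_ne_zero.2 one_ne_zero)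
    rw [pow_succ'] at hb
    have hD : b * b - 0 * 0 ≠ 0 := by simpa using hb0
    set d := r (le b 0 0 b) with hd
    have hinvA : ∀ a ∈ A, σ (d * a * d⁻¹) = σ (a⁻¹) := by
      intro a ha
      obtain ⟨x, y, z, h, he⟩ := ha
      rw [map_mul, map_mul, map_inv, map_inv, hd, hr, he, le_conj hD h, qe_inv h]
      congr 1 <;> simp only [qConj, h0q, mul_zero, zero_mul, add_zero, zero_add, sub_zero]
      · linear_combination x * hb
      · linear_combination y * hb
      · linear_combination z * hb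
    have hfixR : ∀ g ∈ R', σ (d * g * d⁻¹) = σ g := by
      intro g hg
      obtain ⟨t, ht⟩ := hg
      rw [map_mul, map_mul, map_inv, hd, hr, ← ht, mul_inv_eq_iff_eq_mul]
      refine B.E_injective ?_
      rw [B.E_mul, B.E_mul, hle _ _ _ _ hD, show R t = rt (Multiplicative.toAdd t) from rfl, hrt]
      ext i j
      fin_cases i <;> fin_cases j <;>
        simp [lMat, Matrix.mul_apply, Fin.sum_univ_five, h0q, mul_pow] <;> ring
    let I : Subgroup Γ :=
      { carrier := {i | i ∈ A ∧ d * i * d⁻¹ = i⁻¹}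
        mul_mem' := by
          rintro x y ⟨hx, hx'⟩ ⟨hy, hy'⟩
          refine ⟨mul_mem hx hy, ?_⟩
          rw [show d * (x * y) * d⁻¹ = d * x * d⁻¹ * (d * y * d⁻¹) by group, hx', hy', ← _root_.mul_inv_rev,
            (hA x hx y hy).eq]
        one_mem' := ⟨one_mem A, by group⟩
        inv_mem' := by
          rintro x ⟨hx, hx'⟩
          exact ⟨inv_mem hx, by rw [show d * x⁻¹ * d⁻¹ = (d * x * d⁻¹)⁻¹ by group, hx']⟩ }
    have hI : ∀ g ∈ R', ∀ a ∈ A, ⁅g, a⁆ ∈ I := by
      intro g hg a ha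
      refine ⟨hcA g hg a ha, ?_⟩
      rw [show d * ⁅g, a⁆ * d⁻¹ = ⁅d * g * d⁻¹, d * a * d⁻¹⁆ by simp only [commutatorElement_def]; group,
        CfsgLib.Schur.commutator_congr hc (hfixR g hg) (hinvA a ha)]
      exact map_inv (adh g hg) ⟨a, ha⟩
    obtain ⟨-, hzd⟩ : z ∈ I := by
      refine (commutator_le.2 fun x hx y hy => ?_) hzH
      exact commutator_le_mixed A R' hA hR hnormA I hI (hdec x hx) (hdec y hy)
    rw [← (CfsgLib.Schur.ker_commute hc hz d).eq, mul_inv_cancel_right] at hzd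
    rwa [pow_succ, pow_two, eq_inv_iff_mul_eq_one.1 hzd, one_mul] at hzq

end CfsgLib.SUMult
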