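import Cfsg.Agent.Lib.SUMult.FiveRadical
import Cfsg.Agent.Lib.SUMult.FiveMonoThree

/-!
In central extensions of `SU_n(q)`, `q ≤ 3` and `n ≥ 5`, blocks on four coordinates lift.
-/

set_option autoImplicit false
set_option linter.unusedSectionVars false

namespace CfsgLib.SUMult

open Subgroup Cfsg CfsgLib.Schur CfsgLib.Phan CfsgLib.ClassicalGroups
open scoped commutatorElement Pointwise

universe u

variable {F : Type u} [Field F] [Fintype F] {q : ℕ}

/-- Away from the characteristic `SU₅(q)`, `q ≤ 3`, has no multiplier. -/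
theorem noMultiplierAt_su_five_cross (hF : Fintype.card F = q ^ 2) (hq : q = 2 ∨ q = 3) {ℓ : ℕ}
    [hl : Fact ℓ.Prime] (hℓ : ℓ ≠ q) : NoMultiplierAt ℓ (Cfsg.SU 5 F q) := by
  rcases hq with rfl | rfl
  · by_cases h3 : ℓ = 3
    · subst h3; exact noMultiplierAt_su_five_two_three hF
    · exact noMultiplierAt_su_five_two_large hF hℓ h3
  · by_cases h2 : ℓ = 2
    · subst h2; exact noMultiplierAt_su_five_three_two hF
    refine noMultiplierAt_of_sq_not_dvd fun h => ?_
    rw [card_su_five_three hF, show 3 ^ 10 * 4372480 = 3 ^ 10 * 2 ^ 11 * 2135 by norm_num] at h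
    have hco : Nat.Coprime (ℓ ^ 2) (3 ^ 10 * 2 ^ 11) :=
      Nat.Coprime.mul_right (Nat.Coprime.pow _ _ ((Nat.coprime_primes hl.out Nat.prime_three).2 hℓ))
        (Nat.Coprime.pow _ _ ((Nat.coprime_primes hl.out Nat.prime_two).2 h2))
    have h5 := hco.dvd_of_dvd_mul_left h
    have h4 := Nat.le_of_dvd (by norm_num) h5
    have h12 : ℓ ≤ 46 := by nlinarith
    have hlp := hl.out
    interval_cases ℓ <;> norm_num at *

theorem factorization_su_four (hF : Fintype.card F = q ^ 2) (hq : q = 2 ∨ q = 3) :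
    (Nat.card (Cfsg.SU 4 F q)).factorization q = 6 := by
  have h : (q + 1) * Nat.card (Cfsg.SU 4 F q) = q ^ 6 * ((q + 1) * (q ^ 2 - 1) * (q ^ 3 + 1) * (q ^ 4 - 1)) := by
    rw [card_SU_mul hF (by omega), card_GU hF]
    simp [Finset.prod_range_succ, show ¬ Even (1 : ℕ) by decide, show ¬ Even (3 : ℕ) by decide,
      show Even (2 : ℕ) by decide]
  have key : ∃ d, ¬ q ∣ d ∧ Nat.card (Cfsg.SU 4 F q) = q ^ 6 * d := by
    rcases hq with rfl | rfl
    · exact ⟨405, by norm_num, by norm_num at h ⊢; omega⟩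
    · exact ⟨17920, by norm_num, by norm_num at h ⊢; omega⟩
  obtain ⟨d, hd, he⟩ := key
  have hp : q.Prime := by rcases hq with rfl | rfl <;> norm_num
  rw [he, Nat.factorization_mul (pow_ne_zero _ hp.ne_zero) (fun h0 => hd (by rw [h0]; exact dvd_zero q)),
    Finsupp.add_apply, hp.factorization_pow, Finsupp.single_eq_same,
    Nat.factorization_eq_zero_of_not_dvd hd, add_zero]

/-- In a central extension of `SU₅(q)`, `q ≤ 3`, the block on the last four coordinates lifts. -/
theorem exists_lift_block (hF : Fintype.card F = q ^ 2) (hq : q = 2 ∨ q = 3) {E : Type u} [Group E]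
    [Finite E] (p : E →* Cfsg.SU 5 F q) (hp : Function.Surjective p) (hc : p.ker ≤ center E) :
    ∃ f : Cfsg.SU 4 F q →* E, ∀ g, p (f g) = bk 1 (show 1 + 4 ≤ 5 by omega) g := by
  classical
  set ι : Cfsg.SU 4 F q →* Cfsg.SU 5 F q := bk 1 (show 1 + 4 ≤ 5 by omega) with hι
  have hperf4 : commutator (Cfsg.SU 4 F q) = ⊤ := SU_perfect hF (by omega) (by omega)
  have hperf5 : commutator (Cfsg.SU 5 F q) = ⊤ := SU_perfect hF (by omega) (by omega)
  have hqp : Fact q.Prime := ⟨by rcases hq with rfl | rfl <;> norm_num⟩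
  let X := CfsgLib.SchurCover.fibre ι p
  have : Finite X := Finite.of_injective _ Subtype.val_injective
  set τ : X →* Cfsg.SU 4 F q := CfsgLib.SchurCover.fibreFst ι p with hτ
  have hτs : Function.Surjective τ := CfsgLib.SchurCover.fibreFst_surjective ι hp
  have hτc : τ.ker ≤ center X := CfsgLib.SchurCover.ker_fibreFst_le_center ι hc
  set π : X →* E := CfsgLib.SchurCover.fibreSnd ι p with hπ
  have hrel : ∀ x, p (π x) = ι (τ x) := fun x => (CfsgLib.SchurCover.fibre_rel ι p x).symm
  have hext : ∀ w : X, τ w = 1 → π w = 1 → w = 1 := fun w h1 h2 => Subtype.ext (Prod.ext h1 h2)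
  suffices hbot : τ.ker ⊓ commutator X = ⊥ by
    obtain ⟨s, hs⟩ := CfsgLib.SchurCover.exists_section_of_perfect ((Group.isPerfect_def).2 hperf4) τ hτs hbot
    refine ⟨π.comp s, fun g => ?_⟩
    rw [MonoidHom.comp_apply, hrel]
    exact congrArg ι (DFunLike.congr_fun hs g)
  -- it is enough to kill the elements of prime order
  suffices key : ∀ ℓ : ℕ, ℓ.Prime → ∀ w ∈ τ.ker ⊓ commutator X, w ^ ℓ = 1 → w = 1 by
    refine (Subgroup.eq_bot_iff_forall _).2 fun w hw => ?_
    by_contra hne
    have ho : orderOf w ≠ 1 := fun h => hne (orderOf_eq_one_iff.1 h)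
    obtain ⟨ℓ, hℓ, k, hk⟩ := Nat.exists_prime_and_dvd ho
    have h1 := key ℓ hℓ (w ^ k) (pow_mem hw k) (by rw [← pow_mul, mul_comm, ← hk, pow_orderOf_eq_one])
    have h2 := orderOf_dvd_of_pow_eq_one h1
    rw [hk] at h2
    have hk0 : 0 < k := Nat.pos_of_ne_zero fun h0 => by
      rw [h0, mul_zero] at hk
      exact (isOfFinOrder_of_finite w).orderOf_pos.ne' hk
    have h3 := Nat.le_of_dvd hk0 h2
    nlinarith [hℓ.two_le]
  intro ℓ hℓ w hw hwℓ
  have hℓf : Fact ℓ.Prime := ⟨hℓ⟩
  have hek : π w ∈ p.ker := by rw [MonoidHom.mem_ker, hrel, MonoidHom.mem_ker.1 hw.1, map_one]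
  have hec : π w ∈ commutator E := by
    have : π w ∈ (commutator X).map π := mem_map_of_mem π hw.2
    rw [_root_.commutator_def X, map_commutator] at this
    exact commutator_mono le_top le_top this
  have hep : π w ^ ℓ = 1 := by rw [← map_pow, hwℓ, map_one]
  refine hext w hw.1 ?_
  by_cases hℓq : ℓ = q
  swap
  · exact noDerivedAt_of_perfect hperf5 (noMultiplierAt_su_five_cross hF hq hℓq) E p hp hc _ hek hec hep
  subst hℓq
  -- the derived group of the preimage is perfect
  set D := commutator X with hD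
  let ρ : D →* Cfsg.SU 4 F ℓ := τ.comp D.subtype
  have hρs : Function.Surjective ρ := fun g => by
    have hg : g ∈ D.map τ := by
      rw [hD, CfsgLib.SchurCover.map_commutator_eq τ hτs, hperf4]; exact mem_top g
    obtain ⟨x, hx, rfl⟩ := hg
    exact ⟨⟨x, hx⟩, rfl⟩
  have hperfD : commutator D = ⊤ := by
    have hle : D ≤ ⁅D, D⁆ := by
      conv_lhs => rw [hD, _root_.commutator_def X]
      rw [commutator_le]
      intro a _ b _
      obtain ⟨⟨x, hx⟩, hxa⟩ := hρs (τ a)
      obtain ⟨⟨y, hy⟩, hyb⟩ := hρs (τ b)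
      rw [commutator_congr hτc (x := a) (x' := x) (y := b) (y' := y) hxa.symm hyb.symm]
      exact commutator_mem_commutator hx hy
    apply map_injective D.subtype_injective
    rw [_root_.commutator_def ↥D, map_commutator, ← MonoidHom.range_eq_map, range_subtype]
    exact le_antisymm (commutator_le_self _) hle
  obtain ⟨H, hHle, hHcard, hH⟩ := exists_block_sylow hF hq p hp hc
  let S4 : Subgroup (Cfsg.SU 4 F ℓ) := H.comap ι
  have hS4 : Nat.card S4 = ℓ ^ (Nat.card (Cfsg.SU 4 F ℓ)).factorization ℓ := by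
    rw [factorization_su_four hF hq, ← hHcard]
    have hm : S4.map ι = H := by rw [Subgroup.map_comap_eq]; exact inf_eq_right.2 hHle
    conv_rhs => rw [← hm]
    exact (card_map_of_injective (K := S4) (bk_injective _ _)).symm
  obtain ⟨P, hP⟩ := exists_sylow_map_eq hρs (Sylow.ofCard S4 hS4)
  set w' : D := ⟨w, hw.2⟩ with hw'
  have hwc : w' ∈ center D := mem_center_iff.2 fun y => Subtype.ext (mem_center_iff.1 (hτc hw.1) y)
  have hwp : w' ∈ ⁅(P : Subgroup D), (P : Subgroup D)⁆ :=
    center_commutator_sylow P hwc (by rw [hperfD]; exact mem_top _)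
      (center_mem_sylow P hwc (Subtype.ext hwℓ))
  refine hH (π w) hek ?_ hep
  have h1 := mem_map_of_mem (π.comp D.subtype) hwp
  rw [map_commutator] at h1
  refine commutator_mono ?_ ?_ h1 <;>
  · rintro _ ⟨x, hx, rfl⟩
    show p (π (x : X)) ∈ H
    rw [hrel]
    have : ρ x ∈ (P : Subgroup D).map ρ := mem_map_of_mem ρ hx
    rw [hP] at this
    exact this

/-- In a central extension of `SU_n(q)`, `q ≤ 3`, `n ≥ 5`, any block on four coordinates lifts. -/
theorem exists_lift_four (hF : Fintype.card F = q ^ 2) (hq : q = 2 ∨ q = 3) {n : ℕ} (hn : 5 ≤ n)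
    {E : Type u} [Group E] [Finite E] (p : E →* Cfsg.SU n F q) (hp : Function.Surjective p)
    (hc : p.ker ≤ center E) (t : Fin 4 → Fin n) (ht : Function.Injective t) :
    ∃ f : Cfsg.SU 4 F q →* E, ∀ g, p (f g) = emb t ht g := by
  classical
  obtain ⟨l, hl⟩ : ∃ l, l ∉ Set.range t := by
    by_contra h
    push Not at h
    have h1 := Fintype.card_le_of_surjective t fun x => h x
    simp only [Fintype.card_fin] at h1
    omega
  let e : Fin 5 → Fin n := Fin.cons l t
  have he : Function.Injective e := Fin.cons_injective_iff.2 ⟨hl, ht⟩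
  let X := CfsgLib.SchurCover.fibre (emb (F := F) (q := q) e he) p
  have : Finite X := Finite.of_injective _ Subtype.val_injective
  obtain ⟨f, hf⟩ := exists_lift_block hF hq (CfsgLib.SchurCover.fibreFst (emb (F := F) (q := q) e he) p)
    (CfsgLib.SchurCover.fibreFst_surjective _ hp) (CfsgLib.SchurCover.ker_fibreFst_le_center _ hc)
  refine ⟨(CfsgLib.SchurCover.fibreSnd (emb (F := F) (q := q) e he) p).comp f, fun g => ?_⟩
  rw [MonoidHom.comp_apply, ← CfsgLib.SchurCover.fibre_rel, hf, bk, emb_comp]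
  exact emb_congr _ _ (funext fun a => by
    rw [show seg 1 (show 1 + 4 ≤ 5 by omega) a = a.succ from Fin.ext (by simp [seg, Nat.add_comm])]
    rfl) g

end CfsgLib.SUMult
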