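import Cfsg.Agent.Lib.SUMult.Derived
import Cfsg.Agent.Lib.SUMult.SLTwoCross
import Cfsg.Agent.Lib.ClassicalGroups.UnitaryTwo
import Cfsg.Agent.Lib.TwoGroups.PSUThreeSylow
import Cfsg.Agent.Lib.Laws.Embed
import Cfsg.Agent.S2427

/-!
`SU₃(q)` has no multiplier at the primes dividing the order of the stabiliser `GU₂(q)` to the
full extent.
-/

set_option autoImplicit false

namespace CfsgLib.SUMult

open Subgroup Cfsg CfsgLib.Schur CfsgLib.ClassicalGroups

universe u

variable {F : Type u} [Field F] [Fintype F] {q : ℕ}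

theorem exists_real_subfield (hF : Fintype.card F = q ^ 2) :
    ∃ K : Subfield F, Nat.card K = q := by
  classical
  have hq := herm_two_le hF
  let K : Subfield F := (hermConj hF).eqLocusField (RingHom.id F)
  have hmem : ∀ x : F, x ∈ K ↔ x ^ q = x := fun x => by
    show hermConj hF x = x ↔ _
    rw [hermConj_apply]
  refine ⟨K, ?_⟩
  let f : Kˣ →* Fˣ := Units.map K.subtype.toMonoidHom
  have hf : Function.Injective f := Units.map_injective K.subtype.injective
  have hr : f.range = (powMonoidHom (q - 1) : Fˣ →* Fˣ).ker := by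
    ext x
    rw [MonoidHom.mem_ker, powMonoidHom_apply]
    constructor
    · rintro ⟨y, rfl⟩
      refine Units.ext ?_
      rw [Units.val_pow_eq_pow_val, Units.val_one]
      have h1 : ((f y : Fˣ) : F) ^ q = (f y : Fˣ) := (hmem _).1 (y : K).2
      rw [← Nat.sub_add_cancel (show 1 ≤ q by omega), pow_succ, mul_eq_right₀ (Units.ne_zero _)] at h1
      exact h1
    · intro hx
      have h1 : (x : F) ^ q = x := by
        rw [← Nat.sub_add_cancel (show 1 ≤ q by omega), pow_succ, ← Units.val_pow_eq_pow_val, hx,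
          Units.val_one, one_mul]
      refine ⟨Units.mk0 ⟨x, (hmem _).2 h1⟩ fun h => x.ne_zero (congrArg Subtype.val h), ?_⟩
      exact Units.ext rfl
  have h := Nat.card_congr (MonoidHom.ofInjective hf).toEquiv
  rw [hr, IsCyclic.card_powMonoidHom_ker, Nat.card_units, Nat.card_units, Nat.card_eq_fintype_card (α := F), hF,
    Nat.gcd_eq_right (Nat.sub_one_dvd_pow_sub_one q 2)] at h
  have hpos : 0 < Nat.card K := Nat.card_pos
  omega

theorem commutator_su_two (hF : Fintype.card F = q ^ 2) (hq : 4 ≤ q) :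
    commutator (Cfsg.SU 2 F q) = ⊤ := by
  classical
  obtain ⟨K, hK⟩ := exists_real_subfield hF
  rw [Nat.card_eq_fintype_card] at hK
  obtain ⟨e⟩ := su_two_equiv_sl hF hK
  rw [← CfsgLib.SchurCover.map_commutator_eq e.symm.toMonoidHom e.symm.surjective,
    CfsgLib.Laws.sl_two_perfect (hK ▸ hq), map_top_of_surjective _ e.symm.surjective]

theorem noMultiplierAt_su_two (hF : Fintype.card F = q ^ 2) {ℓ : ℕ} [Fact ℓ.Prime] (hℓ : ¬ ℓ ∣ q) :
    NoMultiplierAt ℓ (Cfsg.SU 2 F q) := by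
  classical
  obtain ⟨K, hK⟩ := exists_real_subfield hF
  rw [Nat.card_eq_fintype_card] at hK
  obtain ⟨e⟩ := su_two_equiv_sl hF hK
  exact noMultiplierAt_of_mulEquiv e.symm (noMultiplierAt_slTwo_cross (by rw [hK]; exact hℓ))

theorem noDerivedAt_su_two (hF : Fintype.card F = q ^ 2) (hq : 3 ≤ q) {ℓ : ℕ} [Fact ℓ.Prime]
    (hℓ : ¬ ℓ ∣ q) : NoDerivedAt ℓ (Cfsg.SU 2 F q) := by
  classical
  rcases Nat.lt_or_ge q 4 with h | h
  · obtain rfl : q = 3 := by omega
    obtain ⟨K, hK⟩ := exists_real_subfield hF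
    rw [Nat.card_eq_fintype_card] at hK
    obtain ⟨e⟩ := su_two_equiv_sl hF hK
    refine noDerivedAt_of_trivial ?_ ℓ
    refine hasCyclicSchurMultiplier_one fun p hp => ?_
    have : Fact p.Prime := ⟨hp⟩
    refine noMultiplierAt_of_mulEquiv e.symm ?_
    intro Γ _ _ σ hσ z hz _
    obtain ⟨π, hπ⟩ := (hasCyclicSchurMultiplier_slTwo (F := K) (by omega) (by omega)).2 Γ σ hσ
    obtain ⟨a, ha⟩ := hπ ⟨z, hz⟩
    have : Subsingleton (Multiplicative (ZMod 1)) := inferInstanceAs (Subsingleton (ZMod 1))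
    rw [Subsingleton.elim a 1, map_one] at ha
    exact (congrArg Subtype.val ha).symm
  · exact noDerivedAt_of_perfect (commutator_su_two hF h) (noMultiplierAt_su_two hF hℓ)

theorem eight_dvd_commutator_su_two (hF : Fintype.card F = 3 ^ 2) :
    8 ∣ Nat.card (commutator (Cfsg.SU 2 F 3)) := by
  obtain ⟨e⟩ := su_two_equiv_sl (K := ZMod 3) hF (ZMod.card 3)
  have h8 := Cfsg.Agent.S2427.result.2.2.1
  rw [← CfsgLib.SchurCover.map_commutator_eq e.toMonoidHom e.surjective] at h8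
  rw [card_map_of_injective (show Function.Injective e.toMonoidHom from e.injective)] at h8
  rw [h8]

/-- The orders of `SU₃(q)` and of its subgroup `GU₂(q)`. -/
theorem card_su_three (hF : Fintype.card F = q ^ 2) :
    Nat.card (Cfsg.SU 3 F q) = q ^ 3 * (q - 1) * (q + 1) ^ 2 * (q ^ 2 - q + 1) ∧
      Nat.card (Cfsg.GU 2 F q) = q * (q - 1) * (q + 1) ^ 2 := by
  have hq := herm_two_le hF
  have h2 : Nat.card (Cfsg.GU 2 F q) = q * (q - 1) * (q + 1) ^ 2 := by
    rw [card_GU hF]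
    simp [Finset.prod_range_succ, Nat.even_iff]
    rw [show q ^ 2 - 1 = (q + 1) * (q - 1) from by simpa using Nat.sq_sub_sq q 1]
    ring
  refine ⟨?_, h2⟩
  rw [CfsgLib.TwoGroups.PSUThree.card_SU_three hF, h2]
  ring

theorem exists_norm_one_generator (hF : Fintype.card F = q ^ 2) :
    ∃ ζ : Fˣ, ζ ^ (q + 1) = 1 ∧ orderOf ζ = q + 1 ∧
      ∀ x : Fˣ, x ^ (q + 1) = 1 → x ∈ zpowers ζ := by
  obtain ⟨⟨ζ, hζ⟩, hgen⟩ := IsCyclic.exists_generator (α := (powMonoidHom (q + 1) : Fˣ →* Fˣ).ker)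
  refine ⟨ζ, hζ, ?_, fun x hx => ?_⟩
  · rw [← Subgroup.orderOf_mk ζ hζ, orderOf_eq_card_of_forall_mem_zpowers hgen, card_norm_one_units hF]
  · obtain ⟨i, hi⟩ := mem_zpowers_iff.1 (hgen ⟨x, hx⟩)
    exact mem_zpowers_iff.2 ⟨i, congrArg Subtype.val hi⟩

theorem exists_gu_two_det (hF : Fintype.card F = q ^ 2) {x : Fˣ} (hx : x ^ (q + 1) = 1) :
    ∃ g : Cfsg.GU 2 F q, Matrix.GeneralLinearGroup.det g.1 = x := by
  have hd : (Matrix.diagonal ![(x : F), 1]).det = x := by simp [Matrix.det_diagonal]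
  let g : GL (Fin 2) F :=
    Matrix.GeneralLinearGroup.mkOfDetNeZero (Matrix.diagonal ![(x : F), 1]) (by rw [hd]; exact x.ne_zero)
  refine ⟨⟨g, diagonal_mem_GU _ (fun i => ?_) g rfl⟩, Units.ext hd⟩
  have hx' := congrArg Units.val hx
  rw [Units.val_pow_eq_pow_val, Units.val_one] at hx'
  fin_cases i
  · exact hx'
  · exact one_pow _

/-- `SU₃(q)` has no multiplier at primes dividing neither `q` nor the index of `GU₂(q)`; at `q = 3`
only the prime `2` is left. -/
theorem noMultiplierAt_su_three_stab (hF : Fintype.card F = q ^ 2) (hq : 3 ≤ q) {ℓ : ℕ}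
    [Fact ℓ.Prime] (hℓ : ¬ ℓ ∣ q) (hℓ' : ¬ ℓ ∣ q ^ 2 - q + 1) (h32 : q = 3 → ℓ = 2) :
    NoMultiplierAt ℓ (Cfsg.SU 3 F q) := by
  classical
  let b := CfsgLib.TwoGroups.PSUThree.blkU hF
  have hb : Function.Injective b := CfsgLib.TwoGroups.PSUThree.blkU_injective hF
  let ι : Cfsg.SU 2 F q →* Cfsg.SU 3 F q := b.comp (suToGU 2 F q)
  let det : Cfsg.GU 2 F q →* Fˣ := Matrix.GeneralLinearGroup.det.comp (Cfsg.GU 2 F q).subtype
  have hrange : ∀ g : Cfsg.GU 2 F q, det g = 1 → b g ∈ ι.range := fun g hg => by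
    obtain ⟨s, hs⟩ := exists_SU_of_GU g (congrArg Units.val hg)
    refine ⟨s, ?_⟩
    show b (suToGU 2 F q s) = b g
    rw [show suToGU 2 F q s = g from Subtype.ext (Units.ext ((suToGU_val s).trans hs))]
  have hdet : ∀ s, det (suToGU 2 F q s) = 1 := fun s => Units.ext s.1.2
  obtain ⟨ζ, hζ, hζo, hζgen⟩ := exists_norm_one_generator hF
  obtain ⟨c₀, hc₀⟩ := exists_gu_two_det hF hζ
  have hc₀' : det c₀ = ζ := hc₀
  refine noMultiplierAt_of_cyclic_over ι (hb.comp suToGU_injective) (noDerivedAt_su_two hF hq hℓ)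
    (b c₀) ?_ ?_
  · rintro _ ⟨s, rfl⟩
    rw [show b c₀ * ι s * (b c₀)⁻¹ = b (c₀ * suToGU 2 F q s * c₀⁻¹) by simp [ι]]
    exact hrange _ (by rw [map_mul, map_mul, map_inv, hdet, mul_one, mul_inv_cancel])
  set H := (commutator (Cfsg.SU 2 F q)).map ι ⊔ zpowers (b c₀) with hH
  obtain ⟨hcard, hgu⟩ := card_su_three hF
  rcases Nat.lt_or_ge q 4 with h | h
  · obtain rfl : q = 3 := by omega
    obtain rfl := h32 rfl
    -- a subgroup of order divisible by 32
    let D₀ := (commutator (Cfsg.SU 2 F 3)).map (suToGU 2 F 3)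
    let H₀ := D₀ ⊔ zpowers c₀
    have hmap : H₀.map b = H := by
      simp only [H₀, D₀, H, ι, Subgroup.map_sup, Subgroup.map_map, MonoidHom.map_zpowers]
    let d := det.comp H₀.subtype
    have hker : Nat.card D₀ ∣ Nat.card d.ker := by
      have hle : D₀.subgroupOf H₀ ≤ d.ker := fun x hx => by
        obtain ⟨s, -, hs⟩ := mem_subgroupOf.1 hx
        show det x = 1
        rw [← hs, hdet]
      have := card_dvd_of_le hle
      rwa [Nat.card_congr (subgroupOfEquivOfLe (le_sup_left : D₀ ≤ H₀)).toEquiv] at this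
    have hrng : 4 ∣ Nat.card d.range := by
      have hle : zpowers ζ ≤ d.range :=
        zpowers_le.2 ⟨⟨c₀, mem_sup_right (mem_zpowers c₀)⟩, hc₀'⟩
      have := card_dvd_of_le hle
      rwa [Nat.card_zpowers, hζo] at this
    have h8 : 8 ∣ Nat.card D₀ := by
      rw [card_map_of_injective suToGU_injective]
      exact eight_dvd_commutator_su_two hF
    have h32' : 32 ∣ Nat.card H := by
      rw [← hmap, card_map_of_injective hb, ← d.ker.card_mul_index, index_ker]
      exact Nat.mul_dvd_mul (h8.trans hker) hrng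
    intro h2
    have h64 := Nat.mul_dvd_mul h32' h2
    rw [H.card_mul_index, hcard] at h64
    norm_num at h64
  · -- the whole stabiliser
    have htop : H = b.range := by
      rw [hH, commutator_su_two hF h, ← MonoidHom.range_eq_map]
      refine le_antisymm (sup_le (fun x hx => ?_) (zpowers_le.2 ⟨c₀, rfl⟩)) ?_
      · obtain ⟨s, rfl⟩ := hx; exact ⟨_, rfl⟩
      · rintro _ ⟨g, rfl⟩
        obtain ⟨i, hi⟩ := mem_zpowers_iff.1 (hζgen (det g) (GU_det_pow hF g))
        rw [show g = g * (c₀ ^ i)⁻¹ * c₀ ^ i by group, map_mul]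
        refine mul_mem (mem_sup_left (hrange _ ?_)) (mem_sup_right ⟨i, (map_zpow b c₀ i).symm⟩)
        rw [map_mul, map_inv, map_zpow, hc₀', hi, mul_inv_cancel]
    have hidx : H.index = q ^ 2 * (q ^ 2 - q + 1) := by
      have h1 := H.card_mul_index
      rw [htop, ← Nat.card_congr (MonoidHom.ofInjective hb).toEquiv, hgu, hcard] at h1
      rw [htop]
      have hpos : 0 < q * (q - 1) * (q + 1) ^ 2 :=
        Nat.mul_pos (Nat.mul_pos (by omega) (by omega)) (pow_pos (by omega) 2)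
      exact Nat.eq_of_mul_eq_mul_left hpos (h1.trans (by ring))
    rw [hidx]
    intro h2
    rcases (Fact.out : ℓ.Prime).dvd_mul.1 h2 with h3 | h3
    · exact hℓ ((Fact.out : ℓ.Prime).dvd_of_dvd_pow h3)
    · exact hℓ' h3

end CfsgLib.SUMult
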