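import Cfsg.Agent.Lib.SUMult.FiveSplit
import Cfsg.Agent.Lib.Phan.TwoChain

/-!
Central extensions of `SU_n(2)` split, `n ≥ 5` and `n ≠ 6`.
-/

set_option autoImplicit false
set_option linter.unusedSectionVars false

namespace CfsgLib.SUMult

open Subgroup Cfsg CfsgLib.Schur CfsgLib.Phan CfsgLib.ClassicalGroups
open CfsgLib.Phan.Two (T T_apply ww tt pp hh hc val_b01 val_b12 ww_val tt_val pp_val)
open scoped commutatorElement Pointwise

universe u

variable {F : Type u} [Field F] [Fintype F] {n : ℕ}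

/-- A twist in coordinates. -/
theorem act_T (hF : Fintype.card F = 2 ^ 2) {k : ℕ} (c : Fin k → Fˣ) (g : Cfsg.SU k F 2) (v : Fin k → F)
    (y : Fin k) :
    act (T hF (RingEquiv.refl F) c g) v y = (c y : F) * act g (fun z => ((c z)⁻¹ : Fˣ).1 * v z) y := by
  simp only [act, Matrix.mulVec, dotProduct, T_apply, Finset.mul_sum, RingEquiv.refl_apply]
  exact Finset.sum_congr rfl fun z _ => by ring

theorem mul_swap_central {G : Type*} [Group G] {u v w z : G}
    (h : ∀ g, g * (v * w⁻¹) = v * w⁻¹ * g) : u * v * (w⁻¹ * z⁻¹) = u * z⁻¹ * (v * w⁻¹) := by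
  rw [mul_assoc u z⁻¹, h z⁻¹]
  group

/-- Twists and blocks. -/
theorem T_emb (hF : Fintype.card F = 2 ^ 2) {k : ℕ} {e : Fin k → Fin n} (he : Function.Injective e)
    (c : Fin n → Fˣ) (g : Cfsg.SU k F 2) :
    T hF (RingEquiv.refl F) c (emb e he g) = emb e he (T hF (RingEquiv.refl F) (c ∘ e) g) := by
  refine act_ext fun x => funext fun y => ?_
  rw [act_T]
  by_cases hy : y ∈ Set.range e
  · obtain ⟨a, rfl⟩ := hy
    rw [act_emb_mem he, act_emb_mem he, act_T]
    rfl
  · rw [act_emb_not he _ _ hy, act_emb_not he _ _ hy, ← mul_assoc, Units.mul_inv, one_mul]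

theorem T_bk (hF : Fintype.card F = 2 ^ 2) {k : ℕ} {i : ℕ} (h : i + k ≤ n) (c : Fin n → Fˣ)
    (g : Cfsg.SU k F 2) :
    T hF (RingEquiv.refl F) c (bk i h g) = bk i h (T hF (RingEquiv.refl F) (c ∘ seg i h) g) :=
  T_emb hF (seg_injective i h) c g

theorem T_eq_self (hF : Fintype.card F = 2 ^ 2) {k : ℕ} (a : Fˣ) (g : Cfsg.SU k F 2) :
    T hF (RingEquiv.refl F) (fun _ => a) g = g := by
  refine su_ext (Matrix.ext fun i j => ?_)
  rw [T_apply, RingEquiv.refl_apply, mul_right_comm, Units.mul_inv, one_mul]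

/-- A diagonal element induces the twist. -/
theorem exists_diag_conj (hF : Fintype.card F = 2 ^ 2) (c : Fin n → Fˣ) (hc : ∏ i, c i = 1) :
    ∃ s : Cfsg.SU n F 2, ∀ g, s * g * s⁻¹ = T hF (RingEquiv.refl F) c g := by
  have hdet : (Matrix.diagonal fun i => (c i : F)).det = 1 := by
    rw [Matrix.det_diagonal, ← Units.coe_prod, hc, Units.val_one]
  let m : Matrix.SpecialLinearGroup (Fin n) F := ⟨Matrix.diagonal fun i => (c i : F), hdet⟩
  let s : Cfsg.SU n F 2 := ⟨m, mem_SU_iff_toGL.2 (diagonal_mem_GU (fun i => (c i : F)) (fun i => by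
    rw [show (2 + 1 : ℕ) = 3 from rfl]; exact CfsgLib.Phan.Two.cube_eq_one hF (c i).ne_zero) _ rfl)⟩
  have hs : ∀ v y, act s v y = (c y : F) * v y := fun v y => Matrix.mulVec_diagonal _ _ _
  refine ⟨s, fun g => ?_⟩
  rw [mul_inv_eq_iff_eq_mul]
  refine act_ext fun x => funext fun y => ?_
  rw [act_mul, act_mul, hs, act_T]
  congr 2
  funext z
  rw [hs, ← mul_assoc, Units.inv_mul, one_mul]

/-- A homomorphism of `SU₃(2)` to an abelian group invariant under a non-inner diagonal twist is
trivial. -/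
theorem hom_eq_one_of_invariant (hF : Fintype.card F = 2 ^ 2) {M : Type*} [CommGroup M]
    (χ : Cfsg.SU 3 F 2 →* M) (h : ∀ k g, χ (T hF (RingEquiv.refl F) ![1, 1, k] g) = χ g) : χ = 1 := by
  obtain ⟨ω, hω⟩ := CfsgLib.Phan.Two.exists_omega hF
  have h3 := CfsgLib.Phan.Two.omega_cube hω
  have h2 := CfsgLib.Phan.Two.two_eq_zero hF
  have htt : ∀ f : Cfsg.SU 2 F 2 →* M, f (tt hF hω) = 1 := fun f => by
    have e : tt hF hω * ww hF = ww hF * (tt hF hω * tt hF hω) := by
      refine su_ext ?_
      simp only [su_val_mul, tt_val, ww_val]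
      ext i j
      fin_cases i <;> fin_cases j <;> simp [Matrix.mul_apply, Fin.sum_univ_two] <;> grind
    have := congrArg f e
    rw [map_mul, map_mul, map_mul, mul_comm] at this
    exact mul_eq_left.1 (mul_left_cancel this).symm
  have t01 : χ (b01 (tt hF hω)) = 1 := htt (χ.comp b01)
  have t12 : χ (b12 (tt hF hω)) = 1 := htt (χ.comp b12)
  have hww : χ (b01 (ww hF)) = χ (b12 (ww hF)) := by
    have e : pp hF * b01 (ww hF) = b12 (ww hF) * pp hF := by
      refine su_ext ?_
      simp only [su_val_mul, val_b01, val_b12, ww_val, pp_val]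
      ext i j
      fin_cases i <;> fin_cases j <;> simp [Matrix.mul_apply, Fin.sum_univ_three]
    have := congrArg χ e
    rw [map_mul, map_mul, mul_comm] at this
    exact mul_right_cancel this
  have hval : ∀ k : Fˣ, (hc hF hω k).1.1 = !![1, 1, ((k⁻¹ : Fˣ) : F); 1, ω, ω ^ 2 * ((k⁻¹ : Fˣ) : F);
      (k : F), (k : F) * ω ^ 2, ω] := fun k => by
    ext i j
    rw [hc, T_apply]
    show _ * (RingEquiv.refl F) ((!![1, 1, 1; 1, ω, ω ^ 2; 1, ω ^ 2, ω] : Matrix (Fin 3) (Fin 3) F) i j) * _ = _
    fin_cases i <;> fin_cases j <;> simp <;> field_simp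
  have hk : ∀ k, χ (hc hF hω k) = χ (hh hF hω) := fun k => h k _
  let w : Fˣ := CfsgLib.Phan.Two.wu hω
  have hw : (w : F) = ω := rfl
  have hwi : ((w⁻¹ : Fˣ) : F) = ω ^ 2 := by
    rw [Units.val_inv_eq_inv_val, hw, inv_eq_of_mul_eq_one_right]; linear_combination h3
  have key : hh hF hω * hc hF hω w =
      hc hF hω (w * w) * b12 (ww hF) * (b01 (tt hF hω) * b12 (tt hF hω)) := by
    refine su_ext ?_
    simp only [su_val_mul, hval, val_b01, val_b12, ww_val, tt_val, _root_.mul_inv_rev, Units.val_mul, hwi, hw]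
    show (!![1, 1, 1; 1, ω, ω ^ 2; 1, ω ^ 2, ω] : Matrix (Fin 3) (Fin 3) F) * _ = _
    ext i j
    fin_cases i <;> fin_cases j <;> simp [Matrix.mul_apply, Fin.sum_univ_three] <;> grind
  have ha : χ (hh hF hω) = χ (b12 (ww hF)) := by
    have := congrArg χ key
    rw [map_mul, map_mul, map_mul, map_mul, hk, hk, t01, t12, mul_one, mul_one] at this
    exact mul_left_cancel this
  have hu : χ (b12 (ww hF)) = 1 := by
    have := congrArg χ (CfsgLib.Phan.Two.hh_sq hF hω)
    rw [map_mul, ha] at this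
    exact mul_eq_left.1 this
  have k01 : ∀ g, b01 g ∈ χ.ker := fun g => by
    have := CfsgLib.Phan.Two.gen_su2 hF hω (K := χ.ker.comap b01) t01 (hww.trans hu)
    have hg : g ∈ χ.ker.comap b01 := by rw [this]; exact mem_top g
    exact hg
  have k12 : ∀ g, b12 g ∈ χ.ker := fun g => by
    have := CfsgLib.Phan.Two.gen_su2 hF hω (K := χ.ker.comap b12) t12 hu
    have hg : g ∈ χ.ker.comap b12 := by rw [this]; exact mem_top g
    exact hg
  have htop := CfsgLib.Phan.Two.gen_su3 hF hω (K := χ.ker) k01 k12 fun k => by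
    rw [MonoidHom.mem_ker, hk, ha, hu]
  refine MonoidHom.ext fun x => ?_
  have hx : x ∈ χ.ker := by rw [htop]; exact mem_top x
  exact hx

variable {E : Type u} [Group E] [Finite E] (hF : Fintype.card F = 2 ^ 2)
  (p : E →* Cfsg.SU n F 2) (hp : Function.Surjective p) (hc : p.ker ≤ center E)

include hF hp hc

/-- A section. -/
theorem exists_section_two (hn : 5 ≤ n) (hn6 : n ≠ 6) :
    ∃ τ : Cfsg.SU n F 2 →* E, p.comp τ = MonoidHom.id (Cfsg.SU n F 2) := by
  classical
  have hperf : Group.IsPerfect (Cfsg.SU 4 F 2) :=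
    (Group.isPerfect_def).2 (SU_perfect hF (by omega) (by omega))
  let _ : CommGroup (center E) :=
    { (inferInstance : Group (center E)) with
      mul_comm := fun a b => Subtype.ext (mem_center_iff.1 b.2 a) }
  have hone : ∀ {A B : E}, p A = p B → A * B⁻¹ ∈ center E := fun {A B} h =>
    hc (by rw [MonoidHom.mem_ker, map_mul, map_inv, h, mul_inv_cancel])
  have key : ∀ i, ∃ f : Cfsg.SU 4 F 2 →* E, ∀ (h : i + 4 ≤ n) x, p (f x) = bk i h x := fun i => by
    by_cases h : i + 4 ≤ n
    · obtain ⟨f, hf⟩ := exists_lift_four hF (Or.inl rfl) hn p hp hc (seg i h) (seg_injective i h)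
      exact ⟨f, fun _ x => hf x⟩
    · exact ⟨1, fun h' => absurd h' h⟩
  choose f hf using key
  let ψ : ℕ → (Cfsg.SU 3 F 2 →* E) := fun i =>
    if i + 4 ≤ n then (f i).comp (bk 0 (by omega)) else (f (i - 1)).comp (bk 1 (by omega))
  have hψ : ∀ i (h : i + 3 ≤ n) x, p (ψ i x) = bk i h x := fun i h x => by
    simp only [ψ]
    split_ifs with h4
    · rw [MonoidHom.comp_apply, hf i h4, bk_bk i 0 h4 _ (by omega)]
      exact bk_congr (by omega) _ _ x
    · rw [MonoidHom.comp_apply, hf (i - 1) (by omega), bk_bk (i - 1) 1 (by omega) _ (by omega)]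
      exact bk_congr (by omega) _ _ x
  have hconj : ∀ (c : Fin n → Fˣ), ∏ i, c i = 1 → ∃ S : E,
      (∀ g, p S * g * (p S)⁻¹ = T hF (RingEquiv.refl F) c g) ∧
      (∀ i (h : i + 4 ≤ n) g, S * f i g * S⁻¹ = f i (T hF (RingEquiv.refl F) (c ∘ seg i h) g)) ∧
      ∀ i (h : i + 3 ≤ n) g, S * ψ i g * S⁻¹ = ψ i (T hF (RingEquiv.refl F) (c ∘ seg i h) g) := by
    intro c hcp
    obtain ⟨s, hs⟩ := exists_diag_conj hF c hcp
    obtain ⟨S, rfl⟩ := hp s
    have h1 : ∀ i (h : i + 4 ≤ n) g, S * f i g * S⁻¹ = f i (T hF (RingEquiv.refl F) (c ∘ seg i h) g) :=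
      fun i h g => DFunLike.congr_fun (CfsgLib.SchurCover.hom_ext_of_perfect hperf hc
        ((MulAut.conj S).toMonoidHom.comp (f i)) ((f i).comp (T hF (RingEquiv.refl F) (c ∘ seg i h)))
        (MonoidHom.ext fun g => by
          simp only [MonoidHom.comp_apply, MulEquiv.coe_toMonoidHom, MulAut.conj_apply, map_mul, map_inv]
          rw [hf i h, hs, T_bk, hf i h])) g
    refine ⟨S, hs, h1, fun i h g => ?_⟩
    simp only [ψ]
    split_ifs with h4
    · rw [MonoidHom.comp_apply, MonoidHom.comp_apply, h1 i h4, T_bk]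
      congr 4
      all_goals
        funext a
        simp only [Function.comp_apply]
        congr 1
        exact Fin.ext (by simp only [seg]; omega)
    · rw [MonoidHom.comp_apply, MonoidHom.comp_apply, h1 (i - 1) (by omega), T_bk]
      congr 4
      funext a
      simp only [Function.comp_apply]
      congr 1
      exact Fin.ext (by simp only [seg]; omega)
  -- consecutive blocks agree
  have agree : ∀ i (h : i + 5 ≤ n) (x : Cfsg.SU 3 F 2), f i (bk 1 (by omega) x) = f (i + 1) (bk 0 (by omega) x) := by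
    intro i h x
    have him : ∀ y : Cfsg.SU 3 F 2, p (f i (bk 1 (by omega) y)) = p (f (i + 1) (bk 0 (by omega) y)) := fun y => by
      rw [hf i (by omega), hf (i + 1) (by omega), bk_bk i 1 _ _ (show i + 1 + 3 ≤ n by omega),
        bk_bk (i + 1) 0 _ _ (show i + 1 + 0 + 3 ≤ n by omega)]
    let χ : Cfsg.SU 3 F 2 →* center E := MonoidHom.mk'
      (fun y => ⟨f i (bk 1 (by omega) y) * (f (i + 1) (bk 0 (by omega) y))⁻¹, hone (him y)⟩)
      fun a b => Subtype.ext (by
        show f i (bk 1 _ (a * b)) * (f (i + 1) (bk 0 _ (a * b)))⁻¹ =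
          f i (bk 1 _ a) * (f (i + 1) (bk 0 _ a))⁻¹ * (f i (bk 1 _ b) * (f (i + 1) (bk 0 _ b))⁻¹)
        simp only [map_mul, mul_inv_rev]
        exact mul_swap_central (mem_center_iff.1 (hone (him b))))
    have hχ : χ = 1 := hom_eq_one_of_invariant hF χ fun k g => by
      let c : Fin n → Fˣ :=
        Pi.mulSingle (⟨i + 3, by omega⟩ : Fin n) k * Pi.mulSingle (⟨i, by omega⟩ : Fin n) k⁻¹
      obtain ⟨S, -, hS, -⟩ := hconj c (by
        simp only [c, Pi.mul_apply]
        rw [Finset.prod_mul_distrib, Finset.prod_pi_mulSingle', Finset.prod_pi_mulSingle']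
        simp)
      have hc3 : c ∘ seg (i + 1) (show i + 1 + 3 ≤ n by omega) = ![1, 1, k] := funext fun a => by
        fin_cases a <;> simp [c, seg, Pi.mulSingle_apply, Fin.ext_iff] <;> intros <;> exfalso <;> omega
      have e1 : S * f i (bk 1 (by omega) g) * S⁻¹ =
          f i (bk 1 (by omega) (T hF (RingEquiv.refl F) ![1, 1, k] g)) := by
        rw [hS i (by omega), T_bk, ← hc3]
        congr 4
        all_goals
          funext a
          simp only [Function.comp_apply]
          congr 1
          exact Fin.ext (by simp only [seg]; omega)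
      have e2 : S * f (i + 1) (bk 0 (by omega) g) * S⁻¹ =
          f (i + 1) (bk 0 (by omega) (T hF (RingEquiv.refl F) ![1, 1, k] g)) := by
        rw [hS (i + 1) (by omega), T_bk, ← hc3]
        congr 4
        all_goals
          funext a
          simp only [Function.comp_apply]
          congr 1
          exact Fin.ext (by simp only [seg]; omega)
      refine Subtype.ext ?_
      show f i (bk 1 _ _) * (f (i + 1) (bk 0 _ _))⁻¹ = f i (bk 1 _ g) * (f (i + 1) (bk 0 _ g))⁻¹
      rw [← e1, ← e2, show ∀ s a b : E, s * a * s⁻¹ * (s * b * s⁻¹)⁻¹ = s * (a * b⁻¹) * s⁻¹ from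
        fun s a b => by group, mem_center_iff.1 (hone (him g)) S, mul_inv_cancel_right]
    exact mul_inv_eq_one.1 (congrArg Subtype.val (DFunLike.congr_fun hχ x))
  have four : ∀ i, i + 4 ≤ n → ∃ g : Cfsg.SU 4 F 2 →* E, (∀ x, g (bk 0 (by omega) x) = ψ i x) ∧
      ∀ x, g (bk 1 (by omega) x) = ψ (i + 1) x := fun i hi => by
    refine ⟨f i, fun x => by simp only [ψ, if_pos hi, MonoidHom.comp_apply], fun x => ?_⟩
    simp only [ψ]
    split_ifs with h5
    · exact agree i (by omega) x
    · rw [MonoidHom.comp_apply, Nat.add_sub_cancel]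
  let S : CfsgLib.Phan.Two.Sys F E n :=
    { ψ := ψ
      link := fun i hi x => by
        obtain ⟨g, g0, g1⟩ := four i hi
        rw [← g0, ← g1, b12, b01, bk_bk 0 1 _ _ (by omega), bk_bk 1 0 _ _ (by omega)]
      far := fun a b hab hb x y => by
        set X := ψ a (b01 x) with hX
        have hpX : p X = bk a (show a + 2 ≤ n by omega) x := by
          rw [hX, hψ a (by omega), b01, bk_bk a 0 _ _ (by omega)]
          exact bk_congr (by omega) _ _ x
        have hmem : ∀ z, ⁅X, ψ b z⁆ ∈ center E := fun z => hc (by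
          rw [MonoidHom.mem_ker, map_commutatorElement, hpX, hψ b hb, commutatorElement_eq_one_iff_commute]
          exact bk_commute _ _ (by omega) x z)
        let χ : Cfsg.SU 3 F 2 →* center E := MonoidHom.mk' (fun z => ⟨⁅X, ψ b z⁆, hmem z⟩) fun u v =>
          Subtype.ext (by
            show ⁅X, ψ b (u * v)⁆ = ⁅X, ψ b u⁆ * ⁅X, ψ b v⁆
            rw [map_mul]
            calc ⁅X, ψ b u * ψ b v⁆ = ⁅X, ψ b u⁆ * (ψ b u * ⁅X, ψ b v⁆ * (ψ b u)⁻¹) := by
                  simp only [commutatorElement_def]; group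
              _ = _ := by rw [mem_center_iff.1 (hmem v) (ψ b u), mul_inv_cancel_right])
        have hχ : χ = 1 := hom_eq_one_of_invariant hF χ fun k g => by
          let c : Fin n → Fˣ := Pi.mulSingle (⟨a, by omega⟩ : Fin n) k *
            Pi.mulSingle (⟨a + 1, by omega⟩ : Fin n) k * Pi.mulSingle (⟨b + 2, by omega⟩ : Fin n) k
          obtain ⟨S, hS, -, hSψ⟩ := hconj c (by
            simp only [c, Pi.mul_apply]
            rw [Finset.prod_mul_distrib, Finset.prod_mul_distrib, Finset.prod_pi_mulSingle',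
              Finset.prod_pi_mulSingle', Finset.prod_pi_mulSingle']
            simp only [Finset.mem_univ, if_true]
            rw [← pow_three']
            exact Units.ext (CfsgLib.Phan.Two.cube_eq_one hF k.ne_zero))
          have hc2 : c ∘ seg a (show a + 2 ≤ n by omega) = fun _ => k := funext fun i => by
            fin_cases i <;> simp [c, seg, Pi.mulSingle_apply, Fin.ext_iff] <;>
              intros <;> exfalso <;> omega
          have hc3 : c ∘ seg b hb = ![1, 1, k] := funext fun i => by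
            fin_cases i <;> simp [c, seg, Pi.mulSingle_apply, Fin.ext_iff] <;>
              first | (intros; exfalso; omega) | (repeat rw [if_neg (by omega)])
          have hSX : p (S * X * S⁻¹) = p X := by
            rw [map_mul, map_mul, map_inv, hS, hpX, T_bk, hc2, T_eq_self]
          refine Subtype.ext ?_
          show ⁅X, ψ b _⁆ = ⁅X, ψ b g⁆
          rw [← hc3, ← hSψ b hb, ← commutator_congr hc hSX rfl,
            show ∀ s u v : E, ⁅s * u * s⁻¹, s * v * s⁻¹⁆ = s * ⁅u, v⁆ * s⁻¹ from
              fun s u v => by simp only [commutatorElement_def]; group,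
            mem_center_iff.1 (hmem g) S, mul_inv_cancel_right]
        exact commutatorElement_eq_one_iff_commute.1 (congrArg Subtype.val (DFunLike.congr_fun hχ y))
      far3 := fun i hi x y => by
        obtain ⟨l, hl, hlout⟩ : ∃ l, l < n ∧ (l < i ∨ i + 6 ≤ l) := by
          rcases Nat.eq_zero_or_pos i with rfl | h0
          · exact ⟨6, by omega, Or.inr le_rfl⟩
          · exact ⟨0, by omega, Or.inl h0⟩
        let t : Fin 4 → Fin n := ![⟨i + 3, by omega⟩, ⟨i + 4, by omega⟩, ⟨i + 5, by omega⟩, ⟨l, hl⟩]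
        have ht : Function.Injective t := fun u v huv => by
          fin_cases u <;> fin_cases v <;> simp [t, Fin.ext_iff] at huv <;> first | rfl | omega
        obtain ⟨g, hg⟩ := exists_lift_four hF (Or.inl rfl) hn p hp hc t ht
        have h1 : Commute (ψ i x) (g (bk 0 (show 0 + 3 ≤ 4 by omega) y)) := by
          refine commute_of_perfect hperf hc g (ψ i x) (fun k => ?_) _
          rw [hψ i (by omega), hg]
          exact emb_commute _ ht (fun u v huv => by
            have := congrArg Fin.val huv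
            fin_cases v <;> simp [t, seg] at this <;> omega) x k
        refine (commute_of_same hc ?_ h1.symm).symm
        rw [hψ (i + 3) (by omega), hg, bk, bk, emb_comp]
        exact emb_congr _ _ (funext fun u => by fin_cases u <;> simp [t, seg]) y
      four := four }
  obtain ⟨τ, hτ⟩ := CfsgLib.Phan.Two.exists_hom hF n (by omega) S
  refine ⟨τ, MonoidHom.ext fun s => ?_⟩
  have h := CfsgLib.Phan.Two.closure_triples hF n (by omega) ((p.comp τ).eqLocus (MonoidHom.id _))
    fun i hi g => by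
      show p (τ (bk i hi g)) = bk i hi g
      rw [hτ]
      exact hψ i hi g
  have : s ∈ (p.comp τ).eqLocus (MonoidHom.id _) := by rw [h]; trivial
  exact this

end CfsgLib.SUMult
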