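import Cfsg.Agent.Lib.Schur.Criteria
import Cfsg.Prelude.Def_Classical
import Mathlib.LinearAlgebra.Matrix.Charpoly.Minpoly
import Mathlib.FieldTheory.Finite.Basic
import Mathlib.FieldTheory.Separable
import Mathlib.RingTheory.AdjoinRoot
import Mathlib.RingTheory.IntegralDomain
import Mathlib.GroupTheory.PGroup
import Mathlib.LinearAlgebra.FreeModule.Finite.Matrix
import Mathlib.Tactic.Ring
import Mathlib.Tactic.Linarith

/-!
Cyclic Sylow subgroups in `SU₃(q)` at the primes dividing `q² - q + 1` other than three.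
-/

set_option autoImplicit false

namespace CfsgLib.SUMult

open Subgroup Cfsg CfsgLib.Schur Polynomial

universe u

variable {F : Type u} [Field F]

/-- What commutes with a matrix of irreducible cubic minimal polynomial is a polynomial in it. -/
theorem exists_aeval_of_commute (x g : Matrix (Fin 3) (Fin 3) F) (hirr : Irreducible (minpoly F x))
    (hdeg : (minpoly F x).natDegree = 3) (hg : Commute g x) : ∃ P : F[X], g = aeval x P := by
  classical
  set f := minpoly F x with hf
  have hmonic : f.Monic := minpoly.monic (Algebra.IsIntegral.isIntegral x)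
  let e : Fin 3 → F := Pi.single 0 1
  have he : e ≠ 0 := fun h => by simpa [e] using congrFun h 0
  have hzero : ∀ P : F[X], (aeval x P).mulVec e = 0 → f ∣ P := fun P hP => by
    by_contra hnd
    obtain ⟨a, b, hab⟩ := (hirr.coprime_iff_not_dvd.2 hnd)
    refine he ?_
    have h1 := congrArg (fun A : Matrix (Fin 3) (Fin 3) F => A.mulVec e) (congrArg (aeval x) hab)
    simp only [map_add, map_mul, map_one, hf, minpoly.aeval, mul_zero, zero_add, Matrix.one_mulVec,
      ← Matrix.mulVec_mulVec, hP, Matrix.mulVec_zero] at h1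
    exact h1.symm
  let φ : (Fin 3 → F) →ₗ[F] (Fin 3 → F) :=
    { toFun := fun a => (aeval x (C (a 0) + C (a 1) * X + C (a 2) * X ^ 2)).mulVec e
      map_add' := fun a b => by
        rw [← Matrix.add_mulVec, ← map_add]
        congr 2
        simp only [Pi.add_apply, map_add]; ring
      map_smul' := fun c a => by
        rw [RingHom.id_apply, ← Matrix.smul_mulVec, ← map_smul, smul_eq_C_mul]
        congr 2
        simp only [Pi.smul_apply, smul_eq_mul, map_mul]; ring }
  have hinj : Function.Injective φ := by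
    refine (injective_iff_map_eq_zero φ).2 fun a ha => ?_
    have h1 := hzero _ ha
    have h2 : (C (a 0) + C (a 1) * X + C (a 2) * X ^ 2) = 0 := by
      refine Polynomial.eq_zero_of_dvd_of_natDegree_lt h1 ?_
      rw [hdeg]
      refine lt_of_le_of_lt (?_ : _ ≤ 2) (by norm_num)
      compute_degree!
    funext i
    fin_cases i
    · simpa using congrArg (coeff · 0) h2
    · simpa using congrArg (coeff · 1) h2
    · simpa using congrArg (coeff · 2) h2
  have hsurj : Function.Surjective φ := LinearMap.surjective_of_injective hinj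
  obtain ⟨a, ha⟩ := hsurj (g.mulVec e)
  set P : F[X] := C (a 0) + C (a 1) * X + C (a 2) * X ^ 2 with hP
  have ha' : (aeval x P).mulVec e = g.mulVec e := ha
  refine ⟨P, ?_⟩
  have hcomm : ∀ R : F[X], Commute g (aeval x R) := fun R => by
    induction R using Polynomial.induction_on' with
    | add R S hR hS => rw [map_add]; exact hR.add_right hS
    | monomial k c =>
      rw [aeval_monomial]
      exact (show Commute g (algebraMap F _ c) from (Algebra.commutes c g).symm).mul_right (hg.pow_right k)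
  refine Matrix.ext_of_mulVec_single fun i => ?_
  obtain ⟨b, hb⟩ := hsurj (Pi.single i 1)
  set R : F[X] := C (b 0) + C (b 1) * X + C (b 2) * X ^ 2
  have hb' : (aeval x R).mulVec e = Pi.single i 1 := hb
  rw [← hb', Matrix.mulVec_mulVec, Matrix.mulVec_mulVec, (hcomm R).eq, ← Matrix.mulVec_mulVec, ← ha',
    Matrix.mulVec_mulVec, ← map_mul, ← map_mul, mul_comm]

variable [Fintype F]

/-- An element of prime order `ℓ` outside `GL₁` and `GL₂` has irreducible cubic minimal polynomial. -/
theorem minpoly_cubic {ℓ : ℕ} [Fact ℓ.Prime] (hℓF : ((ℓ : ℕ) : F) ≠ 0)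
    (h1 : ¬ ℓ ∣ Fintype.card F - 1) (h2 : ¬ ℓ ∣ Fintype.card F ^ 2 - 1)
    (x : Matrix (Fin 3) (Fin 3) F) (hx : x ^ ℓ = 1) (hx1 : x ≠ 1) :
    Irreducible (minpoly F x) ∧ (minpoly F x).natDegree = 3 := by
  classical
  have hl : ℓ.Prime := Fact.out
  set f := minpoly F x with hf
  have hint : IsIntegral F x := Algebra.IsIntegral.isIntegral x
  have hmonic : f.Monic := minpoly.monic hint
  have hsep : (X ^ ℓ - 1 : F[X]).Separable := X_pow_sub_one_separable_iff.2 hℓF
  have hfdvd : f ∣ X ^ ℓ - 1 := minpoly.dvd F x (by simp [hx])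
  have hdeg : f.natDegree ≤ 3 := by
    have := natDegree_le_of_dvd (Matrix.minpoly_dvd_charpoly x) (Matrix.charpoly_monic x).ne_zero
    rwa [Matrix.charpoly_natDegree_eq_dim, Fintype.card_fin] at this
  -- an irreducible factor prime to `X - 1`
  obtain ⟨g, hg⟩ : ∃ g : F[X], g ∣ f ∧ Irreducible g ∧ g.Monic ∧ ¬ g ∣ X - 1 := by
    by_contra hno
    push Not at hno
    have hone : (X - 1 : F[X]) = X - C 1 := by rw [map_one]
    have hX : f ∣ X - 1 := by
      rcases eq_or_ne f 1 with h | h
      · rw [h]; exact one_dvd _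
      by_contra hnd
      have hsq : Squarefree f := (hsep.of_dvd hfdvd).squarefree
      obtain ⟨g, hgm, hgi, hgd⟩ := Polynomial.exists_monic_irreducible_factor f
        (fun hu => h (hmonic.eq_one_of_isUnit hu))
      have hgX : g ∣ X - 1 := hno g hgd hgi hgm
      obtain ⟨r, hr⟩ := hgd
      have hrm : r.Monic := hgm.of_mul_monic_left (hr ▸ hmonic)
      rcases eq_or_ne r 1 with h' | h'
      · rw [h', mul_one] at hr; exact hnd (hr ▸ hgX)
      obtain ⟨g', hgm', hgi', hgd'⟩ := Polynomial.exists_monic_irreducible_factor r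
        (fun hu => h' (hrm.eq_one_of_isUnit hu))
      have hgX' : g' ∣ X - 1 := hno g' (hgd'.trans ⟨g, by rw [hr, mul_comm]⟩) hgi' hgm'
      have hirr : Irreducible (X - 1 : F[X]) := hone ▸ irreducible_X_sub_C 1
      have e1 : g = g' := eq_of_monic_of_associated hgm hgm'
        ((hgi.associated_of_dvd hirr hgX).trans (hgi'.associated_of_dvd hirr hgX').symm)
      obtain ⟨s, hs⟩ := hgd'
      exact hgi.not_isUnit (hsq g ⟨s, by rw [hr, hs, ← e1, mul_assoc]⟩)
    have h0 : aeval x (X - 1 : F[X]) = 0 := by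
      obtain ⟨r, hr⟩ := hX
      rw [hr, map_mul, hf, minpoly.aeval, zero_mul]
    simp only [map_sub, aeval_X, map_one] at h0
    exact hx1 (sub_eq_zero.1 h0)
  obtain ⟨hgf, hgi, hgm, hgX⟩ := hg
  have : Fact (Irreducible g) := ⟨hgi⟩
  set r := AdjoinRoot.root g with hr
  have hrl : r ^ ℓ = 1 := by
    obtain ⟨s, hs⟩ := hgf.trans hfdvd
    have := congrArg (aeval r) hs
    simp only [map_sub, map_pow, aeval_X, map_one, map_mul, hr, AdjoinRoot.aeval_eq, AdjoinRoot.mk_self,
      zero_mul] at this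
    exact sub_eq_zero.1 this
  have hr1 : r ≠ 1 := fun h => hgX (AdjoinRoot.mk_eq_zero.1 (by
    rw [map_sub, AdjoinRoot.mk_X, map_one, ← hr, h, sub_self]))
  have hgdeg : g.natDegree = 3 := by
    let pb := AdjoinRoot.powerBasis hgi.ne_zero
    have : Fintype (AdjoinRoot g) := Fintype.ofEquiv _ pb.basis.equivFun.symm.toEquiv
    have hcardE : Fintype.card (AdjoinRoot g) = Fintype.card F ^ g.natDegree := by
      rw [Module.card_fintype pb.basis, Fintype.card_fin, AdjoinRoot.powerBasis_dim]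
    have hr0 : r ≠ 0 := fun h => by simp [h, zero_pow hl.ne_zero] at hrl
    have hord : orderOf (Units.mk0 r hr0) = ℓ :=
      orderOf_eq_prime (Units.ext (by simpa using hrl))
        fun h => hr1 (by simpa using congrArg Units.val h)
    have hdvd : ℓ ∣ Fintype.card F ^ g.natDegree - 1 := by
      rw [← hcardE, ← Fintype.card_units, ← hord]; exact orderOf_dvd_card
    have hle : g.natDegree ≤ 3 := (natDegree_le_of_dvd hgf hmonic.ne_zero).trans hdeg
    have hpos := hgi.natDegree_pos
    interval_cases hk : g.natDegree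
    · rw [pow_one] at hdvd; exact absurd hdvd h1
    · exact absurd hdvd h2
    · rfl
  have hfg : f = g := by
    refine (eq_of_monic_of_dvd_of_natDegree_le hgm hmonic hgf ?_)
    rw [hgdeg]; exact hdeg
  exact ⟨hfg ▸ hgi, hfg ▸ hgdeg⟩

/-- A subgroup centralised by an element with irreducible cubic minimal polynomial is cyclic. -/
theorem isCyclic_of_cubic (x : Matrix (Fin 3) (Fin 3) F) (hirr : Irreducible (minpoly F x))
    (hdeg : (minpoly F x).natDegree = 3) {H : Type*} [Group H] [Finite H]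
    (θ : H →* Matrix (Fin 3) (Fin 3) F) (hθ : Function.Injective θ) (hc : ∀ h, Commute (θ h) x) :
    IsCyclic H := by
  classical
  have : Fact (Irreducible (minpoly F x)) := ⟨hirr⟩
  let ψ : AdjoinRoot (minpoly F x) →+* Matrix (Fin 3) (Fin 3) F :=
    Ideal.Quotient.lift _ (aeval x).toRingHom fun P hP => by
      obtain ⟨R, rfl⟩ := Ideal.mem_span_singleton.1 hP
      show aeval x (minpoly F x * R) = 0
      rw [map_mul, minpoly.aeval, zero_mul]
  have hψ : Function.Injective ψ := ψ.injective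
  have hψm : ∀ P : F[X], ψ (AdjoinRoot.mk _ P) = aeval x P := fun P => Ideal.Quotient.lift_mk _ _ _
  choose P hP using fun h => exists_aeval_of_commute x (θ h) hirr hdeg (hc h)
  let χ : H →* AdjoinRoot (minpoly F x) :=
    { toFun := fun h => AdjoinRoot.mk _ (P h)
      map_one' := hψ (by rw [hψm, ← hP, map_one, map_one])
      map_mul' := fun a b => hψ (by rw [hψm, ← hP, map_mul, map_mul, hψm, hψm, ← hP, ← hP]) }
  refine isCyclic_of_subgroup_isDomain χ fun a b hab => hθ ?_
  have := congrArg ψ hab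
  simpa only [χ, MonoidHom.coe_mk, OneHom.coe_mk, hψm, ← hP] using this

variable {q : ℕ}

theorem noMultiplierAt_su_three_singer (hF : Fintype.card F = q ^ 2) {ℓ : ℕ} [Fact ℓ.Prime]
    (hℓq : ¬ ℓ ∣ q) (hℓ3 : ℓ ≠ 3) (hℓ : ℓ ∣ q ^ 2 - q + 1) :
    NoMultiplierAt ℓ (Cfsg.SU 3 F q) := by
  classical
  have hl : ℓ.Prime := Fact.out
  have hqpos : 1 ≤ q := by
    rcases Nat.eq_zero_or_pos q with h | h
    · exact absurd (h ▸ dvd_zero ℓ) hℓq
    · exact h
  have hℓF : ((ℓ : ℕ) : F) ≠ 0 := by
    intro h0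
    obtain ⟨p, hp⟩ := CharP.exists F
    have hpp : p.Prime := CharP.char_is_prime F p
    obtain ⟨n, -, hn⟩ := FiniteField.card F p
    have h1 : p ∣ ℓ := (CharP.cast_eq_zero_iff F p ℓ).1 h0
    rw [Nat.prime_dvd_prime_iff_eq hpp hl] at h1
    refine hℓq (hl.dvd_of_dvd_pow (n := 2) ?_)
    rw [← hF, hn, h1]
    exact dvd_pow_self ℓ n.ne_zero
  have key : ∀ k : ℕ, k = 1 ∨ k = 2 → ¬ ℓ ∣ (q ^ 2) ^ k - 1 := by
    intro k hk hdvd
    have hz : ((q : ZMod ℓ)) ^ 2 - q + 1 = 0 := by
      have h := (ZMod.natCast_eq_zero_iff (q ^ 2 - q + 1) ℓ).2 hℓ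
      rw [Nat.cast_add, Nat.cast_sub (Nat.le_self_pow two_ne_zero q)] at h
      simpa using h
    have hp : ((q : ZMod ℓ) ^ 2) ^ k = 1 := by
      have h := (ZMod.natCast_eq_zero_iff ((q ^ 2) ^ k - 1) ℓ).2 hdvd
      rw [Nat.cast_sub (Nat.one_le_pow _ _ (pow_pos hqpos 2)), sub_eq_zero] at h
      simpa using h
    set a : ZMod ℓ := (q : ZMod ℓ)
    have h3 : a ^ 3 = -1 := by linear_combination (a + 1) * hz
    have h2 : a ^ 2 = 1 := by
      rcases hk with rfl | rfl
      · simpa using hp
      · have h6 : a ^ 6 = 1 := by linear_combination (a ^ 3 - 1) * h3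
        linear_combination h6 - a ^ 2 * hp
    have ha : a = -1 := by linear_combination h3 - a * h2
    rw [ha] at hz
    have h30 : ((3 : ℕ) : ZMod ℓ) = 0 := by push_cast; linear_combination hz
    exact hℓ3 ((Nat.prime_dvd_prime_iff_eq hl Nat.prime_three).1 ((ZMod.natCast_eq_zero_iff 3 ℓ).1 h30))
  obtain ⟨S⟩ : Nonempty (Sylow ℓ (Cfsg.SU 3 F q)) := inferInstance
  refine noMultiplierAt_of_cyclic S ?_
  rcases eq_or_ne (S : Subgroup (Cfsg.SU 3 F q)) ⊥ with h | h
  · rw [h]; infer_instance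
  have : Nontrivial (S : Subgroup (Cfsg.SU 3 F q)) := (nontrivial_iff_ne_bot _).2 h
  have := S.isPGroup'.center_nontrivial
  have hcen : IsPGroup ℓ (center (S : Subgroup (Cfsg.SU 3 F q))) := S.isPGroup'.to_subgroup _
  obtain ⟨k, hk0, hk⟩ := hcen.nontrivial_iff_card.1 inferInstance
  obtain ⟨z, hz⟩ := exists_prime_orderOf_dvd_card' (G := center (S : Subgroup (Cfsg.SU 3 F q))) ℓ
    (hk ▸ dvd_pow_self ℓ (by omega))
  let θ : (S : Subgroup (Cfsg.SU 3 F q)) →* Matrix (Fin 3) (Fin 3) F :=
    (slToMat 3 F).comp ((Cfsg.SU 3 F q).subtype.comp (S : Subgroup (Cfsg.SU 3 F q)).subtype)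
  have hθ : Function.Injective θ := fun a b h => Subtype.ext (Subtype.ext (Subtype.ext h))
  have hxl : θ z ^ ℓ = 1 := by
    have h1 : z ^ ℓ = 1 := orderOf_dvd_iff_pow_eq_one.1 (dvd_of_eq hz)
    rw [← map_pow, ← SubmonoidClass.coe_pow, h1, OneMemClass.coe_one, map_one]
  have hx1 : θ z ≠ 1 := fun h1 => by
    have : z = 1 := Subtype.ext (hθ (h1.trans (map_one θ).symm))
    rw [this, orderOf_one] at hz
    exact hl.one_lt.ne' hz.symm
  obtain ⟨hi, hd⟩ := minpoly_cubic hℓF (by rw [hF]; simpa using key 1 (Or.inl rfl))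
    (by rw [hF]; exact key 2 (Or.inr rfl)) (θ z) hxl hx1
  exact isCyclic_of_cubic (θ z) hi hd θ hθ fun s => by
    rw [Commute, SemiconjBy, ← map_mul, ← map_mul, (mem_center_iff.1 z.2 s)]

end CfsgLib.SUMult
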