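import Cfsg.Agent.Lib.SUMult.PointStab
import Cfsg.Agent.Lib.SUMult.Singer
import Cfsg.Agent.Lib.SUMult.ThreePart
import Cfsg.Agent.Lib.SUMult.CharPart

/-!
`SU₃(q)`, `q ≥ 3`, has trivial Schur multiplier.
-/

set_option autoImplicit false

namespace CfsgLib.SUMult

open Subgroup Cfsg CfsgLib.Schur

universe u

variable {F : Type u} [Field F] [Fintype F] {q : ℕ}

theorem hasCyclicSchurMultiplier_su_three (hF : Fintype.card F = q ^ 2) (hq : 3 ≤ q) :
    Cfsg.HasCyclicSchurMultiplier (Cfsg.SU 3 F q) 1 := by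
  refine hasCyclicSchurMultiplier_one fun l hl => ?_
  have : Fact l.Prime := ⟨hl⟩
  by_cases hlq : l ∣ q
  · exact noMultiplierAt_su_three_char hF hq hlq
  by_cases hs : l ∣ q ^ 2 - q + 1
  · by_cases hl3 : l = 3
    · subst hl3
      refine noMultiplierAt_su_three_three hF hq ?_
      rcases (show q % 3 = 0 ∨ q % 3 = 1 ∨ q % 3 = 2 by omega) with h | h | h
      · exact absurd (Nat.dvd_of_mod_eq_zero h) hlq
      · exfalso
        have h2 : q ^ 2 % 3 = 1 := by rw [Nat.pow_mod, h]
        have := Nat.le_self_pow two_ne_zero q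
        omega
      · omega
    · exact noMultiplierAt_su_three_singer hF hlq hl3 hs
  by_cases hG : l ∣ Nat.card (Cfsg.SU 3 F q)
  · refine noMultiplierAt_su_three_stab hF hq hlq hs fun h => ?_
    subst h
    rw [(card_su_three hF).1] at hG
    norm_num at hG
    have h1 : l ∣ 2 ^ 5 * 3 ^ 3 * 7 := by norm_num; exact hG
    rcases hl.dvd_mul.1 h1 with h1 | h1
    · rcases hl.dvd_mul.1 h1 with h1 | h1
      · exact (Nat.prime_dvd_prime_iff_eq hl Nat.prime_two).1 (hl.dvd_of_dvd_pow h1)
      · exact absurd (hl.dvd_of_dvd_pow h1) hlq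
    · exact absurd h1 (by simpa using hs)
  · obtain ⟨S⟩ : Nonempty (Sylow l (Cfsg.SU 3 F q)) := inferInstance
    refine noMultiplierAt_of_cyclic S ?_
    obtain ⟨k, hk⟩ := S.isPGroup'.exists_card_eq
    have h1 := card_subgroup_dvd_card (S : Subgroup (Cfsg.SU 3 F q))
    rcases Nat.eq_zero_or_pos k with rfl | hk0
    · have : Subsingleton (S : Subgroup (Cfsg.SU 3 F q)) := by
        rw [pow_zero] at hk
        exact (Nat.card_eq_one_iff_unique.1 hk).1
      exact isCyclic_of_subsingleton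
    · exact absurd ((dvd_pow_self l hk0.ne').trans (hk ▸ h1)) hG

end CfsgLib.SUMult
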